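import Cfsg.Agent.Cam.E8.Iface
import Cfsg.Agent.H460.IFO.Fac

/-!
# S3690, the row `E₈`: complete reducibility and automorphisms (helper59)
-/

set_option autoImplicit false
set_option maxRecDepth 100000

namespace Cfsg.Agent.Cam.E8.Cra

open Cfsg Cfsg.Lie Subgroup
open Cfsg.Agent.E8A Cfsg.Agent.E8A.Kem Cfsg.Agent.E8A.Par
open Cfsg.Agent.H288.E8L (wt)

section

variable {K L : Type} [Field K] [Field L]

theorem up_em (f : K →+* L) {l l' : Q8 →+ ℝ} {y : G8 K} : Up l l' (mx (em f y)) ↔ Up l l' (mx y) :=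
  forall₂_congr fun i j => by
    rw [show mx (em f y) i j = f (mx y i j) from rfl, map_ne_zero]

theorem em_St (f : K →+* L) {lam : Q8 →+ ℝ} {y : G8 K} : em f y ∈ St L lam ↔ y ∈ St K lam :=
  ⟨fun h => mem_St ((up_em f).1 (up_of_St h)) ((up_em f).1 (by rw [map_inv]; exact up_of_St (inv_mem h))),
    fun h => mem_St ((up_em f).2 (up_of_St h)) (by rw [← map_inv]; exact (up_em f).2 (up_of_St (inv_mem h)))⟩

theorem em_Lv (f : K →+* L) {lam : Q8 →+ ℝ} {y : G8 K} : em f y ∈ Lv L lam ↔ y ∈ Lv K lam :=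
  and_congr (em_St f) (em_St f)

theorem mem_Rad {lam : Q8 →+ ℝ} {u : G8 K} :
    u ∈ Rad K lam ↔ u ∈ St K lam ∧ ∀ i j, (mx u - 1) i j ≠ 0 → lam (wt j) + 1 ≤ lam (wt i) := by
  refine and_congr_right fun _ => ⟨fun h i j hij => ?_, fun h c v hv => ?_⟩
  · exact h (lam (wt j)) (ee K j) (ee_mem_LS (mem_Ge.2 le_rfl)) i (by rwa [act_sub_self, mulVec_ee])
  · rw [act_sub_self]
    exact mulVec_LS (fun i j hij hj => mem_Ge.2 (by linarith [h i j hij, mem_Ge.1 hj])) hv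

theorem em_Rad (f : K →+* L) {lam : Q8 →+ ℝ} {u : G8 K} : em f u ∈ Rad L lam ↔ u ∈ Rad K lam := by
  rw [mem_Rad, mem_Rad]
  refine and_congr (em_St f) (forall₂_congr fun i j => ?_)
  have e : (mx (em f u) - 1) i j = f ((mx u - 1) i j) := by
    rw [Matrix.sub_apply, Matrix.sub_apply, map_sub, Matrix.one_apply, Matrix.one_apply, apply_ite f, map_one, map_zero]
    rfl
  rw [e, map_ne_zero]

theorem em_Ru (f : K →+* L) {lam : Q8 →+ ℝ} {u : G8 K} (h : u ∈ Ru K lam) : em f u ∈ Ru L lam :=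
  (iSup_le fun c _ hx => le_iSup (fun c : {c : ℝ // 0 < c} => Rad L (c.1 • lam)) c ((em_Rad f).2 hx) :
    Ru K lam ≤ (Ru L lam).comap (em f)) h

theorem em_symm (f : K ≃+* L) (g : G8 L) : em f.toRingHom (em f.symm.toRingHom g) = g :=
  mx_injective (Matrix.ext fun i j => f.apply_symm_apply (mx g i j))

theorem in_em (f : K →+* L) {g : G8 K} {A B : Subgroup (G8 K)} {B' : Subgroup (G8 L)} (h : ∀ y, em f y ∈ B' ↔ y ∈ B) :
    In (em f g) (A.map (em f)) B' ↔ In g A B := by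
  refine ⟨fun k a ha => (h _).1 ?_, ?_⟩
  · rw [map_mul, map_mul, map_inv]
    exact k _ ⟨a, ha, rfl⟩
  · rintro k _ ⟨a, ha, rfl⟩
    rw [← map_inv, ← map_mul, ← map_mul, h]
    exact k a ha

theorem in_conj {g y : G8 K} {A B : Subgroup (G8 K)} : In g (A.map (MulAut.conj y).toMonoidHom) B ↔ In (g * y) A B := by
  have e : ∀ a, g * (MulAut.conj y).toMonoidHom a * g⁻¹ = g * y * a * (g * y)⁻¹ := fun a => by
    show g * (y * a * y⁻¹) * g⁻¹ = _
    group
  refine ⟨fun k a ha => e a ▸ k _ ⟨a, ha, rfl⟩, ?_⟩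
  rintro k _ ⟨a, ha, rfl⟩
  rw [e]
  exact k a ha

theorem cr_em (f : K ≃+* L) {A : Subgroup (G8 K)} (h : CR A) : CR (A.map (em f.toRingHom)) := by
  intro g lam hg
  rw [← em_symm f g] at hg ⊢
  obtain ⟨r, hr, h1⟩ := h _ lam ((in_em _ fun _ => em_St _).1 hg)
  exact ⟨_, em_Ru f.toRingHom hr, by rw [← map_mul]; exact (in_em _ fun _ => em_Lv _).2 h1⟩

theorem cr_conj {A : Subgroup (G8 K)} (h : CR A) (y : G8 K) : CR (A.map (MulAut.conj y).toMonoidHom) := by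
  intro g lam hg
  obtain ⟨r, hr, h1⟩ := h _ lam (in_conj.1 hg)
  exact ⟨r, hr, in_conj.2 (by rwa [mul_assoc])⟩

theorem noTor_em (f : K ≃+* L) {A : Subgroup (G8 K)} (h : NoTor A) : NoTor (A.map (em f.toRingHom)) := by
  intro g lam h0 hg
  rw [← em_symm f g] at hg
  exact h _ lam h0 ((in_em _ fun _ => em_Lv _).1 hg)

theorem noTor_conj {A : Subgroup (G8 K)} (h : NoTor A) (y : G8 K) : NoTor (A.map (MulAut.conj y).toMonoidHom) :=
  fun _ lam h0 hg => h _ lam h0 (in_conj.1 hg)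

end

/-- the automorphisms of the finite group -/
theorem exists_fac {F : Type} [Field F] [Finite F] (θ : MulAut (G8 F)) :
    ∃ (y : G8 F) (σ : F ≃+* F), ∀ x, θ x = y * em σ.toRingHom x * y⁻¹ := by
  obtain ⟨y, φ, ⟨σ, hσ⟩, rfl⟩ := H460.IFO.fac8 θ
  have h1 : φ.toMonoidHom.eqLocus (em σ.toRingHom) = ⊤ := eq_top_of_xr fun r t => by
    show φ (xr r t) = em σ.toRingHom (xr r t)
    rw [em_xr]
    exact mx_injective (hσ _ r t r.2 rfl)
  exact ⟨y, σ, fun x => by rw [← (show φ x = em σ.toRingHom x from (h1 ▸ mem_top x : x ∈ φ.toMonoidHom.eqLocus _))]; rfl⟩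

/-- they extend to the algebraic group -/
theorem exists_ext {F : Type} [Field F] [Finite F] (θ : MulAut (G8 F)) :
    ∃ (y : G8 (Kb F)) (f : Kb F ≃+* Kb F), ∀ x, emb0 (θ x) = y * em f.toRingHom (emb0 x) * y⁻¹ := by
  obtain ⟨y, σ, h⟩ := exists_fac θ
  refine ⟨emb0 y, IsAlgClosure.equivOfEquiv (Kb F) (Kb F) σ, fun x => ?_⟩
  rw [h, map_mul, map_mul, map_inv]
  congr 2
  exact mx_injective (Matrix.ext fun i j => (IsAlgClosure.equivOfEquiv_algebraMap (Kb F) (Kb F) σ (mx x i j)).symm)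

/-- **Box `CRA`.** -/
theorem boxCRA : BoxCRA := by
  intro F _ _ A θ
  obtain ⟨y, f, h⟩ := exists_ext θ
  have e : bar (A.map θ.toMonoidHom) = ((bar A).map (em f.toRingHom)).map (MulAut.conj y).toMonoidHom := by
    rw [bar, bar, map_map, map_map, map_map]
    congr 1
    exact MonoidHom.ext h
  rw [e]
  exact ⟨fun k => cr_conj (cr_em f k) y, fun k => noTor_conj (noTor_em f k) y⟩

end Cfsg.Agent.Cam.E8.Cra
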