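import Cfsg.Agent.Cam.E8.Iface
import Cfsg.Agent.Cam.E8K.A
import Cfsg.Agent.BpExc.LangFr

/-!
# S3690, the row `E₈`: descent of complete reducibility (helper52)

* `lang_graded` : Lang's theorem for a group of matrices which a one-dimensional torus contracts to the identity;
* `Ru_eq` : the two descriptions of the radical; `exists_int` : an integral cocharacter in the same facet;
* `boxCRF : BoxCRF`.
-/

set_option autoImplicit false
set_option maxRecDepth 100000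
set_option maxHeartbeats 400000
set_option linter.unusedVariables false
set_option linter.unusedSectionVars false

namespace Cfsg.Agent.Cam.E8.Crf

universe u

section Lang

open Polynomial
open Cfsg.Agent.LangThm

variable {k : Type u} [Field k] {ι : Type} [Fintype ι] [DecidableEq ι]

/-- the polynomial matrix of the contraction -/
noncomputable def pm (d : ι → ℤ) (M : Matrix ι ι k) : Matrix ι ι k[X] :=
  Matrix.of fun i j => C (M i j) * X ^ (d i - d j).toNat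

theorem pm_mul (d : ι → ℤ) {M N : Matrix ι ι k} (hM : ∀ i j, M i j ≠ 0 → d j ≤ d i)
    (hN : ∀ i j, N i j ≠ 0 → d j ≤ d i) : pm d M * pm d N = pm d (M * N) := by
  ext1 i j
  rw [Matrix.mul_apply]
  show ∑ l, C (M i l) * X ^ (d i - d l).toNat * (C (N l j) * X ^ (d l - d j).toNat) =
    C ((M * N) i j) * X ^ (d i - d j).toNat
  rw [Matrix.mul_apply, map_sum, Finset.sum_mul]
  refine Finset.sum_congr rfl fun l _ => ?_
  by_cases h1 : M i l = 0
  · rw [h1, zero_mul, map_zero, zero_mul, zero_mul, zero_mul]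
  by_cases h2 : N l j = 0
  · rw [h2, mul_zero, map_zero, zero_mul, mul_zero, zero_mul]
  have h3 := hM i l h1
  have h4 := hN l j h2
  rw [show (d i - d j).toNat = (d i - d l).toNat + (d l - d j).toNat by omega, pow_add, map_mul]
  ring

theorem pm_one (d : ι → ℤ) : pm d (1 : Matrix ι ι k) = 1 := by
  ext1 i j
  show C ((1 : Matrix ι ι k) i j) * X ^ (d i - d j).toNat = _
  by_cases h : i = j
  · subst h
    rw [Matrix.one_apply_eq, Matrix.one_apply_eq, sub_self, map_one, one_mul, Int.toNat_zero, pow_zero]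
  · rw [Matrix.one_apply_ne h, Matrix.one_apply_ne h, map_zero, zero_mul]

theorem le_of_lt_sub {d : ι → ℤ} {M : Matrix ι ι k} (h : ∀ i j, (M - 1) i j ≠ 0 → d j < d i) (i j : ι)
    (hij : M i j ≠ 0) : d j ≤ d i := by
  by_cases e : i = j
  · rw [e]
  · exact (h i j (by rwa [Matrix.sub_apply, Matrix.one_apply_ne e, sub_zero])).le

/-- **Lang's theorem for a group which a torus contracts** -/
theorem lang_graded [IsAlgClosed k] (p e : ℕ) [Fact p.Prime] [CharP k p] (he : 0 < e) (d : ι → ℤ)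
    (N : Subgroup (GL ι k)) (hN : ∀ u ∈ N, ∀ i j, ((u : Matrix ι ι k) - 1) i j ≠ 0 → d j < d i)
    (hf : ∀ u ∈ N, frob p e u ∈ N)
    (ht : ∀ a : k, a ≠ 0 → ∀ u ∈ N, ∃ v ∈ N, ∀ i j, (v : Matrix ι ι k) i j = (u : Matrix ι ι k) i j * a ^ (d i - d j))
    {u : GL ι k} (hu : u ∈ N) : ∃ z ∈ N, u = z⁻¹ * frob p e z := by
  have hle : ∀ u ∈ N, ∀ i j, (u : Matrix ι ι k) i j ≠ 0 → d j ≤ d i := fun u hu => le_of_lt_sub (hN u hu)
  let P : N → GL ι k[X] := fun u =>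
    { val := pm d (u.1 : Matrix ι ι k)
      inv := pm d ((u.1⁻¹ : GL ι k) : Matrix ι ι k)
      val_inv := by rw [pm_mul d (hle _ u.2) (hle _ (inv_mem u.2)), ← Units.val_mul, mul_inv_cancel, Units.val_one, pm_one]
      inv_val := by rw [pm_mul d (hle _ (inv_mem u.2)) (hle _ u.2), ← Units.val_mul, inv_mul_cancel, Units.val_one, pm_one] }
  have hev : ∀ (u : N) (a : k) (i j : ι), ((ev a (P u) : GL ι k) : Matrix ι ι k) i j =
      (u.1 : Matrix ι ι k) i j * a ^ (d i - d j).toNat := by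
    intro u a i j
    show aeval a (C ((u.1 : Matrix ι ι k) i j) * X ^ (d i - d j).toNat) = _
    rw [map_mul, map_pow, aeval_X, aeval_C]
    rfl
  have h0 : ∀ u : N, ev (0 : k) (P u) = 1 := by
    intro u
    refine Units.ext (Matrix.ext fun i j => ?_)
    rw [hev, Units.val_one]
    by_cases h : ((u.1 : Matrix ι ι k) - 1) i j = 0
    · rw [Matrix.sub_apply, sub_eq_zero] at h
      rw [h]
      by_cases e : i = j
      · subst e
        rw [sub_self, Int.toNat_zero, pow_zero, mul_one]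
      · rw [Matrix.one_apply_ne e, zero_mul]
    · have h1 := hN _ u.2 i j h
      rw [zero_pow (by omega), mul_zero, Matrix.one_apply_ne (fun e => by rw [e] at h1; exact lt_irrefl _ h1)]
  have h1 : ∀ u : N, ev (1 : k) (P u) = u.1 := fun u =>
    Units.ext (Matrix.ext fun i j => by rw [hev, one_pow, mul_one])
  have h2 : ∀ (u : N) (a : k), ev a (P u) ∈ N := by
    intro u a
    by_cases ha : a = 0
    · rw [ha, h0]
      exact one_mem _
    obtain ⟨v, hv, e⟩ := ht a ha u.1 u.2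
    have h3 : ev a (P u) = v := by
      refine Units.ext (Matrix.ext fun i j => ?_)
      rw [hev, e]
      by_cases h : (u.1 : Matrix ι ι k) i j = 0
      · rw [h, zero_mul, zero_mul]
      · have h4 := hle _ u.2 i j h
        rw [← zpow_natCast, Int.toNat_of_nonneg (by omega)]
    rwa [h3]
  have hG : Gam P k = N := by
    refine le_antisymm ((Subgroup.closure_le _).2 ?_) fun u hu => ?_
    · rintro _ ⟨u, a, rfl⟩
      exact h2 u a
    · have h3 := ev_mem (X := P) (⟨u, hu⟩ : N) (1 : k)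
      rwa [h1] at h3
  let Fr : Monoid.End ↥(Gam P k) :=
    { toFun := fun g => ⟨frob p e g, hG.ge (hf _ (hG.le g.2))⟩
      map_one' := Subtype.ext (map_one (frob p e))
      map_mul' := fun g h => Subtype.ext (map_mul (frob p e) _ _) }
  have hF : ∀ (u : N) (a : k), (Fr ⟨ev a (P u), ev_mem u a⟩ : GL ι k) =
      ev a (ev ((X : k[X]) ^ p ^ e) (P ⟨frob p e u.1, hf _ u.2⟩) : GL ι k[X]) := by
    intro u a
    have h3 := mp_ev (aeval a : k[X] →ₐ[k] k) ((X : k[X]) ^ p ^ e) (P ⟨frob p e u.1, hf _ u.2⟩)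
    rw [map_pow, aeval_X] at h3
    refine Eq.trans ?_ h3.symm
    refine Units.ext (Matrix.ext fun i j => ?_)
    rw [hev]
    refine (co_frob p e (ev a (P u)) (i, j)).trans ?_
    show ((ev a (P u) : GL ι k) : Matrix ι ι k) i j ^ p ^ e = co (frob p e u.1) (i, j) * _
    rw [hev, co_frob, mul_pow, ← pow_mul, ← pow_mul, mul_comm (p ^ e)]
    rfl
  obtain ⟨z, hz⟩ := lang (X := P) p e 1 he h0 Fr
    (Y := fun u => ev ((X : k[X]) ^ p ^ e) (P ⟨frob p e u.1, hf _ u.2⟩)) (fun u => ev_mem _ _) hF 1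
      (fun g => by rw [pow_one, one_mul, inv_one, mul_one]; rfl) ⟨u, hG.ge hu⟩
  exact ⟨z, hG.le z.2, congrArg Subtype.val hz⟩

theorem exists_scale {α : Type*} [Finite α] (f : α → ℝ) : ∃ c : ℝ, 0 < c ∧ ∀ i j, f j < f i → c * f j + 1 ≤ c * f i := by
  obtain ⟨B, hB⟩ := (Set.finite_range fun ij : α × α => (f ij.1 - f ij.2)⁻¹).bddAbove
  refine ⟨max B 1, lt_max_of_lt_right one_pos, fun i j h => ?_⟩
  have h1 : (f i - f j)⁻¹ ≤ max B 1 := (hB ⟨(i, j), rfl⟩).trans (le_max_left _ _)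
  have h2 : 0 < f i - f j := sub_pos.2 h
  have h3 := mul_le_mul_of_nonneg_right h1 h2.le
  rw [inv_mul_cancel₀ h2.ne'] at h3
  linarith

end Lang

open CoxeterSystem Cfsg Cfsg.Lie Matrix
open Cfsg.Agent.ChevalleyStructure.CoxeterGeom Cfsg.Agent.ChevalleyStructure.CoxeterGeomTypes
open Cfsg.Agent.Tits.Roots Cfsg.Agent.Nodes.RGDChev
open Cfsg.Agent.KFacts.RgdChevCoord Cfsg.Agent.H129.TorusChar
open Cfsg.Agent.H942.E8Tab (e8T)
open Cfsg.Agent.H288.E8L (wt act8)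
open Cfsg.Agent.E8A Cfsg.Agent.E8A.Par
open Cfsg.Agent.E8A.Kem (cw cw_apply mk mk_apply mk_sr mk_eq Dm exists_dm Ge mem_Ge SP PL St Rad)
open Cfsg.Agent.Cam.E8K (Co Tr Bl tr_iff tr_of bl_rep Lev bl_lev Lev_mono cl cl_mul cl_inv cl_lev cl_mem cl_Ru
  mem_Ru eq_one_of_Ru sup_le_St TT_le_Lev exists_rep cw_inv')

section Par

variable {K : Type u} [Field K] {l l' : Co} {x : G8 K}

theorem up_smul {c : ℝ} (hc : 0 < c) {M : E8K.Mat K} : Up (c • l) (c • l) M ↔ Up l l M :=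
  forall_congr' fun i => forall_congr' fun j => imp_congr_right fun _ => mul_le_mul_iff_right₀ hc

theorem St_smul {c : ℝ} (hc : 0 < c) : x ∈ St K (c • l) ↔ x ∈ St K l := by
  rw [← tr_iff, ← tr_iff]
  exact and_congr (up_smul hc) (up_smul hc)

theorem Rad_le {c : ℝ} (hc : 0 < c) : Rad K (c • l) ≤ E8K.Ru K l := fun u hu =>
  mem_Ru.2 ⟨(St_smul hc).1 hu.1, fun i j hij => by
    have h1 := hu.2 _ _ (ee_mem_LS (K := K) (i := j) (mem_Ge.2 le_rfl))
    rw [act_sub_self] at h1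
    have h2 : c * l (wt j) + 1 ≤ c * l (wt i) := h1 i (by rwa [mulVec_ee])
    exact lt_of_mul_lt_mul_left (by linarith) hc.le⟩

theorem exists_le_Rad (l : Co) : ∃ c : ℝ, 0 < c ∧ E8K.Ru K l ≤ Rad K (c • l) := by
  obtain ⟨c, hc, h⟩ := exists_scale fun i => l (wt i)
  refine ⟨c, hc, fun u hu => ⟨(St_smul hc).2 hu.1, fun b v hv => ?_⟩⟩
  rw [act_sub_self]
  refine mulVec_LS (fun i j hij hj => ?_) hv
  have h1 : b ≤ c * l (wt j) := hj
  have h2 := h i j ((mem_Ru.1 hu).2 i j hij)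
  show b + 1 ≤ c * l (wt i)
  linarith

theorem St_mono (h : ∀ a, Rt a → 0 ≤ l a → 0 ≤ l' a) : St K l ≤ St K l' := fun y hy => by
  obtain ⟨w, hw⟩ := exists_dm l
  obtain ⟨n, hn⟩ := exists_rep (K := K) w
  obtain ⟨m, hm, t, ht, e⟩ := St_le_PL hw (St_conj hn hy)
  have h1 : n⁻¹ * y * n ∈ St K (cw l' w) := by
    rw [e]
    exact mul_mem (sup_le_St (l := cw l' w) (S := SP (cw l w))
      (fun a ha => ⟨ha.1, h (act8 w a) (ha.1.act w) ha.2⟩) hm) (TT_le_Lev _ ht).1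
  have h2 := (bl_rep hn l').1.conj h1
  rwa [show n * (n⁻¹ * y * n) * n⁻¹ = y by group] at h2

theorem zero_of_sign (h : ∀ a, Rt a → 0 ≤ l a → 0 ≤ l' a) (a : Q8) (ha : Rt a) (e : l a = 0) : l' a = 0 := by
  have h1 := h _ ha.neg (by rw [map_neg, e, neg_zero])
  rw [map_neg] at h1
  exact le_antisymm (by linarith) (h a ha e.ge)

theorem Ru_mono (h : ∀ a, Rt a → (0 ≤ l a ↔ 0 ≤ l' a)) : E8K.Ru K l ≤ E8K.Ru K l' := fun u hu => by
  have h1 : u ∈ St K l' := St_mono (fun a ha => (h a ha).1) hu.1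
  exact ⟨h1, eq_one_of_Ru (cl_Ru h1 hu) (Lev_mono (zero_of_sign fun a ha => (h a ha).2) (cl_mem h1)).2⟩

/-- an integral cocharacter as a real one -/
noncomputable def zc (μ : Q8 →+ ℤ) : Co := (Int.castAddHom ℝ).comp μ

theorem zc_apply (μ : Q8 →+ ℤ) (a : Q8) : zc μ a = (μ a : ℝ) := rfl

theorem exists_int0 (hd : Dm l) : ∃ μ : Q8 →+ ℤ, ∀ a, Rt a → (0 ≤ l a ↔ 0 ≤ zc μ a) := by
  classical
  let x : Fin 8 → ℤ := fun i => if 0 < l (sr i) then 1 else 0
  let μ : Q8 →+ ℤ := AddMonoidHom.mk' (fun a => ∑ i, a i * x i) fun a b => by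
    rw [← Finset.sum_add_distrib]
    exact Finset.sum_congr rfl fun i _ => add_mul _ _ _
  have h1 : ∀ a, zc μ a = ∑ i, (a i : ℝ) * (x i : ℝ) := fun a => by
    show ((∑ i, a i * x i : ℤ) : ℝ) = _
    push_cast
    rfl
  have h2 : ∀ a, l a = ∑ i, (a i : ℝ) * l (sr i) := fun a => by rw [← mk_apply, mk_eq]
  have hx : ∀ i, (0 : ℝ) ≤ (x i : ℝ) := fun i => by
    simp only [x]
    split_ifs <;> simp
  have hx' : ∀ i, (x i : ℝ) = 0 ↔ l (sr i) = 0 := fun i => by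
    simp only [x]
    split_ifs with h
    · simp [h.ne']
    · simp [le_antisymm (not_lt.1 h) (hd i)]
  refine ⟨μ, fun a ha => ?_⟩
  rcases ha.pos_or_neg with h | h
  · refine iff_of_true (hd.nonneg h) ?_
    rw [h1]
    exact Finset.sum_nonneg fun i _ => mul_nonneg (Int.cast_nonneg_iff.2 (h i)) (hx i)
  · have h3 : ∀ y : Fin 8 → ℝ, (∀ i, 0 ≤ y i) → (0 ≤ ∑ i, (a i : ℝ) * y i ↔ ∀ i, a i = 0 ∨ y i = 0) := fun y hy => by
      have h4 : ∀ i ∈ Finset.univ, (a i : ℝ) * y i ≤ 0 := fun i _ =>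
        mul_nonpos_of_nonpos_of_nonneg (Int.cast_nonpos.2 (h i)) (hy i)
      refine Iff.trans ⟨fun e => le_antisymm (Finset.sum_nonpos h4) e, fun e => e.ge⟩ ?_
      rw [Finset.sum_eq_zero_iff_of_nonpos h4]
      simp
    rw [h1, h2, h3 _ hd, h3 _ hx]
    exact forall_congr' fun i => or_congr_right (hx' i).symm

/-- **an integral cocharacter in the same facet** -/
theorem exists_int (l : Co) : ∃ μ : Q8 →+ ℤ, ∀ a, Rt a → (0 ≤ l a ↔ 0 ≤ zc μ a) := by
  obtain ⟨w, hw⟩ := exists_dm l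
  obtain ⟨μ, h⟩ := exists_int0 hw
  refine ⟨μ.comp (rp8 w⁻¹).toAddMonoidHom, fun a ha => ?_⟩
  have h1 := h _ (ha.act w⁻¹)
  rw [cw_apply] at h1
  erw [act8_act_inv] at h1
  exact h1

theorem exists_tor (μ : Q8 →+ ℤ) {a : K} (ha : a ≠ 0) :
    ∃ t ∈ TT chevE8 K, mx t = Matrix.diagonal fun i => a ^ μ (wt i) := by
  obtain ⟨t, ht, h⟩ := exists_cX e8T Frm.invB8 one_ne_zero (φ := fun x => a ^ μ x)
    ⟨by show a ^ μ 0 = 1; rw [map_zero, zpow_zero], fun x y => by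
      show a ^ μ (x + y) = a ^ μ x * a ^ μ y
      rw [map_add, zpow_add₀ ha]⟩ fun i => ⟨_, pow_one _⟩
  refine ⟨t, ht, ?_⟩
  rw [mx_TT ht]
  exact congrArg _ (funext fun i => h _)

variable {L : Type u} [Field L] (f : K →+* L)

theorem up_map {M : E8K.Mat K} : Up l l' (M.map f) ↔ Up l l' M :=
  forall_congr' fun i => forall_congr' fun j => imp_congr_left (map_ne_zero f)

theorem em_St : em f x ∈ St L l ↔ x ∈ St K l := by
  rw [← tr_iff, ← tr_iff]
  refine and_congr (up_map f) ?_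
  rw [← map_inv]
  exact up_map f

theorem em_Lev : em f x ∈ Lev L l ↔ x ∈ Lev K l := and_congr (em_St f) (em_St f)

theorem em_Ru : em f x ∈ E8K.Ru L l ↔ x ∈ E8K.Ru K l := by
  rw [mem_Ru, mem_Ru]
  refine and_congr (em_St f) (forall_congr' fun i => forall_congr' fun j => imp_congr_left ?_)
  have h1 : (mx (em f x) - 1) i j = f ((mx x - 1) i j) := by
    rw [Matrix.sub_apply, Matrix.sub_apply, map_sub, mx_em, Matrix.map_apply]
    by_cases e : i = j
    · rw [e, Matrix.one_apply_eq, Matrix.one_apply_eq, map_one]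
    · rw [Matrix.one_apply_ne e, Matrix.one_apply_ne e, map_zero]
  rw [h1]
  exact map_ne_zero f

end Par

theorem Ru_eq {K : Type} [Field K] (l : Co) : Ru K l = E8K.Ru K l := by
  obtain ⟨c, hc, h⟩ := exists_le_Rad (K := K) l
  exact le_antisymm (iSup_le fun c => Rad_le c.2) (h.trans (le_iSup (fun c : {c : ℝ // 0 < c} => Rad K (c.1 • l)) ⟨c, hc⟩))

/-- **Lang's theorem for the centralizer in the radical of a stable subset of the Levi subgroup** -/
theorem lang_Ru {F : Type u} [Field F] [Finite F] (l : Co) (S : Set (G8 (Kb F))) (hS : ∀ c ∈ S, c ∈ Lev (Kb F) l)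
    (hf : ∀ c ∈ S, sg c = c) {u : G8 (Kb F)} (hu : u ∈ E8K.Ru (Kb F) l ⊓ Subgroup.centralizer S) :
    ∃ z ∈ E8K.Ru (Kb F) l ⊓ Subgroup.centralizer S, u = z⁻¹ * sg z := by
  obtain ⟨p, hp, _⟩ := exists_char F
  have := Fact.mk hp
  obtain ⟨e, he0, he⟩ := exists_card_eq (F := F) p
  obtain ⟨μ, hμ⟩ := exists_int l
  have hfr : ∀ g : G8 (Kb F), LangThm.frob p e (g : GL chevE8.Idx (Kb F)) = (sg g : G8 (Kb F)) := fun g =>
    LangThm.co_injective (funext fun ij => (LangThm.co_frob p e _ ij).trans (by rw [← he]; exact (fq_apply _).symm))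
  refine (lang_graded p e he0 (fun i => μ (wt i))
    ((E8K.Ru (Kb F) l ⊓ Subgroup.centralizer S).map (chevE8.group (Kb F)).subtype) ?_ ?_ ?_ ⟨u, hu, rfl⟩).elim ?_
  rotate_right
  · rintro _ ⟨⟨z, hz, rfl⟩, h⟩
    refine ⟨z, hz, Subtype.ext ?_⟩
    rw [Subgroup.coe_mul, ← hfr]
    exact h
  · rintro _ ⟨v, hv, rfl⟩ i j hij
    exact Int.cast_lt.1 ((mem_Ru.1 (Ru_mono hμ hv.1)).2 i j hij)
  · rintro _ ⟨v, hv, rfl⟩
    refine ⟨sg v, ⟨(em_Ru (fq F)).2 hv.1, Subgroup.mem_centralizer_iff.2 fun c hc => ?_⟩, (hfr v).symm⟩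
    have h1 := congrArg sg (Subgroup.mem_centralizer_iff.1 hv.2 c hc)
    rwa [map_mul, map_mul, hf c hc] at h1
  · rintro a ha _ ⟨v, hv, rfl⟩
    obtain ⟨t, ht, e⟩ := exists_tor μ ha
    have h1 : ∀ c ∈ S, c * t = t * c := fun c hc => mx_injective (by
      rw [mx_mul, mx_mul, e]
      ext i j
      rw [Matrix.mul_diagonal, Matrix.diagonal_mul]
      by_cases h2 : mx c i j = 0
      · rw [h2, zero_mul, mul_zero]
      · have h3 := (bl_lev (Lev_mono (zero_of_sign fun a ha => (hμ a ha).1) (hS c hc))).eq h2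
        rw [show μ (wt j) = μ (wt i) from Int.cast_injective h3, mul_comm])
    have h2 : t ∈ Subgroup.centralizer S := Subgroup.mem_centralizer_iff.2 h1
    refine ⟨_, ⟨t * v * t⁻¹, ⟨(tr_of (TT_le_Lev l ht).1).conj_Ru hv.1,
      (Subgroup.centralizer S).mul_mem (mul_mem h2 hv.2) (inv_mem h2)⟩, rfl⟩,
      fun i j => ?_⟩
    have h3 : mx (t * v * t⁻¹) * mx t = mx t * mx v := by rw [← mx_mul, ← mx_mul, inv_mul_cancel_right]
    have h4 := congrFun (congrFun h3 i) j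
    rw [e, Matrix.mul_diagonal, Matrix.diagonal_mul] at h4
    show mx (t * v * t⁻¹) i j = mx v i j * a ^ (μ (wt i) - μ (wt j))
    rw [zpow_sub₀ ha, ← mul_div_assoc, eq_div_iff (zpow_ne_zero _ ha), h4, mul_comm]

/-- **descent of complete reducibility** -/
theorem boxCRF : BoxCRF := by
  intro F _ _ A hA g l hg
  obtain ⟨r, hr, h⟩ := hA (emb0 g) l (by
    rintro _ ⟨a, ha, rfl⟩
    rw [← map_inv, ← map_mul, ← map_mul]
    exact (em_St _).2 (hg a ha))
  rw [Ru_eq] at hr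
  have hy : ∀ a ∈ A, emb0 (g * a * g⁻¹) ∈ St (Kb F) l := fun a ha => (em_St _).2 (hg a ha)
  have h1 : ∀ a ∈ A, r * emb0 (g * a * g⁻¹) * r⁻¹ ∈ Lev (Kb F) l := fun a ha => by
    have h2 := h _ ⟨a, ha, rfl⟩
    rwa [show r * emb0 g * emb0 a * (r * emb0 g)⁻¹ = r * emb0 (g * a * g⁻¹) * r⁻¹ by
      rw [map_mul, map_mul, map_inv]; group] at h2
  have h2 : ∀ s ∈ E8K.Ru (Kb F) l, ∀ y ∈ St (Kb F) l, s * y * s⁻¹ ∈ Lev (Kb F) l → s * y * s⁻¹ = cl l l y := by
    intro s hs y hy h3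
    rw [← cl_lev h3, cl_mul (tr_of (mul_mem hs.1 hy)) (tr_of (inv_mem hs.1)), cl_mul (tr_of hs.1) (tr_of hy), hs.2,
      (inv_mem hs).2, one_mul, mul_one]
  have hr' : sg r ∈ E8K.Ru (Kb F) l := (em_Ru (fq F)).2 hr
  have h3 : ∀ a, sg (r * emb0 a * r⁻¹) = sg r * emb0 a * (sg r)⁻¹ := fun a => by
    rw [map_mul, map_mul, map_inv, sg_emb0]
  have h4 : ∀ a ∈ A, sg (r * emb0 (g * a * g⁻¹) * r⁻¹) = r * emb0 (g * a * g⁻¹) * r⁻¹ := fun a ha => by
    have h5 : sg (r * emb0 (g * a * g⁻¹) * r⁻¹) ∈ Lev (Kb F) l := (em_Lev (fq F)).2 (h1 a ha)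
    rw [h3] at h5
    rw [h3, h2 _ hr' _ (hy a ha) h5, h2 _ hr _ (hy a ha) (h1 a ha)]
  obtain ⟨z, hz, e⟩ := lang_Ru l {c | ∃ a ∈ A, c = r * emb0 (g * a * g⁻¹) * r⁻¹}
    (by rintro _ ⟨a, ha, rfl⟩; exact h1 a ha) (by rintro _ ⟨a, ha, rfl⟩; exact h4 a ha)
    (u := r * (sg r)⁻¹) ⟨(E8K.Ru (Kb F) l).mul_mem hr (inv_mem hr'), Subgroup.mem_centralizer_iff.2 (by
      rintro _ ⟨a, ha, rfl⟩
      have h5 := h4 a ha
      rw [h3] at h5
      generalize emb0 (g * a * g⁻¹) = y at h5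
      calc r * y * r⁻¹ * (r * (sg r)⁻¹) = r * (sg r)⁻¹ * (sg r * y * (sg r)⁻¹) := by group
        _ = _ := by rw [h5])⟩
  obtain ⟨x, hx⟩ := fix_G (g := z * r) (by
    rw [map_mul, show sg z = z * (r * (sg r)⁻¹) by rw [e]; group]
    group)
  refine ⟨x, ?_, fun a ha => ?_⟩
  · rw [Ru_eq]
    exact (em_Ru (algebraMap F (Kb F))).1 (show emb0 x ∈ _ from hx ▸ mul_mem hz.1 hr)
  · refine (em_Lev (algebraMap F (Kb F))).1 (show emb0 _ ∈ _ from ?_)
    have h5 := Subgroup.mem_centralizer_iff.1 hz.2 _ ⟨a, ha, rfl⟩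
    rw [show x * g * a * (x * g)⁻¹ = x * (g * a * g⁻¹) * x⁻¹ by group, map_mul, map_mul _ x, map_inv, hx,
      show z * r * emb0 (g * a * g⁻¹) * (z * r)⁻¹ = z * (r * emb0 (g * a * g⁻¹) * r⁻¹) * z⁻¹ by group, ← h5,
      mul_inv_cancel_right]
    exact h1 a ha

end Cfsg.Agent.Cam.E8.Crf
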