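import Cfsg.Agent.Cam.E8.Iface
import Cfsg.Agent.H143.ChevBlocks
import Cfsg.Agent.H230.RelTwo
import Cfsg.Agent.H209.CosetGraphThree

/-!
# S3690, the row `E₈`: the group `T R` of a core is completely reducible (helper59)
-/

set_option autoImplicit false
set_option maxRecDepth 100000

namespace Cfsg.Agent.Cam.E8.Crg

open Cfsg Cfsg.Lie Subgroup
open Cfsg.Agent.E8A Cfsg.Agent.E8A.Kem Cfsg.Agent.E8A.Par Cfsg.Agent.Cam.Spor
open Cfsg.Agent.Nodes.RGDChev Cfsg.Agent.ChevalleyStructure.CoxeterGeom Cfsg.Agent.Tits.Roots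
open Cfsg.Agent.H942.E8Tab (e8T)
open scoped commutatorElement

/-- no canonical `p`-subgroup whose normalizer has characteristic `p` -/
theorem core_false {L U : Type} [Group L] [Group U] [Finite U] {τ α β : U →* L} {R R' : Subgroup L}
    (c : Core τ α β R R') {p : ℕ} [Fact p.Prime] {Q : Subgroup L} (hN : normalizer (Q : Set L) ≠ ⊤)
    (hθ : ∀ θ : MulAut L, (τ.range ⊔ R).map θ.toMonoidHom = τ.range ⊔ R → Q.map θ.toMonoidHom = Q)
    (hloc : centralizer (pCore p ↥(normalizer (Q : Set L)) : Set ↥(normalizer (Q : Set L))) ≤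
      pCore p ↥(normalizer (Q : Set L))) : False := by
  have hs := c.simple
  have h1 : normalizer (Q : Set L) ≤ normalizer ((τ.range ⊔ R : Subgroup L) : Set L) := c.max _ hN fun θ h => by
    ext y
    obtain ⟨y, rfl⟩ := θ.surjective y
    rw [mem_map_equiv', ← mem_normalizer_equiv θ, hθ θ h]
  have h2 : τ.range ⊔ R ≤ normalizer (Q : Set L) := fun a ha =>
    H230.map_conj_eq_iff_mem_normalizer.1 (hθ _ (H230.map_conj_eq_iff_mem_normalizer.2 (le_normalizer ha)))
  have hT : ∀ u, τ u ∈ normalizer (Q : Set L) := fun u => h2 (mem_sup_left ⟨u, rfl⟩)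
  set O := pCoreOf p (normalizer (Q : Set L)) with hO
  have hOn : ∀ y ∈ normalizer (Q : Set L), ∀ x ∈ O, y * x * y⁻¹ ∈ O := fun y hy x hx =>
    (mem_normalizer_iff.1 (H230.le_normalizer_pCoreOf p _ hy) x).1 hx
  have h3 : O.comap τ = ⊥ := by
    have hn : (O.comap τ).Normal := ⟨fun v hv u => by
      rw [mem_comap, map_mul, map_mul, map_inv]
      exact hOn _ (hT u) _ hv⟩
    refine hn.eq_bot_or_eq_top.resolve_right fun h => ?_
    have h4 : IsPGroup p ↥(O.comap τ) := (H230.isPGroup_pCoreOf p _).comap_of_injective τ c.pair.inj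
    rw [h] at h4
    have h5 := (h4.of_equiv topEquiv).center_nontrivial
    rcases (inferInstance : (center U).Normal).eq_bot_or_eq_top with h6 | h6
    · rw [h6] at h5
      exact not_subsingleton ↥(⊥ : Subgroup U) inferInstance
    · exact c.noncomm ⟨⟨fun x y => mem_center_iff.1 (h6 ▸ mem_top y) x⟩⟩
  have h4 : O ⊓ (τ.range ⊔ R) ≤ centralizer (τ.range : Set L) := by
    rintro y ⟨hy, hy'⟩
    have hc : τ.range ≤ normalizer (R : Set L) := by
      refine le_trans ?_ (centralizer_le_normalizer _)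
      rintro _ ⟨u, rfl⟩
      exact mem_centralizer_iff.2 fun r hr => (c.pair.comm u r hr).symm
    have h5 : y ∈ ((τ.range ⊔ R : Subgroup L) : Set L) := hy'
    rw [coe_mul_of_left_le_normalizer_right _ _ hc] at h5
    obtain ⟨_, ⟨v, rfl⟩, r, hr, rfl⟩ := h5
    rw [mem_centralizer_iff]
    rintro _ ⟨u, rfl⟩
    have e : τ u * (τ v * r) * (τ u)⁻¹ * (τ v * r)⁻¹ = τ (u * v * u⁻¹ * v⁻¹) := by
      rw [map_mul, map_mul, map_mul, map_inv, map_inv]
      calc τ u * (τ v * r) * (τ u)⁻¹ * (τ v * r)⁻¹ = τ u * τ v * (τ u)⁻¹ * (τ u * r) * ((τ u)⁻¹ * r⁻¹ * (τ v)⁻¹) := by group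
        _ = _ := by rw [c.pair.comm u r hr]; group
    have h6 : u * v * u⁻¹ * v⁻¹ ∈ O.comap τ := by
      rw [mem_comap, ← e]
      exact mul_mem (hOn _ (hT u) _ hy) (inv_mem hy)
    rw [h3, mem_bot] at h6
    rw [h6, map_one, mul_inv_eq_one, mul_inv_eq_iff_eq_mul] at e
    exact e
  have h5 : ⁅τ.range, O⁆ ≤ O ⊓ (τ.range ⊔ R) := commutator_le.2 (by
    rintro _ ⟨u, rfl⟩ x hx
    rw [commutatorElement_def]
    refine mem_inf.2 ⟨mul_mem (hOn _ (hT u) _ hx) (inv_mem hx), ?_⟩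
    rw [mul_assoc, mul_assoc, ← mul_assoc x]
    exact mul_mem (mem_sup_left ⟨u, rfl⟩) ((mem_normalizer_iff.1 (h1 (H230.pCoreOf_le' p _ hx)) _).1
      (inv_mem (mem_sup_left ⟨u, rfl⟩))))
  have h6 : ⁅⁅τ.range, O⁆, τ.range⁆ = ⊥ := commutator_eq_bot_iff_le_centralizer.2 (h5.trans h4)
  have h7 := commutator_commutator_eq_bot_of_rotate h6 (by rwa [commutator_comm O])
  have h8 : ⁅(⊤ : Subgroup U), (⊤ : Subgroup U)⁆ = ⊤ :=
    (inferInstance : (⁅(⊤ : Subgroup U), (⊤ : Subgroup U)⁆).Normal).eq_bot_or_eq_top.resolve_left fun h =>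
      c.noncomm ⟨⟨fun x y => mem_centralizer_iff.1
        (commutator_eq_bot_iff_le_centralizer.1 h (mem_top y)) x (mem_top x)⟩⟩
  rw [MonoidHom.range_eq_map, ← map_commutator, h8, commutator_eq_bot_iff_le_centralizer] at h7
  obtain ⟨u, hu⟩ := exists_ne (1 : U)
  refine hu (mem_bot.1 (h3 ▸ (⟨⟨τ u, hT u⟩, hloc (mem_centralizer_iff.2 fun x hx => Subtype.ext ?_), rfl⟩ : τ u ∈ O)))
  exact mem_centralizer_iff.1 (h7 ⟨u, mem_top u, rfl⟩) x ⟨x, hx, rfl⟩

theorem St_smul {K : Type} [Field K] {lam : Q8 →+ ℝ} {c : ℝ} (hc : 0 < c) : St K (c • lam) = St K lam := by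
  have key : ∀ y : G8 K, Up (c • lam) (c • lam) (mx y) ↔ Up lam lam (mx y) := fun y =>
    forall₃_congr fun i j _ => mul_le_mul_iff_right₀ hc
  ext y
  exact ⟨fun h => mem_St ((key _).1 (up_of_St h)) ((key _).1 (up_of_St (inv_mem h))),
    fun h => mem_St ((key _).2 (up_of_St h)) ((key _).2 (up_of_St (inv_mem h)))⟩

theorem exists_root_pos {lam : Q8 →+ ℝ} (h : lam ≠ 0) : ∃ r : Fin chevE8.nroots, 0 < lam (vec chevE8 8 r) := by
  by_contra hc
  push Not at hc
  refine h (E8A.Frm.hom_ext fun i => ?_)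
  obtain ⟨r, hr⟩ := H288.E8L.exists_idx (isRoot_sr H942.CB.cs8 e8T.isCartan i)
  obtain ⟨s, hs⟩ := H288.E8L.exists_idx (isRoot_sr H942.CB.cs8 e8T.isCartan i).neg
  have h1 := hc r
  have h2 := hc s
  rw [hs, map_neg] at h2
  rw [hr] at h1
  exact le_antisymm h1 (by simpa using h2)

/-- **Box `CRG`.** -/
theorem boxCRG (crk : BoxCRK) : BoxCRG := by
  intro F _ _ U _ _ τ α β R R' c
  by_contra hc
  obtain ⟨g, lam, h0, h⟩ := crk F _ hc
  obtain ⟨p, hp, _⟩ := exists_char F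
  have := Fact.mk hp
  obtain ⟨r, hr⟩ := exists_root_pos h0
  have hQ := H230.isPGroup_pCoreOf p ((St F lam).comap (MulAut.conj g).toMonoidHom)
  have hne : pCoreOf p ((St F lam).comap (MulAut.conj g).toMonoidHom) ≠ ⊥ := fun hb => by
    have h1 : (Rad F ((lam (vec chevE8 8 r))⁻¹ • lam)).comap (MulAut.conj g).toMonoidHom ≤ ⊥ := by
      rw [← hb, ← St_smul (inv_pos.2 hr)]
      refine H230.le_pCoreOf (fun x hx => hx.1) (fun y hy => ?_) fun x => ?_
      · have key : ∀ y ∈ (St F ((lam (vec chevE8 8 r))⁻¹ • lam)).comap (MulAut.conj g).toMonoidHom,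
            ∀ x ∈ (Rad F ((lam (vec chevE8 8 r))⁻¹ • lam)).comap (MulAut.conj g).toMonoidHom,
            y * x * y⁻¹ ∈ (Rad F ((lam (vec chevE8 8 r))⁻¹ • lam)).comap (MulAut.conj g).toMonoidHom :=
          fun y hy x hx => by
            rw [mem_comap, map_mul, map_mul, map_inv]
            exact Rad.conj hy hx
        refine mem_normalizer_iff.2 fun x => ⟨key y hy x, fun hx => ?_⟩
        have h2 := key _ (inv_mem hy) _ hx
        rwa [show y⁻¹ * (y * x * y⁻¹) * y⁻¹⁻¹ = x by group] at h2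
      · obtain ⟨k, hk⟩ := Rad.pow p (mem_comap.1 x.2)
        refine ⟨k, Subtype.ext ((MulAut.conj g).injective ?_)⟩
        rw [coe_pow, map_pow, coe_one, map_one]
        exact hk
    have h2 := mem_bot.1 (h1 (show g⁻¹ * xr r (1 : F) * g ∈ _ from by
      show g * (g⁻¹ * xr r (1 : F) * g) * g⁻¹ ∈ Rad F _
      rw [show g * (g⁻¹ * xr r (1 : F) * g) * g⁻¹ = xr r 1 by group]
      exact xr_mem_Rad (by rw [AddMonoidHom.smul_apply, smul_eq_mul, inv_mul_cancel₀ hr.ne']) 1))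
    rw [mul_assoc, inv_mul_eq_one, eq_comm, mul_eq_right, xr_eq_one_iff] at h2
    exact one_ne_zero h2
  refine core_false c (p := p) (fun ht => ?_) (fun θ hθ => ?_)
    (H143.ChevBlocks.local_char e8T p H143.ChevBlocks.conn_E8 hQ hne)
  · have := (simple8 (F := F)).1
    exact (normalizer_eq_top_iff.1 ht).eq_bot_or_eq_top.elim hne (ne_top_of_pgroup hQ)
  · rw [← H209.pCoreOf_map_equiv]
    congr 1
    ext y
    obtain ⟨y, rfl⟩ := θ.surjective y
    rw [mem_map_equiv']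
    exact (h θ hθ y).symm

end Cfsg.Agent.Cam.E8.Crg
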