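import Cfsg.Agent.BpExc.LangFr
import Cfsg.Agent.H129.TorusChar

/-!
# Kempf for tuples, the polynomial part (helper53)

* `Fil w c f` : all monomials of `f` have `w`-weight at most `c`;
* `comp_van` : the ideal of a set which is stable under the torus is graded;
* `exists_H` : an orbit of tuples of matrices is open in its closure.
-/

set_option autoImplicit false

namespace Cfsg.Agent.Cam.E8.Crk

open MvPolynomial Matrix
open Cfsg.Agent.LangThm (van mem_van Gam ev mp mp_mem exists_dense exists_open)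
open Cfsg.Agent.H129.TorusChar (IsMC)

universe u

variable {K : Type u} [Field K] {σ τ : Type}

/-! ### Filtrations -/

/-- all monomials have weight at most `c` -/
def Fil (w : σ → ℝ) (c : ℝ) (f : MvPolynomial σ K) : Prop := ∀ m ∈ f.support, Finsupp.weight w m ≤ c

variable {w : σ → ℝ} {c c' : ℝ} {f g : MvPolynomial σ K}

theorem Fil.mono (h : Fil w c f) (hc : c ≤ c') : Fil w c' f := fun m hm => (h m hm).trans hc

theorem Fil.of_support (h : Fil w c f) {L : Type u} [Field L] {g : MvPolynomial σ L} (hs : g.support ⊆ f.support) :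
    Fil w c g := fun m hm => h m (hs hm)

theorem fil_zero : Fil w c (0 : MvPolynomial σ K) := fun m hm => by simp at hm

theorem Fil.add (h : Fil w c f) (h' : Fil w c g) : Fil w c (f + g) := by
  classical
  intro m hm
  rcases Finset.mem_union.1 (support_add hm) with h1 | h1
  exacts [h m h1, h' m h1]

theorem fil_sum {ι : Type*} (s : Finset ι) (F : ι → MvPolynomial σ K) (h : ∀ i ∈ s, Fil w c (F i)) :
    Fil w c (∑ i ∈ s, F i) :=
  Finset.sum_induction _ (Fil w c) (fun _ _ => Fil.add) fil_zero h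

theorem Fil.mul (h : Fil w c f) (h' : Fil w c' g) : Fil w (c + c') (f * g) := by
  classical
  intro m hm
  obtain ⟨a, ha, b, hb, rfl⟩ := Finset.mem_add.1 (support_mul f g hm)
  rw [map_add]
  exact add_le_add (h a ha) (h' b hb)

theorem fil_monomial (m : σ →₀ ℕ) (a : K) (h : a ≠ 0 → Finsupp.weight w m ≤ c) : Fil w c (monomial m a) := by
  classical
  intro m' hm'
  rw [support_monomial] at hm'
  by_cases ha : a = 0
  · simp [ha] at hm'
  · rw [if_neg ha, Finset.mem_singleton] at hm'
    exact hm' ▸ h ha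

theorem fil_C (a : K) : Fil w 0 (C a : MvPolynomial σ K) := fil_monomial 0 a fun _ => by rw [map_zero]

theorem fil_CX (a : K) (s : σ) (h : a ≠ 0 → w s ≤ c) : Fil w c (C a * X s : MvPolynomial σ K) := by
  rw [C_mul_X_eq_monomial]
  refine fil_monomial _ _ fun ha => ?_
  rw [Finsupp.weight_single, one_smul]
  exact h ha

theorem fil_X (s : σ) (h : w s ≤ c) : Fil w c (X s : MvPolynomial σ K) := by
  have := fil_CX (1 : K) s fun _ => h
  rwa [C_1, one_mul] at this

theorem Fil.pow (h : Fil w c f) (n : ℕ) : Fil w (n • c) (f ^ n) := by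
  induction n with
  | zero => simpa using fil_C (w := w) (1 : K)
  | succ n ih => rw [pow_succ, succ_nsmul]; exact ih.mul h

theorem fil_prod {ι : Type*} (s : Finset ι) (F : ι → MvPolynomial σ K) (e : ι → ℝ) (h : ∀ i ∈ s, Fil w (e i) (F i)) :
    Fil w (∑ i ∈ s, e i) (∏ i ∈ s, F i) := by
  classical
  induction s using Finset.induction_on with
  | empty => simpa using fil_C (w := w) (1 : K)
  | insert a s ha ih =>
    rw [Finset.sum_insert ha, Finset.prod_insert ha]
    exact (h a (Finset.mem_insert_self _ _)).mul (ih fun i hi => h i (Finset.mem_insert_of_mem hi))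

/-- substitution -/
theorem Fil.aeval {w' : τ → ℝ} {u : σ → MvPolynomial τ K} (hu : ∀ s, Fil w' (w s) (u s)) (h : Fil w c f) :
    Fil w' c (aeval u f) := by
  rw [f.as_sum, map_sum]
  refine fil_sum _ _ fun m hm => ?_
  rw [aeval_monomial]
  have h1 := (fil_C (w := w') (coeff m f)).mul (fil_prod m.support (fun s => u s ^ m s) (fun s => m s • w s)
    fun s _ => (hu s).pow _)
  rw [zero_add] at h1
  exact h1.mono (h m hm)

theorem exists_fil (w : σ → ℝ) (f : MvPolynomial σ K) : ∃ c, Fil w c f := by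
  obtain ⟨c, hc⟩ := (f.support.finite_toSet.image (Finsupp.weight w)).bddAbove
  exact ⟨c, fun m hm => hc ⟨m, hm, rfl⟩⟩

theorem finite_deg [Finite σ] (d : ℝ) : {m : σ →₀ ℕ | Finsupp.weight (fun _ => (1 : ℝ)) m ≤ d}.Finite := by
  refine (Finsupp.finite_of_degree_le (σ := σ) ⌈d⌉₊).subset fun m hm => ?_
  have h1 : Finsupp.weight (fun _ => (1 : ℝ)) m = (m.degree : ℝ) := by
    rw [Finsupp.weight_apply, Finsupp.degree_apply, Nat.cast_sum]
    exact Finset.sum_congr rfl fun s _ => by simp
  have h2 : (m.degree : ℝ) ≤ ⌈d⌉₊ := (h1 ▸ hm : (m.degree : ℝ) ≤ d).trans (Nat.le_ceil d)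
  exact_mod_cast h2

/-! ### Monomials and components -/

theorem aeval_eq_sum (v : σ → K) (f : MvPolynomial σ K) :
    aeval v f = ∑ m ∈ f.support, coeff m f * ∏ s ∈ m.support, v s ^ m s := by
  conv_lhs => rw [f.as_sum, map_sum]
  exact Finset.sum_congr rfl fun m _ => by rw [aeval_monomial]; rfl

theorem exists_mon {v : σ → K} (h : aeval v f ≠ 0) : ∃ m ∈ f.support, ∀ s ∈ m.support, v s ≠ 0 := by
  rw [aeval_eq_sum] at h
  obtain ⟨m, hm, h1⟩ := Finset.exists_ne_zero_of_sum_ne_zero h
  refine ⟨m, hm, fun s hs h2 => right_ne_zero_of_mul h1 (Finset.prod_eq_zero hs ?_)⟩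
  rw [h2, zero_pow (Finsupp.mem_support_iff.1 hs)]

theorem weight_comp {Q : Type} [AddCommGroup Q] (l : Q →+ ℝ) (wv : σ → Q) (m : σ →₀ ℕ) :
    Finsupp.weight (fun s => l (wv s)) m = l (Finsupp.weight wv m) := by
  rw [Finsupp.weight_apply, Finsupp.weight_apply, map_finsuppSum]
  exact Finset.sum_congr rfl fun s _ => (map_nsmul l _ _).symm

theorem sum_comp {Q : Type} [AddCommGroup Q] [DecidableEq Q] (wv : σ → Q) (f : MvPolynomial σ K) :
    ∑ χ ∈ f.support.image (Finsupp.weight wv), weightedHomogeneousComponent wv χ f = f := by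
  simp only [weightedHomogeneousComponent_apply]
  rw [Finset.sum_fiberwise_of_maps_to fun m hm => Finset.mem_image_of_mem _ hm]
  exact f.as_sum.symm

theorem support_comp {Q : Type} [AddCommGroup Q] (wv : σ → Q) (χ : Q) (f : MvPolynomial σ K) :
    (weightedHomogeneousComponent wv χ f).support ⊆ f.support := by
  classical
  rw [support_weightedHomogeneousComponent]
  exact Finset.filter_subset _ _

theorem exists_comp {Q : Type} [AddCommGroup Q] (wv : σ → Q) {v : σ → K} (h : aeval v f ≠ 0) :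
    ∃ m ∈ f.support, aeval v (weightedHomogeneousComponent wv (Finsupp.weight wv m) f) ≠ 0 := by
  classical
  rw [← sum_comp wv f, map_sum] at h
  obtain ⟨χ, hχ, h1⟩ := Finset.exists_ne_zero_of_sum_ne_zero h
  obtain ⟨m, hm, rfl⟩ := Finset.mem_image.1 hχ
  exact ⟨m, hm, h1⟩

theorem aeval_scale {n : ℕ} {wv : σ → Fin n → ℤ} {χ : Fin n → ℤ} (h : IsWeightedHomogeneous wv f χ)
    {φ : (Fin n → ℤ) → K} (hφ : IsMC φ) (v : σ → K) : aeval (fun s => φ (wv s) * v s) f = φ χ * aeval v f := by
  rw [aeval_eq_sum, aeval_eq_sum, Finset.mul_sum]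
  refine Finset.sum_congr rfl fun m hm => ?_
  rw [← h (mem_support_iff.1 hm), Finsupp.weight_apply, Finsupp.sum, hφ.sum]
  simp only [mul_pow, Finset.prod_mul_distrib, hφ.nsmul]
  ring

theorem exists_pow_ne [Infinite K] {n : ℕ} (hn : n ≠ 0) : ∃ u : K, u ≠ 0 ∧ u ^ n ≠ 1 := by
  classical
  obtain ⟨u, hu⟩ := Infinite.exists_notMem_finset (insert (0 : K) (Polynomial.nthRootsFinset n (1 : K)))
  rw [Finset.mem_insert, not_or, Polynomial.mem_nthRootsFinset (Nat.pos_of_ne_zero hn)] at hu
  exact ⟨u, hu⟩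

/-- the character of the torus -/
def chr {n : ℕ} (χ : Fin n → ℤ) : (Fin n → Kˣ) →* K where
  toFun c := ∏ i, (c i : K) ^ χ i
  map_one' := by simp
  map_mul' a b := by simp [mul_zpow, Finset.prod_mul_distrib]

theorem chr_injective [Infinite K] {n : ℕ} : Function.Injective (chr : (Fin n → ℤ) → (Fin n → Kˣ) →* K) := by
  intro χ ψ h
  funext i
  by_contra hne
  obtain ⟨u, hu0, hu⟩ := exists_pow_ne (K := K) (Int.natAbs_ne_zero.2 (sub_ne_zero.2 hne))
  have key : ∀ ξ : Fin n → ℤ, chr ξ (Pi.mulSingle i (Units.mk0 u hu0)) = u ^ ξ i := fun ξ => by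
    show ∏ j, ((Pi.mulSingle (M := fun _ => Kˣ) i (Units.mk0 u hu0) j : Kˣ) : K) ^ ξ j = _
    rw [Finset.prod_eq_single i (fun j _ hj => by simp [Pi.mulSingle_eq_of_ne hj]) (by simp)]
    simp
  have h1 : u ^ χ i = u ^ ψ i := by rw [← key, ← key, h]
  have h2 : u ^ (χ i - ψ i) = 1 := by rw [zpow_sub₀ hu0, h1, div_self (zpow_ne_zero _ hu0)]
  apply hu
  rw [← zpow_natCast]
  rcases Int.natAbs_eq (χ i - ψ i) with h3 | h3
  · rw [← h3, h2]
  · rw [show ((χ i - ψ i).natAbs : ℤ) = -(χ i - ψ i) by omega, _root_.zpow_neg, h2, inv_one]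

/-- **the ideal of a set which is stable under the torus is graded** -/
theorem comp_van [Infinite K] {n : ℕ} (wv : σ → Fin n → ℤ) {v : σ → K}
    (h : ∀ φ : (Fin n → ℤ) → K, IsMC φ → aeval (fun s => φ (wv s) * v s) f = 0) (χ : Fin n → ℤ) :
    aeval v (weightedHomogeneousComponent wv χ f) = 0 := by
  classical
  by_cases hχ : χ ∈ f.support.image (Finsupp.weight wv)
  · have li := (linearIndependent_monoidHom (Fin n → Kˣ) K).comp _ (chr_injective (K := K) (n := n))
    refine linearIndependent_iff'.1 li _ (fun ψ => aeval v (weightedHomogeneousComponent wv ψ f)) ?_ χ hχ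
    funext c
    have hφ := IsMC.of_prod (fun i => (c i : K)) fun i => (c i).ne_zero
    have h1 := h _ hφ
    rw [← sum_comp wv f, map_sum] at h1
    rw [Finset.sum_apply, Pi.zero_apply, ← h1]
    refine Finset.sum_congr rfl fun ψ _ => ?_
    rw [aeval_scale (weightedHomogeneousComponent_isWeightedHomogeneous ψ f) hφ, mul_comm]
    rfl
  · rw [weightedHomogeneousComponent_eq_zero' χ f fun m hm e => hχ (e ▸ Finset.mem_image_of_mem _ hm), map_zero]

/-! ### Tuples of matrices -/

variable {N : Type} [Fintype N] [DecidableEq N] {κ : Type}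

/-- the coordinates of a tuple of matrices -/
def cm {R : Type*} (y : κ → Matrix N N R) : κ × N × N → R := fun s => y s.1 s.2.1 s.2.2

/-- the substitution `y ↦ A y B` -/
noncomputable def sb (A B : Matrix N N K) : κ × N × N → MvPolynomial (κ × N × N) K :=
  fun s => ∑ k, ∑ m, C (A s.2.1 k * B m s.2.2) * X (s.1, k, m)

omit [DecidableEq N] in
theorem aeval_sb (A B : Matrix N N K) (y : κ → Matrix N N K) (f : MvPolynomial (κ × N × N) K) :
    aeval (cm y) (aeval (sb A B) f) = aeval (cm fun a => A * y a * B) f := by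
  rw [comp_aeval_apply]
  congr 2
  funext s
  simp only [sb, cm, map_sum, map_mul, aeval_C, aeval_X, Matrix.mul_apply, Finset.sum_mul]
  rw [Finset.sum_comm]
  refine Finset.sum_congr rfl fun m _ => Finset.sum_congr rfl fun k _ => ?_
  show A _ _ * B _ _ * _ = _
  ring

omit [DecidableEq N] in
theorem fil_sb {A B : Matrix N N K} {w w' : κ × N × N → ℝ}
    (h : ∀ a i j k m, A i k ≠ 0 → B m j ≠ 0 → w' (a, k, m) ≤ w (a, i, j)) (s : κ × N × N) :
    Fil w' (w s) (sb A B s) :=
  fil_sum _ _ fun k _ => fil_sum _ _ fun m _ => fil_CX _ _ fun h1 =>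
    h _ _ _ k m (left_ne_zero_of_mul h1) (right_ne_zero_of_mul h1)

/-- the conjugate of a tuple by a matrix of determinant one -/
noncomputable def cv (x : κ → Matrix N N K) {R : Type*} [CommRing R] [Algebra K R] (M : Matrix N N R) :
    κ × N × N → R := cm fun a => M * (x a).map (algebraMap K R) * M.adjugate

theorem map_cv (x : κ → Matrix N N K) {R S : Type*} [CommRing R] [Algebra K R] [CommRing S] [Algebra K S]
    (φ : R →ₐ[K] S) (M : Matrix N N R) (s : κ × N × N) : φ (cv x M s) = cv x (M.map φ) s := by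
  have h1 : φ.mapMatrix (M * (x s.1).map (algebraMap K R) * M.adjugate) =
      M.map φ * (x s.1).map (algebraMap K S) * (M.map φ).adjugate := by
    rw [map_mul, map_mul, AlgHom.map_adjugate]
    congr 2
    ext i j
    exact φ.commutes _
  exact congrFun (congrFun h1 s.2.1) s.2.2

theorem cv_eq (x : κ → Matrix N N K) (g : GL N K) (hg : (g : Matrix N N K).det = 1) :
    cv x (g : Matrix N N K) = cm fun a => (g : Matrix N N K) * x a * ((g⁻¹ : GL N K) : Matrix N N K) := by
  have h1 : ((g⁻¹ : GL N K) : Matrix N N K) = (g : Matrix N N K).adjugate :=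
    Units.inv_eq_of_mul_eq_one_right (by rw [mul_adjugate, hg, one_smul])
  rw [h1]
  rfl

/-- **an orbit is open in its closure** -/
theorem exists_H [IsAlgClosed K] [Finite κ] {ι : Type*} {X : ι → GL N (Polynomial K)} (h0 : ∀ i, ev (0 : K) (X i) = 1)
    (x : κ → Matrix N N K) : ∃ H : MvPolynomial (κ × N × N) K,
      (∃ g ∈ Gam X K, aeval (cm fun a => (g : Matrix N N K) * x a * ((g⁻¹ : GL N K) : Matrix N N K)) H ≠ 0) ∧
      ∀ y : κ × N × N → K, (∀ f : MvPolynomial (κ × N × N) K, (∀ g ∈ Gam X K,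
        aeval (cm fun a => (g : Matrix N N K) * x a * ((g⁻¹ : GL N K) : Matrix N N K)) f = 0) → aeval y f = 0) →
        aeval y H ≠ 0 → ∃ g ∈ Gam X K, y = cm fun a => (g : Matrix N N K) * x a * ((g⁻¹ : GL N K) : Matrix N N K) := by
  obtain ⟨τ, _, γ, hγ, hd⟩ := exists_dense h0
  let Xg : Matrix N N (MvPolynomial (N × N) K) := Matrix.of fun i j => MvPolynomial.X (i, j)
  have hX : ∀ {R : Type u} [CommRing R] [Algebra K R] (g : GL N R),
      Xg.map (aeval (LangThm.co g) : MvPolynomial (N × N) K →ₐ[K] R) = (g : Matrix N N R) := fun g => by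
    ext i j
    simp [Xg, LangThm.co]
  have hdet : ∀ g ∈ Gam X K, (g : Matrix N N K).det = 1 := by
    obtain ⟨c, -, hc⟩ := isUnit_iff_eq_C_of_isReduced.1 (Matrix.isUnits_det_units γ)
    have h1 : ∀ g ∈ Gam X K, (g : Matrix N N K).det = c := fun g hg => by
      have h2 : Xg.det - C c ∈ van K (LangThm.co γ) := by
        rw [mem_van, map_sub, AlgHom.map_det, AlgHom.mapMatrix_apply, hX, hc, aeval_C, algebraMap_eq, sub_self]
      have h3 := mem_van.1 (hd g hg h2)
      rwa [map_sub, AlgHom.map_det, AlgHom.mapMatrix_apply, hX, aeval_C, sub_eq_zero] at h3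
    intro g hg
    rw [h1 g hg, ← h1 1 (one_mem _), Units.val_one, det_one]
  obtain ⟨H, hH, h⟩ := exists_open (cv x (γ : Matrix N N (MvPolynomial τ K)))
  have hs : ∀ s : τ → K, (fun i => (aeval s : MvPolynomial τ K →ₐ[K] K) (cv x (γ : Matrix N N (MvPolynomial τ K)) i)) =
      cm fun a => (mp (aeval s : MvPolynomial τ K →ₐ[K] K) γ : Matrix N N K) * x a *
        (((mp (aeval s : MvPolynomial τ K →ₐ[K] K) γ)⁻¹ : GL N K) : Matrix N N K) := fun s => by
    rw [← cv_eq x _ (hdet _ (mp_mem _ hγ))]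
    funext i
    exact map_cv x _ _ i
  refine ⟨H, ?_, fun y hy hyH => ?_⟩
  · by_contra hc
    push Not at hc
    refine hH (mem_van.2 (MvPolynomial.funext fun s => ?_))
    have h1 := hc _ (mp_mem (aeval s : MvPolynomial τ K →ₐ[K] K) hγ)
    rw [← hs, ← comp_aeval_apply] at h1
    rw [map_zero]
    exact h1
  · obtain ⟨s, hs'⟩ := h y (fun f hf => mem_van.2 (hy f fun g hg => by
      have h1 : aeval (cv x Xg) f ∈ van K (LangThm.co γ) := by
        rw [mem_van, comp_aeval_apply]
        simp only [map_cv, hX]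
        exact mem_van.1 hf
      have h2 := mem_van.1 (hd g hg h1)
      rw [comp_aeval_apply] at h2
      simp only [map_cv, hX] at h2
      rw [← cv_eq x g (hdet g hg)]
      exact h2)) hyH
    exact ⟨_, mp_mem (aeval s : MvPolynomial τ K →ₐ[K] K) hγ, by rw [← hs]; exact (funext hs').symm⟩

end Cfsg.Agent.Cam.E8.Crk
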