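import Cfsg.Agent.Cam.E8.Crk0
import Cfsg.Agent.Cam.E8K.A

/-!
# Kempf for tuples in `E₈`, the class of destabilizing pairs (helper53)

* `DT S d z l` : the tuple `z` lies in the parabolic subgroup of `l`, and the weight vectors of degree at most `d` in
  the ideal of `S` which do not vanish at `z` have weight at least one; `ks_DK` : this is a class of the type `KS`;
* `Bd x` : the limits of the conjugates of `x` which are not conjugate to `x`; `exists_d`, `exists_DT`;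
* `DT.tw` : transport by automorphisms of the field and permutations of the tuple.
-/

set_option autoImplicit false
set_option maxRecDepth 100000

namespace Cfsg.Agent.Cam.E8.Crk

open MvPolynomial Cfsg Cfsg.Lie
open Cfsg.Agent.Nodes.RGDChev Cfsg.Agent.KFacts.RgdChevCoord
open Cfsg.Agent.H942.E8Tab (e8T)
open Cfsg.Agent.H288.E8L (wt)
open Cfsg.Agent.H129.TorusChar (IsMC cX exists_cX cX_mul cX_one invC_E8)
open Cfsg.Agent.E8A Cfsg.Agent.E8A.Par Cfsg.Agent.Cam.E8K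
open Cfsg.Agent.E8A.Kem (cw mk continuous_mk St PL sp_le_PL PL_le_St)

universe u

variable {K : Type u} [Field K] {κ : Type}

/-- the variables -/
abbrev Vr (κ : Type) : Type := κ × chevE8.Idx × chevE8.Idx

/-- the coordinates of a tuple -/
def c8 (z : κ → G8 K) : Vr κ → K := cm fun a => mx (z a)

/-- the weights of the variables -/
noncomputable def wv : Vr κ → Q8 := fun s => wt s.2.1 - wt s.2.2

/-- the conjugate tuple -/
def cj (g : G8 K) (z : κ → G8 K) : κ → G8 K := fun a => g * z a * g⁻¹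

theorem cj_cj (g h : G8 K) (z : κ → G8 K) : cj g (cj h z) = cj (g * h) z := funext fun a => by
  simp only [cj]
  group

theorem cj_one (z : κ → G8 K) : cj 1 z = z := funext fun a => by simp [cj]

theorem c8_injective : Function.Injective (c8 : (κ → G8 K) → Vr κ → K) := fun _ _ h =>
  funext fun a => mx_injective (Matrix.ext fun i j => congrFun h (a, i, j))

/-- the conjugate polynomial -/
noncomputable def pc (g : G8 K) (f : MvPolynomial (Vr κ) K) : MvPolynomial (Vr κ) K := aeval (sb (mx g) (mx g⁻¹)) f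

theorem aeval_pc (g : G8 K) (z : κ → G8 K) (f : MvPolynomial (Vr κ) K) :
    aeval (c8 z) (pc g f) = aeval (c8 (cj g z)) f := aeval_sb _ _ _ f

/-- `f` vanishes on `S` -/
def Van (S : Set (κ → G8 K)) (f : MvPolynomial (Vr κ) K) : Prop := ∀ z ∈ S, aeval (c8 z) f = 0

/-- `S` is a union of orbits -/
def Stb (S : Set (κ → G8 K)) : Prop := ∀ g, ∀ z ∈ S, cj g z ∈ S

/-- the degree is at most `d` -/
def Dg (d : ℝ) (f : MvPolynomial (Vr κ) K) : Prop := Fil (fun _ => 1) d f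

variable {S : Set (κ → G8 K)} {d c : ℝ} {f : MvPolynomial (Vr κ) K} {l l' l₁ l₂ : Co} {z : κ → G8 K} {g : G8 K}
  {χ : Q8}

theorem Dg.pc (h : Dg d f) (g : G8 K) : Dg d (pc g f) := Fil.aeval (fil_sb fun _ _ _ _ _ _ _ => le_rfl) h

theorem fil_pc (hg : Tr l l' g) (h : Fil (fun s => l' (wv s)) c f) : Fil (fun s => l (wv s)) c (pc g f) :=
  Fil.aeval (fil_sb fun a i j k m h1 h2 => by
    have e1 := hg.1 i k h1
    have e2 := hg.2 m j h2
    simp only [wv, map_sub]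
    linarith) h

theorem Van.pc (hS : Stb S) (h : Van S f) (g : G8 K) : Van S (pc g f) := fun z hz => by
  rw [aeval_pc]
  exact h _ (hS g z hz)

theorem Van.comp [Infinite K] (hS : Stb S) (h : Van S f) (χ : Q8) : Van S (weightedHomogeneousComponent wv χ f) := by
  intro z hz
  refine comp_van wv (fun φ hφ => ?_) χ
  obtain ⟨t, ht, e⟩ := exists_cX (k := K) e8T invC_E8 one_ne_zero hφ fun i => ⟨_, pow_one _⟩
  have e' : ∀ x, cX e8T t⁻¹ x = (φ x)⁻¹ := fun x => by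
    have h1 := cX_mul e8T ht (inv_mem ht) x
    rw [mul_inv_cancel, cX_one, e] at h1
    exact (eq_inv_of_mul_eq_one_right h1.symm)
  have h1 : (fun s => φ (wv s) * c8 z s) = c8 (cj t z) := funext fun s => by
    show φ (wt s.2.1 - wt s.2.2) * mx (z s.1) s.2.1 s.2.2 = (mx t * mx (z s.1) * mx t⁻¹) s.2.1 s.2.2
    rw [mx_TT ht, mx_TT (inv_mem ht), Matrix.mul_diagonal, Matrix.diagonal_mul, e, e', hφ.sub]
    ring
  rw [h1]
  exact h _ (hS t z hz)

theorem fil_hom (h : IsWeightedHomogeneous wv f χ) (l : Co) : Fil (fun s => l (wv s)) (l χ) f := fun m hm => by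
  rw [weight_comp, h (mem_support_iff.1 hm)]

/-! ### The class -/

/-- destabilized tuples -/
def DT (S : Set (κ → G8 K)) (d : ℝ) (z : κ → G8 K) (l : Co) : Prop :=
  (∀ a, z a ∈ St K l) ∧ ∀ f χ, Van S f → Dg d f → IsWeightedHomogeneous wv f χ → aeval (c8 z) f ≠ 0 → 1 ≤ l χ

theorem DT.strong [Infinite K] (hS : Stb S) (h : DT S d z l) (h1 : Van S f) (h2 : Dg d f)
    (h3 : Fil (fun s => l (wv s)) c f) (h4 : aeval (c8 z) f ≠ 0) : 1 ≤ c := by
  obtain ⟨m, hm, h5⟩ := exists_comp wv h4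
  refine (h.2 _ _ (h1.comp hS _) (h2.of_support (support_comp _ _ _))
    (weightedHomogeneousComponent_isWeightedHomogeneous _ _) h5).trans ?_
  rw [← weight_comp]
  exact h3 m hm

theorem DT.conj [Infinite K] (hS : Stb S) (h : DT S d z l) (hg : Tr l l' g) : DT S d (cj g z) l' :=
  ⟨fun a => hg.conj (h.1 a), fun f _ h1 h2 h3 h4 =>
    h.strong hS (h1.pc hS g) (h2.pc g) (fil_pc hg (fil_hom h3 l')) (by rwa [aeval_pc])⟩

theorem St_comb {x : G8 K} (h₁ : x ∈ St K l₁) (h₂ : x ∈ St K l₂) {a b : ℝ} (ha : 0 ≤ a) (hb : 0 ≤ b) :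
    x ∈ St K (a • l₁ + b • l₂) := by
  have key : ∀ y : G8 K, y ∈ St K l₁ → y ∈ St K l₂ → Up (a • l₁ + b • l₂) (a • l₁ + b • l₂) (mx y) :=
    fun y e₁ e₂ i j hij => add_le_add (mul_le_mul_of_nonneg_left (up_of_St e₁ i j hij) ha)
      (mul_le_mul_of_nonneg_left (up_of_St e₂ i j hij) hb)
  exact mem_St (key x h₁ h₂) (key _ (inv_mem h₁) (inv_mem h₂))

theorem St_smul {x : G8 K} (h : x ∈ St K l) {a : ℝ} (ha : 0 ≤ a) : x ∈ St K (a • l) := by
  have h1 := St_comb h h ha le_rfl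
  rwa [zero_smul, add_zero] at h1

theorem St_zero (x : G8 K) : x ∈ St K (0 : Co) := mem_St (fun _ _ _ => le_rfl) fun _ _ _ => le_rfl

theorem DT.mid (h₁ : DT S d z l₁) (h₂ : DT S d z l₂) : DT S d z ((1 / 2 : ℝ) • (l₁ + l₂)) := by
  refine ⟨fun a => ?_, fun f χ h1 h2 h3 h4 => ?_⟩
  · rw [smul_add]
    exact St_comb (h₁.1 a) (h₂.1 a) (by norm_num) (by norm_num)
  · have e₁ := h₁.2 f χ h1 h2 h3 h4
    have e₂ := h₂.2 f χ h1 h2 h3 h4
    simp only [AddMonoidHom.smul_apply, AddMonoidHom.add_apply, smul_eq_mul]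
    linarith

/-- the weights in degree at most `d` -/
def Wd (κ : Type) (d : ℝ) : Set Q8 :=
  Finsupp.weight (wv : Vr κ → Q8) '' {m : Vr κ →₀ ℕ | Finsupp.weight (fun _ => (1 : ℝ)) m ≤ d}

theorem finite_Wd [Finite κ] (d : ℝ) : (Wd κ d).Finite := (finite_deg d).image _

theorem mem_Wd (h2 : Dg d f) (h3 : IsWeightedHomogeneous wv f χ) (h4 : aeval (c8 z) f ≠ 0) : χ ∈ Wd κ d := by
  obtain ⟨m, hm, -⟩ := exists_mon h4
  exact ⟨m, h2 m hm, h3 (mem_support_iff.1 hm)⟩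

/-- the class of the destabilizing pairs of a tuple -/
def DK (S : Set (κ → G8 K)) (d : ℝ) (x : κ → G8 K) (g : G8 K) (l : Co) : Prop := DT S d (cj g x) l

theorem DK.mul [Infinite K] (hS : Stb S) {x : κ → G8 K} (h : DK S d x g l) {y : G8 K} (hy : Tr l l' y) :
    DK S d x (y * g) l' := by
  have h1 := DT.conj hS h hy
  rwa [cj_cj] at h1

theorem isClosed_DK [Finite κ] (S : Set (κ → G8 K)) (d : ℝ) (x : κ → G8 K) :
    IsClosed {v : Fin 8 → ℝ | ∃ g, DK S d x g (mk v)} := by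
  have e : {v : Fin 8 → ℝ | ∃ g, DK S d x g (mk v)} =
      ⋃ T ∈ {T : Set (chevE8.Idx × chevE8.Idx) × Set Q8 | T.2 ⊆ Wd κ d ∧ ∃ g : G8 K,
          (∀ a i j, mx (cj g x a) i j ≠ 0 → (i, j) ∈ T.1) ∧ (∀ a i j, mx (cj g x a)⁻¹ i j ≠ 0 → (i, j) ∈ T.1) ∧
          ∀ f χ, Van S f → Dg d f → IsWeightedHomogeneous wv f χ → aeval (c8 (cj g x)) f ≠ 0 → χ ∈ T.2},
        (⋂ e ∈ T.1, {v : Fin 8 → ℝ | mk v (wt e.2) ≤ mk v (wt e.1)}) ∩ ⋂ χ ∈ T.2, {v : Fin 8 → ℝ | 1 ≤ mk v χ} := by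
    ext v
    simp only [Set.mem_ofPred_eq, Set.mem_iUnion, Set.mem_iInter, Set.mem_inter_iff]
    constructor
    · rintro ⟨g, hg⟩
      exact ⟨({e | mk v (wt e.2) ≤ mk v (wt e.1)}, {χ | χ ∈ Wd κ d ∧ 1 ≤ mk v χ}), ⟨fun _ h => h.1, g,
        fun a => up_of_St (hg.1 a), fun a => up_of_St (inv_mem (hg.1 a)),
        fun f χ h1 h2 h3 h4 => ⟨mem_Wd h2 h3 h4, hg.2 f χ h1 h2 h3 h4⟩⟩, fun _ hi => hi, fun _ hi => hi.2⟩
    · rintro ⟨T, ⟨-, g, hg, hg', hg''⟩, hv, hv'⟩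
      exact ⟨g, fun a => mem_St (fun i j hij => hv _ (hg a i j hij)) fun i j hij => hv _ (hg' a i j hij),
        fun f χ h1 h2 h3 h4 => hv' _ (hg'' f χ h1 h2 h3 h4)⟩
  rw [e]
  refine ((Set.finite_univ.prod (finite_Wd (κ := κ) d).finite_subsets).subset
    fun T hT => ⟨Set.mem_univ _, hT.1⟩).isClosed_biUnion fun T _ => IsClosed.inter ?_ ?_
  · exact isClosed_biInter fun i _ => isClosed_le (continuous_mk _) (continuous_mk _)
  · exact isClosed_biInter fun χ _ => isClosed_le continuous_const (continuous_mk _)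

theorem ks_DK [Finite κ] [Infinite K] (hS : Stb S) (d : ℝ) (x : κ → G8 K) : KS (DK S d x) where
  closed := isClosed_DK S d x
  mid _ _ _ h₁ h₂ := DT.mid h₁ h₂
  sp _ lam _ h hm := h.mul hS (tr_of (PL_le_St lam (sp_le_PL lam hm)))
  rep _ lam _ _ h hn := h.mul hS (bl_rep hn lam).1.inv

/-! ### Limits -/

theorem wv_nonneg (hz : ∀ a, z a ∈ St K l) {s : Vr κ} (h : c8 z s ≠ 0) : 0 ≤ l (wv s) := by
  have h1 := up_of_St (hz s.1) s.2.1 s.2.2 h
  simp only [wv, map_sub]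
  linarith

theorem hom_nonneg (hz : ∀ a, z a ∈ St K l) (h3 : IsWeightedHomogeneous wv f χ) (h4 : aeval (c8 z) f ≠ 0) :
    0 ≤ l χ := by
  obtain ⟨m, hm, h⟩ := exists_mon h4
  rw [← h3 (mem_support_iff.1 hm), ← weight_comp, Finsupp.weight_apply]
  exact Finset.sum_nonneg fun s hs => nsmul_nonneg (wv_nonneg hz (h s hs)) _

theorem hom_zero (hz : ∀ a, z a ∈ Lev K l) (h3 : IsWeightedHomogeneous wv f χ) (h4 : aeval (c8 z) f ≠ 0) :
    l χ = 0 := by
  have h1 := hom_nonneg (fun a => (hz a).1) h3 h4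
  have h2 : 0 ≤ -l χ := hom_nonneg (l := -l) (fun a => (hz a).2) h3 h4
  linarith

/-- the limit of a tuple -/
noncomputable def lm (l : Co) (z : κ → G8 K) : κ → G8 K := fun a => cl l l (z a)

theorem lm_mem (hz : ∀ a, z a ∈ St K l) (a : κ) : lm l z a ∈ Lev K l := cl_mem (hz a)

theorem aeval_lm (hz : ∀ a, z a ∈ St K l) (h3 : IsWeightedHomogeneous wv f χ) (h0 : l χ = 0) :
    aeval (c8 (lm l z)) f = aeval (c8 z) f := by
  have e : ∀ s, c8 (lm l z) s = msk l l (mx (z s.1)) s.2.1 s.2.2 := fun s =>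
    congrFun (congrFun (mx_cl (tr_of (hz s.1))) s.2.1) s.2.2
  rw [aeval_eq_sum, aeval_eq_sum]
  refine Finset.sum_congr rfl fun m hm => ?_
  congr 1
  by_cases h : ∀ s ∈ m.support, c8 z s ≠ 0
  · have h1 : ∑ s ∈ m.support, m s • l (wv s) = 0 := by
      rw [← h0, ← h3 (mem_support_iff.1 hm), ← weight_comp]
      rfl
    rw [Finset.sum_eq_zero_iff_of_nonneg fun s hs => nsmul_nonneg (wv_nonneg hz (h s hs)) _] at h1
    refine Finset.prod_congr rfl fun s hs => ?_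
    have h2 := (smul_eq_zero.1 (h1 s hs)).resolve_left (Finsupp.mem_support_iff.1 hs)
    simp only [wv, map_sub] at h2
    rw [e, msk_of_eq (by linarith)]
    rfl
  · push Not at h
    obtain ⟨s, hs, h1⟩ := h
    have h2 : c8 (lm l z) s = 0 := by
      rw [e]
      by_contra h3
      exact (msk_ne h3).2 h1
    rw [Finset.prod_eq_zero hs (by rw [h2, zero_pow (Finsupp.mem_support_iff.1 hs)]),
      Finset.prod_eq_zero hs (by rw [h1, zero_pow (Finsupp.mem_support_iff.1 hs)])]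

/-- the limit lies in the closure -/
theorem Van.lm [Infinite K] (hS : Stb S) (h : Van S f) (hzS : z ∈ S) (hz : ∀ a, z a ∈ St K l) :
    aeval (c8 (lm l z)) f = 0 := by
  by_contra h1
  obtain ⟨m, -, h2⟩ := exists_comp wv h1
  have h3 := weightedHomogeneousComponent_isWeightedHomogeneous (w := wv) (Finsupp.weight wv m) f
  rw [aeval_lm hz h3 (hom_zero (lm_mem hz) h3 h2)] at h2
  exact h2 (h.comp hS _ z hzS)

theorem exists_DT [Finite κ] (d : ℝ) (hz : ∀ a, z a ∈ St K l) (hS : lm l z ∈ S) : ∃ l', DT S d z l' := by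
  obtain ⟨M, hM⟩ := ((finite_Wd (κ := κ) d).image fun χ => (l χ)⁻¹).bddAbove
  refine ⟨max M 1 • l, fun a => St_smul (hz a) (le_max_of_le_right zero_le_one), fun f χ h1 h2 h3 h4 => ?_⟩
  have h5 : 0 < l χ := lt_of_le_of_ne (hom_nonneg hz h3 h4) fun e => h4 (by
    rw [← aeval_lm hz h3 e.symm]
    exact h1 _ hS)
  have h6 : (l χ)⁻¹ ≤ max M 1 := (hM ⟨χ, mem_Wd h2 h3 h4, rfl⟩).trans (le_max_left _ _)
  calc (1 : ℝ) = (l χ)⁻¹ * l χ := (inv_mul_cancel₀ h5.ne').symm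
    _ ≤ _ := mul_le_mul_of_nonneg_right h6 h5.le

theorem DT.zero (h : DT S d z l) (hz : ∀ a, z a ∈ Lev K l) : DT S d z 0 :=
  ⟨fun _ => St_zero _, fun f χ h1 h2 h3 h4 => by
    have h5 := h.2 f χ h1 h2 h3 h4
    rw [hom_zero hz h3 h4] at h5
    exact h5⟩

/-- the orbit -/
def Orb (x : κ → G8 K) : Set (κ → G8 K) := {y | ∃ g, y = cj g x}

/-- the limits outside the orbit -/
def Bd (x : κ → G8 K) : Set (κ → G8 K) :=
  {y | (∃ h l, ∃ z ∈ Orb x, (∀ a, z a ∈ St K l) ∧ y = cj h (lm l z)) ∧ y ∉ Orb x}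

theorem stb_Orb (x : κ → G8 K) : Stb (Orb x) := by
  rintro g _ ⟨h, rfl⟩
  exact ⟨g * h, cj_cj _ _ _⟩

theorem stb_Bd (x : κ → G8 K) : Stb (Bd x) := by
  rintro g _ ⟨⟨h, l, z, hz, hl, rfl⟩, hn⟩
  refine ⟨⟨g * h, l, z, hz, hl, cj_cj _ _ _⟩, fun h1 => hn ?_⟩
  have h2 := stb_Orb x g⁻¹ _ h1
  rwa [cj_cj, inv_mul_cancel, cj_one] at h2

theorem gam_iff (g : GL chevE8.Idx K) : g ∈ LangThm.Gam (fun r : {r : ℕ | r < chevE8.nroots} =>
    LangThm.xP e8T.inList (r : ℕ) (Polynomial.X : Polynomial K)) K ↔ g ∈ chevE8.group K := by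
  rw [LangThm.gam_eq]
  constructor
  · intro hg
    refine (Subgroup.closure_le _).2 ?_ hg
    rintro _ ⟨r, -, t, rfl⟩
    exact ChevalleyStructure.Elts.xG_mem_group _ _ _
  · intro hg
    have h1 : (LangThm.MM e8T.inList {r : ℕ | r < chevE8.nroots} K).subgroupOf (chevE8.group K) = ⊤ :=
      eq_top_of_xr fun r t => Subgroup.subset_closure ⟨r, r.2, t, rfl⟩
    have h2 : (⟨g, hg⟩ : G8 K) ∈ (LangThm.MM e8T.inList {r : ℕ | r < chevE8.nroots} K).subgroupOf (chevE8.group K) :=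
      h1 ▸ Subgroup.mem_top _
    exact h2

/-- **the zero cocharacter does not destabilize** -/
theorem exists_d [IsAlgClosed K] [Finite κ] (x : κ → G8 K) : ∃ d, ∀ g, ¬ DK (Bd x) d x g 0 := by
  obtain ⟨H, ⟨k, hk, h1⟩, h2⟩ := exists_H (X := fun r : {r : ℕ | r < chevE8.nroots} =>
    LangThm.xP e8T.inList (r : ℕ) (Polynomial.X : Polynomial K)) (fun r => by
      rw [LangThm.ev_xP, Polynomial.eval_X, ChevalleyStructure.Elts.xG_zero]) fun a => mx (x a)
  obtain ⟨d, hd⟩ := exists_fil (fun _ => (1 : ℝ)) H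
  have hv : Van (Bd x) H := by
    rintro _ ⟨⟨h, l, z, hz, hl, rfl⟩, hn⟩
    by_contra h3
    obtain ⟨g, hg, e⟩ := h2 _ (fun f hf => by
      have h4 : Van (Orb x) f := by
        rintro _ ⟨g, rfl⟩
        exact hf g ((gam_iff _).2 g.2)
      rw [← aeval_pc]
      exact (h4.pc (stb_Orb x) h).lm (stb_Orb x) hz hl) h3
    exact hn ⟨⟨g, (gam_iff g).1 hg⟩, c8_injective e⟩
  refine ⟨d, fun g hg => ?_⟩
  have h3 := hg.mul (stb_Bd x) (y := (⟨k, (gam_iff k).1 hk⟩ : G8 K) * g⁻¹) (l' := 0) (tr_of (St_zero _))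
  rw [inv_mul_cancel_right] at h3
  have h4 := DT.strong (stb_Bd x) h3 hv hd (c := 0) (fun m _ => by
    rw [weight_comp]
    exact le_rfl) h1
  exact absurd h4 (by norm_num)

/-! ### Transport -/

/-- the twisted tuple -/
noncomputable def tw (σ : K ≃+* K) (π : κ → κ) (z : κ → G8 K) : κ → G8 K := fun a => em σ.toRingHom (z (π a))

theorem tw_cj (σ : K ≃+* K) (π : κ → κ) (g : G8 K) (z : κ → G8 K) :
    tw σ π (cj g z) = cj (em σ.toRingHom g) (tw σ π z) := funext fun a => by simp [tw, cj]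

theorem em_St {F : Type u} [Field F] (f : F →+* K) {y : G8 F} : em f y ∈ St K l ↔ y ∈ St F l := by
  have key : ∀ y : G8 F, Up l l (mx (em f y)) ↔ Up l l (mx y) := fun y =>
    forall_congr' fun i => forall_congr' fun j => by
      rw [mx_em, Matrix.map_apply, map_ne_zero]
  rw [← tr_iff, ← tr_iff, Tr, Tr, ← map_inv, key, key]

theorem em_cl {F : Type u} [Field F] (f : F →+* K) {y : G8 F} (h : y ∈ St F l) :
    em f (cl l l y) = cl l l (em f y) := by
  apply mx_injective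
  rw [mx_em, mx_cl (tr_of h), mx_cl (tr_of ((em_St f).2 h)), mx_em]
  ext i j
  by_cases e : l (wt j) = l (wt i)
  · rw [Matrix.map_apply, msk_of_eq e, msk_of_eq e, Matrix.map_apply]
  · rw [Matrix.map_apply, msk_of_ne e, msk_of_ne e, map_zero]

theorem em_symm (σ : K ≃+* K) (y : G8 K) : em σ.toRingHom (em σ.symm.toRingHom y) = y := by
  apply mx_injective
  rw [mx_em, mx_em]
  ext i j
  exact σ.apply_symm_apply _

theorem tw_Bd {σ : K ≃+* K} {π : κ → κ} (hπ : Function.Surjective π) {x : κ → G8 K} (hx : tw σ π x ∈ Orb x)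
    {y : κ → G8 K} (hy : y ∈ Bd x) : tw σ π y ∈ Bd x := by
  obtain ⟨⟨h, l, _, ⟨g, rfl⟩, hl, rfl⟩, hn⟩ := hy
  refine ⟨⟨em σ.toRingHom h, l, tw σ π (cj g x), ?_, fun a => (em_St _).2 (hl _), ?_⟩, ?_⟩
  · rw [tw_cj]
    exact stb_Orb x _ _ hx
  · rw [tw_cj]
    congr 1
    exact funext fun a => em_cl _ (hl _)
  · rintro ⟨m, hm⟩
    obtain ⟨k, hk⟩ := hx
    refine hn ⟨em σ.symm.toRingHom (m * k⁻¹), funext fun a => ?_⟩
    obtain ⟨b, rfl⟩ := hπ a
    refine em_injective σ.toRingHom ?_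
    have h1 : tw σ π (cj (em σ.symm.toRingHom (m * k⁻¹)) x) = cj m x := by
      rw [tw_cj, em_symm, hk, cj_cj, inv_mul_cancel_right]
    exact (congrFun hm b).trans (congrFun h1 b).symm

theorem DT.tw [Infinite K] (hS : Stb S) {σ : K ≃+* K} {π : κ → κ} (hσ : ∀ y ∈ S, tw σ π y ∈ S) (h : DT S d z l) :
    DT S d (tw σ π z) l := by
  refine ⟨fun a => (em_St _).2 (h.1 _), fun f χ h1 h2 h3 h4 => ?_⟩
  let u : Vr κ → MvPolynomial (Vr κ) K := fun s => X (π s.1, s.2)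
  have key : ∀ y : κ → G8 K, σ (aeval (c8 y) (aeval u (map σ.symm.toRingHom f))) = aeval (c8 (Crk.tw σ π y)) f := by
    intro y
    rw [comp_aeval_apply, aeval_eq_sum, aeval_eq_sum, support_map_of_injective _ σ.symm.injective, map_sum]
    refine Finset.sum_congr rfl fun m _ => ?_
    rw [map_mul, coeff_map, map_prod]
    congr 1
    · exact σ.apply_symm_apply _
    · refine Finset.prod_congr rfl fun s _ => ?_
      rw [map_pow]
      simp only [u, aeval_X]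
      rfl
  refine h.strong hS (f := aeval u (map σ.symm.toRingHom f)) (fun y hy => ?_)
    (Fil.aeval (fun s => fil_X _ le_rfl) (h2.of_support (support_map_subset _ _)))
    (Fil.aeval (fun s => fil_X _ le_rfl) ((fil_hom h3 l).of_support (support_map_subset _ _))) fun h5 => h4 ?_
  · have h5 := key y
    rw [h1 _ (hσ y hy)] at h5
    exact (map_eq_zero σ).1 h5
  · rw [← key, h5, map_zero]

theorem DK.tw [Infinite K] {σ : K ≃+* K} {π : κ → κ} (hπ : Function.Surjective π) {x : κ → G8 K} {k : G8 K}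
    (hx : tw σ π x = cj k x) (h : DK (Bd x) d x g l) : DK (Bd x) d x (em σ.toRingHom g * k) l := by
  have h1 := DT.tw (stb_Bd x) (fun y hy => tw_Bd hπ ⟨k, hx⟩ hy) h
  rwa [tw_cj, hx, cj_cj] at h1

end Cfsg.Agent.Cam.E8.Crk
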