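import Cfsg.Agent.Cam.Spor.Core
import Cfsg.Agent.E8A.Par.Opt

/-!
# S3690, the row `E₈`: interface (helper69)

The mathematics is in `notes/Cam/e8.md`.  A pair `(g, lam)` is a point of the building; its parabolic subgroup is
`g⁻¹ (St lam) g`, with the radical `g⁻¹ (Ru lam) g` and the Levi subgroup `g⁻¹ (Lv lam) g`.
-/

set_option autoImplicit false
set_option linter.unusedVariables false

namespace Cfsg.Agent.Cam.E8

open Cfsg Cfsg.Lie Subgroup
open Cfsg.Agent.E8A Cfsg.Agent.E8A.Kem Cfsg.Agent.E8A.Par Cfsg.Agent.Cam.Spor Cfsg.Agent.TwoFusion.PerfCore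

section defs

variable {K : Type} [Field K]

variable (K) in
/-- the Levi subgroup -/
def Lv (lam : Q8 →+ ℝ) : Subgroup (G8 K) := St K lam ⊓ St K (-lam)

variable (K) in
/-- the radical of the parabolic subgroup -/
def Ru (lam : Q8 →+ ℝ) : Subgroup (G8 K) := ⨆ c : {c : ℝ // 0 < c}, Rad K (c.1 • lam)

/-- `g A g⁻¹ ≤ B` -/
def In (g : G8 K) (A B : Subgroup (G8 K)) : Prop := ∀ a ∈ A, g * a * g⁻¹ ∈ B

/-- complete reducibility -/
def CR (A : Subgroup (G8 K)) : Prop :=
  ∀ (g : G8 K) (lam : Q8 →+ ℝ), In g A (St K lam) → ∃ r ∈ Ru K lam, In (r * g) A (Lv K lam)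

/-- `(g, l)` and `(g', l')` are the same point -/
def Pt (g : G8 K) (l : Q8 →+ ℝ) (g' : G8 K) (l' : Q8 →+ ℝ) : Prop :=
  Up l l' (mx (g' * g⁻¹)) ∧ Up l' l (mx (g * g'⁻¹))

/-- `A` lies in no proper Levi subgroup: no torus centralizes `A` -/
def NoTor (A : Subgroup (G8 K)) : Prop := ∀ (g : G8 K) (lam : Q8 →+ ℝ), lam ≠ 0 → ¬ In g A (Lv K lam)

/-- the image in the algebraic group -/
noncomputable abbrev bar {F : Type} [Field F] (A : Subgroup (G8 F)) : Subgroup (G8 (Kb F)) := A.map emb0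

end defs

/-! ### Complete reducibility -/

/-- Kempf for the tuple of the elements of `A`: a canonical rational parabolic subgroup -/
def BoxCRK : Prop := ∀ (F : Type) [Field F] [Finite F] (A : Subgroup (G8 F)), ¬ CR (bar A) →
  ∃ (g : G8 F) (lam : Q8 →+ ℝ), lam ≠ 0 ∧ ∀ θ : MulAut (G8 F), A.map θ.toMonoidHom = A →
    ∀ y : G8 F, g * θ y * g⁻¹ ∈ St F lam ↔ g * y * g⁻¹ ∈ St F lam

/-- normal subgroups of completely reducible groups -/
def BoxCRN : Prop := ∀ (F : Type) [Field F] [Finite F] (A Γ : Subgroup (G8 F)), A ≤ Γ →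
  Γ ≤ normalizer (A : Set (G8 F)) → CR (bar Γ) → CR (bar A)

/-- invariance under the automorphisms of the finite group -/
def BoxCRA : Prop := ∀ (F : Type) [Field F] [Finite F] (A : Subgroup (G8 F)) (θ : MulAut (G8 F)),
  (CR (bar A) → CR (bar (A.map θ.toMonoidHom))) ∧ (NoTor (bar A) → NoTor (bar (A.map θ.toMonoidHom)))

/-- descent -/
def BoxCRF : Prop := ∀ (F : Type) [Field F] [Finite F] (A : Subgroup (G8 F)), CR (bar A) → CR A

/-- the group `T R` of a core is completely reducible -/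
def BoxCRG : Prop := ∀ (F : Type) [Field F] [Finite F] (U : Type) [Group U] [Finite U] (τ α β : U →* G8 F)
  (R R' : Subgroup (G8 F)), Core τ α β R R' → CR (bar (τ.range ⊔ R))

/-- two points fixed by a completely reducible group lie in an apartment whose torus centralizes the group -/
def BoxApt : Prop := ∀ (K : Type) [Field K] (A : Subgroup (G8 K)), CR A →
  ∀ (g₁ g₂ : G8 K) (l₁ l₂ : Q8 →+ ℝ), In g₁ A (St K l₁) → In g₂ A (St K l₂) →
    ∃ (g : G8 K) (m₁ m₂ : Q8 →+ ℝ), Pt g₁ l₁ g m₁ ∧ Pt g₂ l₂ g m₂ ∧ In g A (Lv K m₁ ⊓ Lv K m₂)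

/-- all completely reducible groups of a core -/
structure AllCR {F : Type} [Field F] {U : Type} [Group U] (τ α : U →* G8 F) (R R' : Subgroup (G8 F)) : Prop where
  t : CR τ.range
  a : CR α.range
  r : CR R
  r' : CR R'
  bt : CR (bar τ.range)
  ba : CR (bar α.range)
  br : CR (bar R)
  br' : CR (bar R')

/-! ### No torus (optional) -/

/-- an element of order `p` of the algebraic centralizer gives a rational one -/
def BoxNT1 : Prop := ∀ (F : Type) [Field F] [Finite F] (p : ℕ) [Fact p.Prime] [CharP F p] (A : Subgroup (G8 F)),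
  CR (bar A) → CR A → ∀ u ∈ centralizer (bar A : Set (G8 (Kb F))), u ≠ 1 → u ^ p = 1 →
  p ∣ Nat.card (centralizer (A : Set (G8 F)))

/-- without elements of order `p` the least Levi subgroup is canonical -/
def BoxNT2 : Prop := ∀ (F : Type) [Field F] [Finite F] (p : ℕ) [Fact p.Prime] [CharP F p] (A : Subgroup (G8 F)),
  3 ≤ Nat.card F → CR (bar A) → (∀ u ∈ centralizer (bar A : Set (G8 (Kb F))), u ^ p = 1 → u = 1) → ¬ NoTor (bar A) →
  ∃ Z : Subgroup (G8 F), Z ≠ ⊥ ∧ Z ≤ centralizer (A : Set (G8 F)) ∧ (∀ x ∈ Z, ∀ y ∈ Z, x * y = y * x) ∧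
    normalizer (A : Set (G8 F)) ≤ normalizer (Z : Set (G8 F))

/-! ### The cases -/

/-- `q ≥ 4`: the centralizer of `R` has order prime to `p` -/
def BoxUni : Prop := ∀ (F : Type) [Field F] [Finite F] (p : ℕ) [Fact p.Prime] [CharP F p], 4 ≤ Nat.card F →
  ∀ (U : Type) [Group U] [Finite U] (τ α β : U →* G8 F) (R R' : Subgroup (G8 F)), Core τ α β R R' →
  AllCR τ α R R' → ¬ p ∣ Nat.card (centralizer (R : Set (G8 F)))

/-- a small field -/
def BoxQ (q : ℕ) : Prop := ∀ (F : Type) [Field F] [Finite F], Nat.card F = q →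
  ∀ (U : Type) [Group U] [Finite U] (τ α β : U →* G8 F) (R R' : Subgroup (G8 F)), Core τ α β R R' →
  ¬ AllCR τ α R R'

/-- the result for `q ≥ 4` -/
def BoxML : Prop := ∀ (F : Type) [Field F] [Finite F] (p : ℕ) [Fact p.Prime] [CharP F p], 4 ≤ Nat.card F →
  ∀ (U : Type) [Group U] [Finite U] (τ α β : U →* G8 F) (R R' : Subgroup (G8 F)), Core τ α β R R' →
  ¬ p ∣ Nat.card U

/-- the result in characteristic two -/
def BoxTwo : Prop := ∀ (F : Type) [Field F] [Finite F] [CharP F 2], NoCore (G8 F)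

/-- all completely reducible groups -/
theorem allCR (crn : BoxCRN) (cra : BoxCRA) (crf : BoxCRF) (crg : BoxCRG) {F : Type} [Field F] [Finite F] {U : Type}
    [Group U] [Finite U] {τ α β : U →* G8 F} {R R' : Subgroup (G8 F)} (c : Core τ α β R R') : AllCR τ α R R' := by
  have key : ∀ (ρ : U →* G8 F) (Q : Subgroup (G8 F)), Pair ρ Q → CR (bar (ρ.range ⊔ Q)) →
      CR (bar ρ.range) ∧ CR (bar Q) := fun ρ Q h hc => by
    refine ⟨crn F _ _ le_sup_left (sup_le le_normalizer ?_) hc, crn F _ _ le_sup_right (sup_le ?_ le_normalizer) hc⟩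
    · refine le_trans (fun r hr => mem_centralizer_iff.2 ?_) (centralizer_le_normalizer _)
      rintro _ ⟨u, rfl⟩
      exact h.comm u r hr
    · refine le_trans ?_ (centralizer_le_normalizer _)
      rintro _ ⟨u, rfl⟩
      exact mem_centralizer_iff.2 fun r hr => (h.comm u r hr).symm
  have h1 := crg F U τ α β R R' c
  obtain ⟨θ, hθ⟩ := c.hconj
  have h2 : CR (bar (α.range ⊔ R')) := hθ ▸ (cra F _ θ).1 h1
  obtain ⟨h3, h4⟩ := key τ R c.pair h1
  obtain ⟨h5, h6⟩ := key α R' c.pair' h2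
  exact ⟨crf F _ h3, crf F _ h5, crf F _ h4, crf F _ h6, h3, h5, h4, h6⟩

theorem boxML (crn : BoxCRN) (cra : BoxCRA) (crf : BoxCRF) (crg : BoxCRG) (uni : BoxUni) : BoxML := by
  intro F _ _ p _ _ hq U _ _ τ α β R R' c hp
  refine uni F p hq U τ α β R R' c (allCR crn cra crf crg c) (hp.trans ?_)
  have h1 : τ.range ≤ centralizer (R : Set (G8 F)) := by
    rintro _ ⟨u, rfl⟩
    exact mem_centralizer_iff.2 fun r hr => (c.pair.comm u r hr).symm
  have h2 : Finite (G8 F) := finite8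
  rw [Nat.card_congr (MonoidHom.ofInjective c.pair.inj).toEquiv]
  exact card_dvd_of_le h1

end Cfsg.Agent.Cam.E8
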