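import Cfsg.Agent.Cam.E8.Crk1
import Cfsg.Agent.Cam.E8.Iface
import Cfsg.Agent.H460.IFO.Fac

/-!
# Kempf for tuples in `E₈`: the boxes CRK and CRN (helper53)

* `ru_eq` : the two definitions of the unipotent radical agree;
* `cr_of_orb` : a tuple which is conjugate to all its limits is completely reducible;
* `boxCRK : BoxCRK`, `boxCRN : BoxCRN`.
-/

set_option autoImplicit false
set_option maxRecDepth 100000

namespace Cfsg.Agent.Cam.E8.Crk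

open Cfsg Cfsg.Lie Subgroup
open Cfsg.Agent.ChevalleyStructure.CoxeterGeomTypes Cfsg.Agent.Nodes.RGDChev Cfsg.Agent.KFacts.RgdChevCoord
open Cfsg.Agent.H942.E8Tab (e8T)
open Cfsg.Agent.H288.E8L (wt)
open Cfsg.Agent.H129.TorusChar (invC_E8)
open Cfsg.Agent.E8A Cfsg.Agent.E8A.Par Cfsg.Agent.Cam.E8K
open Cfsg.Agent.E8A.Kem (cw St PL PL_le_St TT_le_PL Rad Dm Ge mem_Ge exists_split)

universe u

section Levi

variable {K : Type u} [Field K] {κ : Type} {l : Co}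

theorem exists_rad {x : G8 K} (hx : x ∈ E8K.Ru K l) : ∃ c : ℝ, 0 < c ∧ x ∈ Rad K (c • l) := by
  obtain ⟨M, hM⟩ := (Set.finite_range fun e : chevE8.Idx × chevE8.Idx => (l (wt e.1) - l (wt e.2))⁻¹).bddAbove
  have hc : (0 : ℝ) < max M 1 := lt_max_of_lt_right one_pos
  refine ⟨max M 1, hc, St_smul hx.1 hc.le, fun c v hv => ?_⟩
  rw [act_sub_self]
  refine mulVec_LS (fun i j hij hj => mem_Ge.2 ?_) hv
  have h1 := sub_pos.2 ((mem_Ru.1 hx).2 i j hij)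
  have h2 : (l (wt i) - l (wt j))⁻¹ ≤ max M 1 := (hM ⟨(i, j), rfl⟩).trans (le_max_left _ _)
  have h3 : 1 ≤ max M 1 * (l (wt i) - l (wt j)) :=
    calc (1 : ℝ) = (l (wt i) - l (wt j))⁻¹ * (l (wt i) - l (wt j)) := (inv_mul_cancel₀ h1.ne').symm
      _ ≤ _ := mul_le_mul_of_nonneg_right h2 h1.le
  have h4 : c ≤ max M 1 * l (wt j) := mem_Ge.1 hj
  show c + 1 ≤ max M 1 * l (wt i)
  linarith

theorem rad_le {c : ℝ} (hc : 0 < c) : Rad K (c • l) ≤ E8K.Ru K l := by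
  intro x hx
  refine mem_Ru.2 ⟨?_, fun i j hij => ?_⟩
  · have h1 := St_smul hx.1 (inv_pos.2 hc).le
    rwa [smul_smul, inv_mul_cancel₀ hc.ne', one_smul] at h1
  · have h1 := hx.2 _ (ee K j) (ee_mem_LS (mem_Ge.2 le_rfl)) i (by rwa [act_sub_self, mulVec_ee])
    have h2 : c * l (wt j) + 1 ≤ c * l (wt i) := mem_Ge.1 h1
    exact lt_of_mul_lt_mul_left (by linarith) hc.le

theorem exists_eps (l l' : Co) : ∃ ε : ℝ, 0 < ε ∧ ∀ r : Fin chevE8.nroots,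
    l (vec chevE8 8 r) + ε * l' (vec chevE8 8 r) = 0 → l (vec chevE8 8 r) = 0 ∧ l' (vec chevE8 8 r) = 0 := by
  obtain ⟨ε, h1, h2⟩ := (Set.Ioi_infinite (0 : ℝ)).exists_notMem_finite
    (Set.finite_range fun r : Fin chevE8.nroots => -l (vec chevE8 8 r) / l' (vec chevE8 8 r))
  refine ⟨ε, h1, fun r hr => ?_⟩
  have h3 : l' (vec chevE8 8 r) = 0 := by
    by_contra h3
    exact h2 ⟨r, by rw [div_eq_iff h3]; linarith⟩
  rw [h3, mul_zero, add_zero] at hr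
  exact ⟨hr, h3⟩

/-- the roots of the Levi subgroup -/
def rt0 (l : Co) : Set (Fin chevE8.nroots) := {r | l (vec chevE8 8 r) = 0}

/-- a tuple in a minimal Levi subgroup is completely reducible -/
theorem cr_of_min {x : κ → G8 K} {l₀ : Co} {g₀ : G8 K} (h₀ : ∀ a, cj g₀ x a ∈ Lev K l₀)
    (hm : ∀ g l, (∀ a, cj g x a ∈ St K l) → (rt0 l₀).ncard ≤ (rt0 l).ncard) (g : G8 K) (l : Co)
    (hg : ∀ a, cj g x a ∈ St K l) : ∃ r ∈ E8K.Ru K l, ∀ a, cj (r * g) x a ∈ Lev K l := by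
  obtain ⟨z, hz, w, ht⟩ := exists_apt l₀ l (g₀ * g⁻¹)
  generalize cw l w = l' at ht
  have h1 : ∀ a, cj (z * g₀) x a ∈ St K l₀ := fun a => by
    rw [← cj_cj]
    exact mul_mem (mul_mem hz (h₀ a).1) (inv_mem hz)
  have h2 : ∀ a, cj (z * g₀) x a ∈ St K l' := fun a => by
    rw [show z * g₀ = z * (g₀ * g⁻¹) * g by group, ← cj_cj]
    exact ht.conj (hg a)
  obtain ⟨ε, hε, he⟩ := exists_eps l₀ l'
  have h3 : rt0 ((1 : ℝ) • l₀ + ε • l') = rt0 l₀ :=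
    Set.eq_of_subset_of_ncard_le (fun r hr => (he r (by simpa [rt0] using hr)).1)
      (hm _ _ fun a => St_comb (h1 a) (h2 a) zero_le_one hε.le)
  have h4 : Lev K l₀ ≤ Lev K l' := Lev_mono fun a ha h => by
    obtain ⟨r, rfl⟩ := Frm.exists_idx ha
    have h5 : r ∈ rt0 ((1 : ℝ) • l₀ + ε • l') := h3 ▸ h
    exact (he r (by simpa [rt0] using h5)).2
  obtain ⟨a₁, -, b₁, -, ha, hb, e⟩ := dec l' (tr_of hz).mul_cl
  have hc := cl_mem hz
  generalize cl l₀ l₀ z = c at e hc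
  have hz' : z = a₁ * b₁ * c := by rw [← e, inv_mul_cancel_right]
  have h5 : ∀ a, cj (a₁⁻¹ * (z * g₀)) x a ∈ Lev K l' := fun a => by
    have hm : cj (c * g₀) x a ∈ Lev K l' := h4 (by
      rw [← cj_cj]
      exact mul_mem (mul_mem hc (h₀ a)) (inv_mem hc))
    have e1 : cj (a₁⁻¹ * (z * g₀)) x a = b₁ * cj (c * g₀) x a * b₁⁻¹ := by
      rw [hz']
      simp only [cj]
      group
    have h6 : b₁ * cj (c * g₀) x a * b₁⁻¹ ∈ St K l' := by
      rw [← e1, ← cj_cj]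
      exact (tr_of (inv_mem ha)).conj (h2 a)
    generalize cj (c * g₀) x a = m at hm e1 h6
    have h7 : b₁ * (m * b₁⁻¹ * m⁻¹) = 1 :=
      eq_one_of_Ru' (mul_mem hb ((tr_of hm.2).conj_Ru (inv_mem hb))) (by
        rw [show b₁ * (m * b₁⁻¹ * m⁻¹) = b₁ * m * b₁⁻¹ * m⁻¹ by group]
        exact mul_mem h6 (inv_mem hm.1))
    rw [e1, show b₁ * m * b₁⁻¹ = b₁ * (m * b₁⁻¹ * m⁻¹) * m by group, h7, one_mul]
    exact hm
  have hs : Tr l l' (a₁⁻¹ * (z * (g₀ * g⁻¹))) := (tr_of (inv_mem ha)).mul ht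
  refine ⟨_, hs.cl_mul', fun a => ?_⟩
  have hB := bl_cl hs
  generalize cl l l' (a₁⁻¹ * (z * (g₀ * g⁻¹))) = s at hB
  have e2 : cj (s⁻¹ * (a₁⁻¹ * (z * (g₀ * g⁻¹))) * g) x a = s⁻¹ * cj (a₁⁻¹ * (z * g₀)) x a * s := by
    simp only [cj]
    group
  rw [e2]
  exact ((hB.inv.mul (bl_lev (h5 a))).mul hB).lev

/-- **a tuple which is conjugate to all its limits is completely reducible** -/
theorem cr_of_orb {x : κ → G8 K} (h : ∀ g l, (∀ a, cj g x a ∈ St K l) → lm l (cj g x) ∈ Orb x) (g : G8 K) (l : Co)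
    (hg : ∀ a, cj g x a ∈ St K l) : ∃ r ∈ E8K.Ru K l, ∀ a, cj (r * g) x a ∈ Lev K l := by
  obtain ⟨⟨g₁, l₀⟩, h1, hm⟩ := (measure fun q : G8 K × Co => (rt0 q.2).ncard).wf.has_min
    {q | ∀ a, cj q.1 x a ∈ St K q.2} ⟨(g, l), hg⟩
  obtain ⟨g₀, e⟩ := h g₁ l₀ h1
  exact cr_of_min (l₀ := l₀) (g₀ := g₀) (fun a => e ▸ lm_mem h1 a) (fun g l hg => not_lt.1 (hm (g, l) hg)) g l hg

theorem em_refl (y : G8 K) : em (RingEquiv.refl K).toRingHom y = y := by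
  apply mx_injective
  rw [mx_em]
  rfl

end Levi

/-- the two definitions of the unipotent radical agree -/
theorem ru_eq (K : Type) [Field K] (l : Co) : E8.Ru K l = E8K.Ru K l := by
  refine le_antisymm (iSup_le fun c => rad_le c.2) fun x hx => ?_
  obtain ⟨c, hc, h⟩ := exists_rad hx
  exact le_iSup (fun c : {c : ℝ // 0 < c} => Rad K (c.1 • l)) ⟨c, hc⟩ h

theorem lv_eq (K : Type) [Field K] (l : Co) : Lv K l = Lev K l := rfl

variable {F : Type} [Field F]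

/-- the tuple of the elements -/
noncomputable def tup (A : Subgroup (G8 F)) : A → G8 (Kb F) := fun a => emb0 (a : G8 F)

theorem in_iff {A : Subgroup (G8 F)} {g : G8 (Kb F)} {B : Subgroup (G8 (Kb F))} :
    In g (bar A) B ↔ ∀ a, cj g (tup A) a ∈ B :=
  ⟨fun h a => h _ ⟨a, a.2, rfl⟩, by rintro h _ ⟨a, ha, rfl⟩; exact h ⟨a, ha⟩⟩

theorem exists_opt [Finite F] {A : Subgroup (G8 F)} (h : ¬ CR (bar A)) : ∃ d g l,
    Opt (DK (Bd (tup A)) d (tup A)) g l ∧ Dm l ∧ ∀ g, ¬ DK (Bd (tup A)) d (tup A) g 0 := by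
  have : Finite (G8 F) := finite8
  obtain ⟨d, hd⟩ := exists_d (tup A)
  have h1 : ∃ g l, (∀ a, cj g (tup A) a ∈ St (Kb F) l) ∧ lm l (cj g (tup A)) ∉ Orb (tup A) := by
    by_contra h1
    push Not at h1
    refine h fun g l hg => ?_
    obtain ⟨r, hr, h2⟩ := cr_of_orb h1 g l (in_iff.1 hg)
    exact ⟨r, (ru_eq (Kb F) l).ge hr, in_iff.2 h2⟩
  obtain ⟨g, l, h2, h3⟩ := h1
  obtain ⟨l', h4⟩ := exists_DT (S := Bd (tup A)) d h2 ⟨⟨1, l, _, ⟨g, rfl⟩, h2, (cj_one _).symm⟩, h3⟩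
  obtain ⟨g', l'', ho, hdm⟩ := (ks_DK (stb_Bd _) d (tup A)).exists_opt (g₀ := g) h4
  exact ⟨d, g', l'', ho, hdm, hd⟩

/-- **normal subgroups of completely reducible groups** -/
theorem boxCRN : BoxCRN := by
  intro F _ _ A Γ hA hN hΓ
  by_contra h
  have : Finite (G8 F) := finite8
  obtain ⟨d, g, l, ho, hdm, h0⟩ := exists_opt h
  have h1 : In g (bar Γ) (St (Kb F) l) := by
    rintro _ ⟨γ, hγ, rfl⟩
    have h2 := DK.tw (σ := RingEquiv.refl _) (π := fun a : A => ⟨γ * a * γ⁻¹, (mem_normalizer_iff.1 (hN hγ) a).1 a.2⟩)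
      (fun b => ⟨⟨γ⁻¹ * b * γ, (mem_normalizer_iff.1 (hN hγ) _).2 (by
        rw [show γ * (γ⁻¹ * b * γ) * γ⁻¹ = b by group]; exact b.2)⟩, Subtype.ext (by simp [mul_assoc])⟩)
      (k := emb0 γ) (funext fun a => by
        show E8A.em (RingEquiv.refl _).toRingHom (emb0 (γ * (a : G8 F) * γ⁻¹)) = emb0 γ * emb0 (a : G8 F) * (emb0 γ)⁻¹
        rw [em_refl, map_mul, map_mul, map_inv]) ho.1
    rw [em_refl] at h2
    exact PL_le_St _ ((ks_DK (stb_Bd _) d (tup A)).rel hdm ho h2)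
  obtain ⟨r, hr, h2⟩ := hΓ g l h1
  rw [ru_eq] at hr
  exact h0 (r * g) (DT.zero (ho.1.mul (stb_Bd _) (tr_of hr.1)) fun a => h2 _ ⟨a, hA a.2, rfl⟩)

/-- a stable point is rational -/
theorem exists_rat [Finite F] {l : Co} {g : G8 (Kb F)} (h : sg g * g⁻¹ ∈ PL (Kb F) l) :
    ∃ y : G8 F, emb0 y * g⁻¹ ∈ PL (Kb F) l := by
  obtain ⟨p, hp, hch⟩ := exists_char F
  have := Fact.mk hp
  obtain ⟨e, he0, he⟩ := Frm.exists_exp (F := F) p
  have h1 : g * (Frm.sg F p e g)⁻¹ ∈ PL (Kb F) l := by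
    have h2 := inv_mem h
    rwa [mul_inv_rev, inv_inv, sg_eq_phi p he] at h2
  obtain ⟨z, hz, t, ht, fr⟩ := exists_split he0 h1
  obtain ⟨s, hs, e1⟩ := H720.TorusReal.torus_lang e8T cs8 he0 (Frm.sg_isFrob p) (Frm.sg_fr p) invC_E8 one_ne_zero ht
  obtain ⟨y, hy⟩ := Frm.exists_emb0 he (x := s⁻¹ * (z * g)) (by
    have e2 : Frm.sg F p e (z * g) = t⁻¹ * (z * g) := by rw [← fr.eq]; group
    rw [map_mul, map_inv, e2, ← mul_assoc, ← mul_inv_rev, ← e1])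
  refine ⟨y, ?_⟩
  rw [hy, show s⁻¹ * (z * g) * g⁻¹ = s⁻¹ * z by group]
  exact mul_mem (inv_mem (TT_le_PL _ hs)) hz

/-- the Frobenius automorphism of the algebraic closure -/
noncomputable def fqE (F : Type) [Field F] [Finite F] : Kb F ≃+* Kb F :=
  RingEquiv.ofBijective (fq F) ⟨(fq F).injective, fun x => by
    obtain ⟨y, hy⟩ := IsAlgClosed.exists_pow_nat_eq x (Nat.card_pos (α := F))
    exact ⟨y, by rw [fq_apply, hy]⟩⟩

/-- automorphisms of the finite group come from automorphisms of the algebraic group -/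
theorem exists_ext [Finite F] (θ : MulAut (G8 F)) : ∃ (y : G8 F) (σ : F ≃+* F) (τ : Kb F ≃+* Kb F),
    (∀ b, θ b = y * em σ.toRingHom b * y⁻¹) ∧ ∀ b, em τ.toRingHom (emb0 b) = emb0 (em σ.toRingHom b) := by
  obtain ⟨y, φ, ⟨σ, hσ⟩, rfl⟩ := H460.IFO.fac8 θ
  have h1 : φ.toMonoidHom.eqLocus (em σ.toRingHom) = ⊤ := eq_top_of_xr fun r t => by
    show φ (xr r t) = em σ.toRingHom (xr r t)
    rw [em_xr]
    exact mx_injective ((hσ _ r t r.2 (mx_xr r t)).trans (mx_xr r _).symm)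
  refine ⟨y, σ, IsAlgClosure.equivOfEquiv (Kb F) (Kb F) σ, fun b => ?_, fun b => ?_⟩
  · have h2 : b ∈ φ.toMonoidHom.eqLocus (em σ.toRingHom) := h1 ▸ mem_top b
    rw [← show φ b = em σ.toRingHom b from h2]
    rfl
  · apply mx_injective
    rw [mx_em, emb0, mx_em, mx_em, mx_em]
    ext i j
    exact IsAlgClosure.equivOfEquiv_algebraMap _ _ σ _

/-- **Kempf for tuples** -/
theorem boxCRK : BoxCRK := by
  intro F _ _ A h
  have : Finite (G8 F) := finite8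
  obtain ⟨d, g₀, l, ho₀, hdm, h0⟩ := exists_opt h
  have ks := ks_DK (stb_Bd (tup A)) d (tup A)
  obtain ⟨g, hg⟩ : ∃ g : G8 F, emb0 g * g₀⁻¹ ∈ PL (Kb F) l := by
    have h1 := DK.tw (σ := fqE F) (π := id) Function.surjective_id (k := 1)
      (by rw [cj_one]; exact funext fun a => sg_emb0 _) ho₀.1
    rw [mul_one] at h1
    exact exists_rat (ks.rel hdm ho₀ h1)
  have ho : Opt (DK (Bd (tup A)) d (tup A)) (emb0 g) l := ho₀.of (by
    have h1 := ho₀.1.mul (stb_Bd _) (tr_of (PL_le_St _ hg))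
    rwa [inv_mul_cancel_right] at h1) rfl
  refine ⟨g, l, fun e => h0 _ (e ▸ ho.1), fun θ hθ b => ?_⟩
  obtain ⟨y, σ, τ, h1, h2⟩ := exists_ext θ
  have hA : ∀ a, θ a ∈ A ↔ a ∈ A := fun a => by
    conv_lhs => rw [← hθ]
    exact mem_map_iff_mem θ.injective
  have h3 := DK.tw (σ := τ) (π := fun a : A => ⟨θ.symm a, (hA _).1 (by rw [θ.apply_symm_apply]; exact a.2)⟩)
    (fun b => ⟨⟨θ b, (hA _).2 b.2⟩, Subtype.ext (θ.symm_apply_apply _)⟩) (k := (emb0 y)⁻¹) (funext fun a => by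
      show em τ.toRingHom (emb0 (θ.symm a)) = (emb0 y)⁻¹ * emb0 (a : G8 F) * (emb0 y)⁻¹⁻¹
      conv_rhs => rw [← θ.apply_symm_apply a, h1]
      rw [h2, map_mul, map_mul, map_inv]
      group) ho.1
  have h4 := PL_le_St _ (ks.rel hdm ho h3)
  rw [h2, ← map_inv, ← map_inv, ← map_mul, ← map_mul, emb0, em_St] at h4
  have e : g * θ b * g⁻¹ = (em σ.toRingHom g * y⁻¹ * g⁻¹)⁻¹ * em σ.toRingHom (g * b * g⁻¹) *
      (em σ.toRingHom g * y⁻¹ * g⁻¹) := by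
    rw [h1, map_mul, map_mul, map_inv]
    group
  rw [e, mul_mem_cancel_right h4, mul_mem_cancel_left (inv_mem h4), em_St]

end Cfsg.Agent.Cam.E8.Crk
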