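import Cfsg.Agent.Cam.E8.Crk2
import Cfsg.Agent.Cam.E8.Cra
import Cfsg.Agent.Cam.E8.Crf
import Cfsg.Agent.Cam.E8.Crg

/-!
# The groups of a core in `E₈` are completely reducible (helper53)
-/

set_option autoImplicit false

namespace Cfsg.Agent.Cam.E8.Crk

open Cfsg.Agent.E8A Cfsg.Agent.Cam.Spor

theorem boxCRG : BoxCRG := Crg.boxCRG boxCRK

/-- **all completely reducible groups of a core** -/
theorem allCR8 {F : Type} [Field F] [Finite F] {U : Type} [Group U] [Finite U] {τ α β : U →* G8 F}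
    {R R' : Subgroup (G8 F)} (c : Core τ α β R R') : AllCR τ α R R' :=
  allCR boxCRN Cra.boxCRA Crf.boxCRF boxCRG c

theorem boxML_of (uni : BoxUni) : BoxML := boxML boxCRN Cra.boxCRA Crf.boxCRF boxCRG uni

theorem noCore_of {q : ℕ} (h : BoxQ q) (F : Type) [Field F] [Finite F] (hq : Nat.card F = q) {U : Type} [Group U]
    [Finite U] {τ α β : U →* G8 F} {R R' : Subgroup (G8 F)} (c : Core τ α β R R') : False :=
  h F hq U τ α β R R' c (allCR8 c)

end Cfsg.Agent.Cam.E8.Crk
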