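import Cfsg.Agent.Cam.Ex.URank
import Cfsg.Agent.Cam.Ex.PRoot
import Cfsg.Agent.Cam.Ex.RE
import Cfsg.Agent.Cam.Ex.Frame
import Cfsg.Agent.Cam.Red.Count
import Cfsg.Agent.S0493

/-!
# S3690: no component of `g⁻¹ X g` moves a component of `X` (helper81)

Eight commuting copies of `A₅` give eight orthogonal roots of `E₈`; no element of the Weyl group permutes five of
them cyclically and fixes the other three.
-/

set_option autoImplicit false
set_option linter.unusedVariables false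
set_option linter.unusedSectionVars false

namespace Cfsg.Agent.Cam.E8.Mov

open CoxeterSystem Cfsg Cfsg.Lie Subgroup
open Cfsg.Agent.ChevalleyStructure.CoxeterGeom Cfsg.Agent.ChevalleyStructure.CoxeterGeomTypes
open Cfsg.Agent.Tits.Roots Cfsg.Agent.Nodes.BNOf Cfsg.Agent.Nodes.RGDChev Cfsg.Agent.KFacts.RgdChevCoord
open Cfsg.Agent.H129.TorusChar Cfsg.Agent.Cam.Ex Cfsg.Agent.Cam.Ex.S2
open scoped commutatorElement

theorem n4 : ∀ i j, CoxeterMatrix.E₈ i j ≠ 4 := by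
  intro i j; fin_cases i <;> fin_cases j <;> decide

theorem n6 : ∀ i j, CoxeterMatrix.E₈ i j ≠ 6 := by
  intro i j; fin_cases i <;> fin_cases j <;> decide

theorem eq_sum_sr (x : Lat 8) : x = ∑ k, x k • (sr k : Lat 8) := by
  funext j
  simp [Finset.sum_apply, sr, Pi.single_apply]

/-- the pairing with a root as an additive map -/
noncomputable def cph {c : Lat 8} (hc : Rt tE8 c) : Lat 8 →+ ℤ :=
  AddMonoidHom.mk' (fun a => cp tE8 a c) fun a b => cp_add a b hc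

theorem cph_apply {c : Lat 8} (hc : Rt tE8 c) (a : Lat 8) : cph hc a = cp tE8 a c := rfl

theorem hom_sum {K : Type} [CommRing K] (φ : Lat 8 →+ K) (x : Lat 8) : φ x = ∑ k, (x k : K) * φ (sr k) := by
  conv_lhs => rw [eq_sum_sr x]
  rw [map_sum]
  exact Finset.sum_congr rfl fun k _ => by rw [map_zsmul, zsmul_eq_mul]

/-- two roots that are congruent modulo `r ≥ 3` are equal -/
theorem eq_of_dvd {a b : Lat 8} (ha : Rt tE8 a) (hb : Rt tE8 b) {r : ℤ} (h3 : 3 ≤ r) (h : ∀ k, r ∣ (b - a) k) :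
    b = a := by
  have h1 : ∀ k, r ∣ cp tE8 b (sr k) - cp tE8 a (sr k) := fun k => by
    rw [← P.cp_sub _ _ (rt_sr tE8 k), ← cph_apply (rt_sr tE8 k), hom_sum]
    exact Finset.dvd_sum fun j _ => Dvd.dvd.mul_right (h j) _
  have h2 : cp tE8 (b - a) b - cp tE8 (b - a) a = ∑ k, (b - a) k * (cp tE8 b (sr k) - cp tE8 a (sr k)) := by
    rw [← cph_apply hb, ← cph_apply ha, hom_sum, hom_sum (cph ha), ← Finset.sum_sub_distrib]
    refine Finset.sum_congr rfl fun k _ => ?_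
    rw [cph_apply, cph_apply, RE.cp_symm n4 n6 (rt_sr tE8 k) hb, RE.cp_symm n4 n6 (rt_sr tE8 k) ha, Int.cast_id]
    ring
  have h4 : r * r ∣ cp tE8 (b - a) b - cp tE8 (b - a) a := by
    rw [h2]
    exact Finset.dvd_sum fun k _ => mul_dvd_mul (h k) (h1 k)
  rw [P.cp_sub _ _ hb, P.cp_sub _ _ ha, cp_self hb, cp_self ha, RE.cp_symm n4 n6 ha hb] at h4
  have h9 : 9 ≤ r * r := by nlinarith
  rcases RE.cp_cases n4 n6 hb ha with e | e | e | e | e
  · exact e
  all_goals exfalso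
  · rw [e, cp_neg _ ha, cp_self ha] at h4
    have := Int.le_of_dvd (by norm_num) h4
    omega
  all_goals
    rw [e] at h4
    have := Int.le_of_dvd (by norm_num) h4
    omega

/-- the five-cycle -/
def cy : Fin 8 → Fin 8 := ![1, 2, 3, 4, 0, 5, 6, 7]

theorem cy_inj : Function.Injective cy := by decide

theorem cy_surj : Function.Surjective cy := by decide

theorem no_code : ∀ z z' z'' : Fin 8 → ZMod 2, (∀ i, z' (cy i) = z i) → (∀ i, z'' (cy i) = z' i) →
    ∑ i, (z i).val = 4 → ∑ i, z i * z' i = 0 → ∑ i, z i * z'' i = 0 → False := by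
  have key : ∀ z : Fin 8 → ZMod 2, ∑ i, (z i).val = 4 → ∑ i, z (cy i) * z i = 0 →
      ∑ i, z (cy (cy i)) * z i = 0 → False := by decide +kernel
  have hsum : ∀ f : Fin 8 → ZMod 2, ∑ i, f (cy i) = ∑ i, f i := fun f =>
    (Equiv.ofBijective cy ⟨cy_inj, cy_surj⟩).sum_comp f
  intro z z' z'' h1 h2 h3 h4 h5
  refine key z h3 ?_ ?_
  · rw [← h4, ← hsum fun i => z i * z' i]
    exact Finset.sum_congr rfl fun i _ => by rw [h1]
  · rw [← h5, ← hsum fun i => z i * z'' i, ← hsum fun i => z (cy i) * z'' (cy i)]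
    exact Finset.sum_congr rfl fun i _ => by rw [h2, h1]

/-- the combinatorial statement -/
theorem comb {r : ℕ} (hr : r.Prime) (h3 : 3 ≤ r) (φ : Fin 8 → (Lat 8 →+ ZMod r))
    (w : Fin 8 → CoxeterMatrix.E₈.Group) (hw : ∀ i, w i ∈ WW tE8 {a | Rt tE8 a ∧ ∀ j, j ≠ i → φ j a = 0})
    (hneg : ∀ i, Neg tE8 (w i) (φ i)) (h0 : ∀ i, φ i ≠ 0) (s : CoxeterMatrix.E₈.Group)
    (hs : ∀ i a, φ (cy i) (wa tE8 s a) = φ i a) : False := by
  classical
  have := Fact.mk hr
  have h2 : (2 : ZMod r) ≠ 0 := fun h0 => by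
    have := Nat.le_of_dvd two_pos ((ZMod.natCast_eq_zero_iff 2 r).1 (by exact_mod_cast h0))
    omega
  let K : (Lat 8 →+ ZMod r) → Subgroup CoxeterMatrix.E₈.Group := fun ψ =>
    { carrier := {v | ∀ a, ψ (wa tE8 v a) = ψ a}
      one_mem' := fun a => by rw [wa_one]
      mul_mem' := fun {v v'} hv hv' a => by rw [wa_mul, hv, hv']
      inv_mem' := fun {v} hv a => by rw [← hv, wa_wa_inv] }
  have hK : ∀ (S : Set (Lat 8)) (ψ : Lat 8 →+ ZMod r), (∀ a ∈ S, Rt tE8 a) → (∀ a ∈ S, ψ a = 0) → WW tE8 S ≤ K ψ :=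
    fun S ψ h1 h4 => P.WW_ind h1 fun c hc v hv a => by rw [hv, map_sub, map_zsmul, h4 c hc, smul_zero, sub_zero]
  have hfix : ∀ i j, j ≠ i → ∀ a, φ j (wa tE8 (w i) a) = φ j a := fun i j hj =>
    hK _ (φ j) (fun a ha => ha.1) (fun a ha => ha.2 j hj) (hw i)
  have hα : ∀ i, ∃ a, Rt tE8 a ∧ (∀ j, j ≠ i → φ j a = 0) ∧ φ i a ≠ 0 := fun i => by
    by_contra hc
    push Not at hc
    refine h0 i (AddMonoidHom.ext fun a => ?_)
    have h4 := hK _ (φ i) (fun a ha => ha.1) (fun a ha => hc a ha.1 ha.2) (hw i) a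
    rw [hneg i a] at h4
    have h5 : (2 : ZMod r) * φ i a = 0 := by linear_combination -h4
    exact (mul_eq_zero.1 h5).resolve_left h2
  choose α hα1 hα2 hα3 using hα
  -- the matrices
  let Pm : Matrix (Fin 8) (Fin 8) (ZMod r) := fun i k => φ i (sr k)
  let A : Matrix (Fin 8) (Fin 8) ℤ := fun k j => α j k
  have hPA : Pm * A.map (Int.castRingHom (ZMod r)) = Matrix.diagonal fun i => φ i (α i) := by
    ext i j
    have h4 : (Pm * A.map (Int.castRingHom (ZMod r))) i j = φ i (α j) := by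
      rw [Matrix.mul_apply, hom_sum (φ i) (α j)]
      exact Finset.sum_congr rfl fun k _ => mul_comm _ _
    rw [h4]
    by_cases h : i = j
    · rw [h, Matrix.diagonal_apply_eq]
    · rw [Matrix.diagonal_apply_ne _ h, hα2 j i h]
  have hdet : Pm.det * (A.map (Int.castRingHom (ZMod r))).det ≠ 0 := by
    rw [← Matrix.det_mul, hPA, Matrix.det_diagonal]
    exact Finset.prod_ne_zero_iff.2 fun i _ => hα3 i
  have hA : A.det ≠ 0 := fun h => by
    refine right_ne_zero_of_mul hdet ?_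
    rw [← RingHom.mapMatrix_apply, ← RingHom.map_det, h, map_zero]
  have hker : ∀ x : Lat 8, (∀ i, φ i x = 0) → ∀ k, (r : ℤ) ∣ x k := fun x hx k => by
    have h4 : Pm.mulVec (fun k => (x k : ZMod r)) = 0 := by
      funext i
      rw [Pi.zero_apply, ← hx i, hom_sum (φ i) x, Matrix.mulVec, dotProduct]
      exact Finset.sum_congr rfl fun k _ => mul_comm _ _
    have h5 := Matrix.eq_zero_of_mulVec_eq_zero (left_ne_zero_of_mul hdet) h4
    exact (ZMod.intCast_zmod_eq_zero_iff_dvd _ _).1 (congrFun h5 k)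
  have h3' : (3 : ℤ) ≤ r := by exact_mod_cast h3
  -- orthogonality
  have horth : ∀ i b, Rt tE8 b → (∀ j, j ≠ i → φ j b = 0) → ∀ j, j ≠ i → cp tE8 (α j) b = 0 := by
    intro i b hb hb' j hj
    have e1 : wa tE8 (w i) b = -b := eq_of_dvd hb.neg' (hb.wa' _) h3' (hker _ fun k => by
      rw [map_sub, map_neg]
      by_cases h : k = i
      · rw [h, hneg i b, sub_self]
      · rw [hfix i k h, hb' k h, neg_zero, sub_zero])
    have e2 : wa tE8 (w i) (α j) = α j := eq_of_dvd (hα1 j) ((hα1 j).wa' _) h3' (hker _ fun k => by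
      rw [map_sub]
      by_cases h : k = i
      · rw [h, hneg i, hα2 j i hj.symm, neg_zero, sub_zero]
      · rw [hfix i k h, sub_self])
    have h4 := cp_wa (w i) (α j) hb
    rw [e1, e2, cp_neg_right _ hb] at h4
    omega
  -- Parseval
  have hpar : ∀ c, Rt tE8 c → ∀ x, 2 * cp tE8 x c = ∑ i, cp tE8 x (α i) * cp tE8 (α i) c := by
    intro c hc x
    let f : Lat 8 →+ ℤ := AddMonoidHom.mk' (fun x => 2 * cp tE8 x c - ∑ i, cp tE8 x (α i) * cp tE8 (α i) c)
      fun a b => by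
        simp only [cp_add a b hc, cp_add a b (hα1 _), add_mul, Finset.sum_add_distrib]
        ring
    have hf : ∀ j, f (α j) = 0 := fun j => by
      change 2 * cp tE8 (α j) c - ∑ i, cp tE8 (α j) (α i) * cp tE8 (α i) c = 0
      rw [Finset.sum_eq_single j (fun i _ hi => by rw [horth i (α i) (hα1 i) (hα2 i) j hi.symm, zero_mul])
        (fun h => absurd (Finset.mem_univ j) h), cp_self (hα1 j), sub_self]
    have h4 : Matrix.vecMul (fun k => f (sr k)) A = 0 := by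
      funext j
      rw [Pi.zero_apply, ← hf j, hom_sum f (α j), Matrix.vecMul, dotProduct]
      exact Finset.sum_congr rfl fun k _ => mul_comm _ _
    have h5 := Matrix.eq_zero_of_vecMul_eq_zero hA h4
    have h6 : f x = 0 := by
      rw [hom_sum f x]
      exact Finset.sum_eq_zero fun k _ => by rw [show f (sr k) = 0 from congrFun h5 k, mul_zero]
    exact sub_eq_zero.1 h6
  -- the action of `s`
  have hsα : ∀ i, wa tE8 s (α i) = α (cy i) ∨ wa tE8 s (α i) = -α (cy i) := fun i => by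
    have hb := (hα1 i).wa' s
    have h4 := horth (cy i) _ hb (fun j hj => by
      obtain ⟨k, rfl⟩ := cy_surj j
      rw [hs, hα2 i k fun e => hj (by rw [e])])
    have h5 := hpar _ hb (wa tE8 s (α i))
    rw [Finset.sum_eq_single (cy i) (fun j _ hj => by rw [h4 j hj, mul_zero])
      (fun h => absurd (Finset.mem_univ _) h), cp_self hb, RE.cp_symm n4 n6 (hα1 _) hb] at h5
    rcases RE.cp_cases n4 n6 hb (hα1 (cy i)) with e | e | e | e | e
    · exact Or.inl e
    · exact Or.inr e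
    all_goals
      rw [e] at h5
      omega
  have hz : ∀ c, Rt tE8 c → ∀ i, ((cp tE8 (wa tE8 s c) (α (cy i)) : ℤ) : ZMod 2) = (cp tE8 c (α i) : ℤ) := by
    intro c hc i
    rw [← cp_wa s c (hα1 i)]
    rcases hsα i with e | e
    · rw [e]
    · rw [e, cp_neg_right _ (hα1 _), Int.cast_neg, ZMod.neg_eq_self_mod_two]
  have hev : ∀ c c', Rt tE8 c → Rt tE8 c' →
      ∑ i, ((cp tE8 c (α i) : ℤ) : ZMod 2) * ((cp tE8 c' (α i) : ℤ) : ZMod 2) = 0 := by
    intro c c' hc hc'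
    have h4 := congrArg (Int.cast : ℤ → ZMod 2) (hpar c' hc' c)
    push_cast at h4
    rw [show (2 : ZMod 2) = 0 from rfl, zero_mul] at h4
    rw [h4]
    exact Finset.sum_congr rfl fun i _ => by rw [RE.cp_symm n4 n6 hc' (hα1 i)]
  -- a root that is not one of the `± α i`
  obtain ⟨c, hc, hc'⟩ : ∃ c, Rt tE8 c ∧ ∀ i, c ≠ α i ∧ c ≠ -α i := by
    by_contra hc
    push Not at hc
    have h4 : cp tE8 (sr 0) (sr 2) = -1 := by
      have := finite_WW tE8
      rw [show cp tE8 (sr 0) (sr 2) = _ from Nodes.Coroot.cpr_sr _ _ (sr 0) 2]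
      decide +kernel
    have h5 : ∀ i j, cp tE8 (α i) (α j) = 0 ∨ cp tE8 (α i) (α j) = 2 := fun i j => by
      by_cases h : i = j
      · exact Or.inr (by rw [h, cp_self (hα1 j)])
      · exact Or.inl (horth j _ (hα1 j) (hα2 j) i h)
    obtain ⟨i, hi⟩ := hc _ (rt_sr tE8 0)
    obtain ⟨j, hj⟩ := hc _ (rt_sr tE8 2)
    have h6 := h5 i j
    by_cases e1 : (sr 0 : Lat 8) = α i <;> by_cases e2 : (sr 2 : Lat 8) = α j
    · rw [e1, e2] at h4
      omega
    · rw [e1, hj e2, cp_neg_right _ (hα1 j)] at h4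
      omega
    · rw [hi e1, e2, cp_neg _ (hα1 j)] at h4
      omega
    · rw [hi e1, hj e2, cp_neg_right _ (hα1 j), cp_neg _ (hα1 j)] at h4
      omega
  refine no_code (fun i => (cp tE8 c (α i) : ℤ)) (fun i => (cp tE8 (wa tE8 s c) (α i) : ℤ))
    (fun i => (cp tE8 (wa tE8 s (wa tE8 s c)) (α i) : ℤ)) (hz c hc) (hz _ (hc.wa' s)) ?_
    (hev _ _ hc (hc.wa' s)) (hev _ _ hc ((hc.wa' s).wa' s))
  have h4 := hpar c hc c
  rw [cp_self hc] at h4
  have h5 : ((∑ i, (((cp tE8 c (α i) : ℤ) : ZMod 2)).val : ℕ) : ℤ) = 4 := by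
    push_cast
    rw [show (4 : ℤ) = 2 * 2 from rfl, h4]
    refine Finset.sum_congr rfl fun i _ => ?_
    rw [RE.cp_symm n4 n6 (hα1 i) hc]
    rcases RE.cp_cases n4 n6 hc (hα1 i) with e | e | e | e | e
    · exact absurd e (hc' i).1
    · exact absurd e (hc' i).2
    all_goals
      rw [e]
      decide
  exact_mod_cast h5

/-- the statement in the algebraic group -/
theorem alg {p : ℕ} [Fact p.Prime] {U : Type} [Group U] (hperf : ⁅(⊤ : Subgroup U), (⊤ : Subgroup U)⁆ = ⊤)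
    (f : Fin 8 → (U →* YY chevE8 p)) (hinj : ∀ i, Function.Injective (f i))
    (hc : ∀ i j, i ≠ j → ∀ x y, f i x * f j y = f j y * f i x) {r : ℕ} (hr : r.Prime) (h3 : 3 ≤ r) (hrp : r ≠ p)
    {u v : U} (hu : orderOf u = r) (hv : v * u * v⁻¹ = u⁻¹) {n : YY chevE8 p}
    (hn : ∀ i, n * f i u * n⁻¹ = f (cy i) u) : False := by
  classical
  have hur : ∀ i, f i u ^ r = 1 := fun i => by rw [← map_pow, ← hu, pow_orderOf_eq_one, map_one]
  have hJ : ∀ i, ⁅(⊤ : Subgroup U).map (f i), (⊤ : Subgroup U).map (f i)⁆ = (⊤ : Subgroup U).map (f i) := fun i => by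
    rw [← map_commutator, hperf]
  obtain ⟨g, hg⟩ : ∃ g : YY chevE8 p, ∀ i ∈ (Finset.univ : Finset (Fin 8)), g * f i u * g⁻¹ ∈ TT chevE8 (kb p) := by
    induction (Finset.univ : Finset (Fin 8)) using Finset.induction_on with
    | empty => exact ⟨1, fun i hi => absurd hi (Finset.notMem_empty i)⟩
    | insert j s hj ih =>
      obtain ⟨z, hz⟩ := ih
      obtain ⟨g, h1, h2⟩ := Urk.tor_perf tE8 hr hrp (Z := (fun i => f i u) '' (s : Set (Fin 8)))
        (s.finite_toSet.image _) (z := z) (by rintro _ ⟨i, hi, rfl⟩; exact ⟨hz i hi, hur i⟩) (hJ j)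
        (by
          rintro _ ⟨v, -, rfl⟩ _ ⟨i, hi, rfl⟩
          exact hc j i (fun e => hj (e ▸ hi)) v u)
        (x := f j u) ⟨u, trivial, rfl⟩ (hur j)
      refine ⟨g, fun i hi => ?_⟩
      rcases Finset.mem_insert.1 hi with rfl | hi
      · exact h2
      · exact h1 _ ⟨i, hi, rfl⟩
  obtain ⟨ζ, hζ⟩ := exists_zeta p (m := r) ((Nat.coprime_primes hr Fact.out).2 hrp)
  have : NeZero r := ⟨hr.ne_zero⟩
  let t : Fin 8 → YY chevE8 p := fun i => g * f i u * g⁻¹
  have ht : ∀ i, t i ∈ TT chevE8 (kb p) := fun i => hg i (Finset.mem_univ i)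
  have htr : ∀ i, t i ^ r = 1 := fun i => by
    change (g * f i u * g⁻¹) ^ r = 1
    rw [conj_pow, hur, mul_one, mul_inv_cancel]
  choose φ hφ using fun i => chi_ex tE8 hζ hr.pos (ht i) (htr i)
  have h0 : ∀ i, φ i ≠ 0 := fun i => (hφ i).ne_zero hζ boxChi fun h => by
    have h1 : f i u = 1 := by
      have h2 : g * f i u * g⁻¹ = 1 := h
      calc f i u = g⁻¹ * (g * f i u * g⁻¹) * g := by group
        _ = 1 := by rw [h2]; group
    have h2 : u = 1 := hinj i (h1.trans (map_one _).symm)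
    rw [h2, orderOf_one] at hu
    omega
  have hw : ∀ i, ∃ w ∈ WW tE8 {a | Rt tE8 a ∧ ∀ j, j ≠ i → φ j a = 0}, Neg tE8 w (φ i) := by
    intro i
    let Q : Set (YY chevE8 p) := t '' {j | j ≠ i}
    have hQ : ∀ s ∈ Q, s ∈ TT chevE8 (kb p) := by
      rintro _ ⟨j, -, rfl⟩
      exact ht j
    have h1 := chi_perf tE8 hr (Q := Q) (by
      rintro _ ⟨j, -, rfl⟩
      exact ⟨ht j, 1, by rw [pow_one, htr]⟩) (J := ((⊤ : Subgroup U).map (f i)).map (MulAut.conj g).toMonoidHom)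
      (by rw [← map_commutator, hJ]) (by
      rintro _ ⟨_, ⟨x, -, rfl⟩, rfl⟩
      rw [mem_centralizer_iff]
      rintro _ ⟨j, hj, rfl⟩
      exact Urk.cj_comm (hc j i hj u x))
    obtain ⟨w, hw, hw'⟩ := chi_conj tE8 hQ (y := g * f i v * g⁻¹)
      (mem_sup_left (h1 ⟨_, ⟨v, trivial, rfl⟩, rfl⟩))
    have e : g * f i v * g⁻¹ * t i * (g * f i v * g⁻¹)⁻¹ = (t i)⁻¹ := by
      calc _ = g * (f i v * f i u * (f i v)⁻¹) * g⁻¹ := by simp only [t]; group
        _ = _ := by rw [← map_inv, ← map_mul, ← map_mul, hv, map_inv]; simp only [t]; group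
    have e' : PsiS tE8 Q = {a | Rt tE8 a ∧ ∀ j, j ≠ i → φ j a = 0} := by
      ext a
      refine and_congr_right fun ha => ⟨fun h j hj => ?_, ?_⟩
      · have h2 := h _ ⟨j, hj, rfl⟩
        rwa [(hφ j).2 a ha, zeta_eq_one hζ] at h2
      · rintro h _ ⟨j, hj, rfl⟩
        rw [(hφ j).2 a ha, zeta_eq_one hζ]
        exact h j hj
    refine ⟨w, e' ▸ hw, fun a => ?_⟩
    have h2 := hw' (t i) (ht i) (by rw [e]; exact inv_mem (ht i))
    rw [e] at h2
    have h4 := Chi.of_conj hζ (hφ i) ((hφ i).inv hζ) h2 a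
    rw [AddMonoidHom.neg_apply] at h4
    rw [← h4, neg_neg]
  choose w hw hneg using hw
  obtain ⟨s, hs⟩ := exists_weyl (hp := tE8) boxChi (g * n * g⁻¹)
  refine comb hr h3 φ w hw hneg h0 s fun i a => ?_
  have e : g * n * g⁻¹ * t i * (g * n * g⁻¹)⁻¹ = t (cy i) := by
    simp only [t]
    rw [← hn i]
    group
  have h2 := hs (t i) (ht i) (by rw [e]; exact ht _)
  rw [e] at h2
  exact Chi.of_conj hζ (hφ i) (hφ (cy i)) h2 a

section conf

open Cfsg.Agent.Cam.Rd Cfsg.Agent.Cam.Spor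

variable {G : Type} [Group G] [Finite G] {S H : Subgroup G} {g : G} {𝒯 : Set (Subgroup G)}

/-- a family of commuting copies -/
theorem exists_pi {T : Subgroup G} (hs : IsSimpleGroup T) (hn : ¬ IsMulCommutative T) {n : ℕ}
    (Y : Fin n → Subgroup G) (hYS : ∀ i, Y i ≤ S) (hiso : ∀ i, Nonempty (T ≃* Y i))
    (hcomm : ∀ i j, i ≠ j → ∀ x ∈ Y i, ∀ y ∈ Y j, x * y = y * x) :
    ∃ f : (Fin n → T) →* S, Function.Injective f :=
  let φ : Fin n → (T →* S) := fun i => (inclusion (hYS i)).comp (hiso i).some.toMonoidHom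
  ⟨_, pi_inj hs hn φ (fun i => (inclusion_injective (hYS i)).comp (hiso i).some.injective)
    fun i j hij x y => Subtype.ext (hcomm _ _ hij _ ((hiso i).some x).2 _ ((hiso j).some y).2)⟩

/-- a non-abelian simple group of permutations of five points -/
theorem range_eq_alt {U : Type} [Group U] [Finite U] (hs : IsSimpleGroup U) (hn : ¬ IsMulCommutative U)
    (φ : U →* Equiv.Perm (Fin 5)) (hφ : Function.Injective φ) : φ.range = alternatingGroup (Fin 5) := by
  have h1 : φ.range ≤ alternatingGroup (Fin 5) := by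
    rw [← range_perfect hs hn φ, commutator_le]
    intro a _ b _
    rw [Equiv.Perm.mem_alternatingGroup, map_commutatorElement, commutatorElement_eq_one_iff_mul_comm, mul_comm]
  refine eq_of_le_of_card_ge h1 ?_
  have h2 : 60 ≤ Nat.card U := by
    by_contra hlt
    have h3 := Cfsg.Agent.S0493.result (G := U) (fun h => hn IsCyclic.isMulCommutative) (by omega)
    omega
  rw [← Nat.card_congr (MonoidHom.ofInjective hφ).toEquiv]
  refine le_trans (le_of_eq ?_) h2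
  rw [nat_card_alternatingGroup, Nat.card_eq_fintype_card, Fintype.card_fin]
  rfl

/-- **No mover.** -/
theorem no_mover (big : Big) (c : Cls S H g 𝒯) (h8 : IsoE8 S) :
    ∀ T₁ ∈ 𝒯, ∀ T₂ ∈ 𝒯, cj g T₂ ≤ normalizer (T₁ : Set G) := by
  classical
  intro T₁ h₁ T₂ h₂
  by_contra h
  have hm : T₂ ∈ Mov g 𝒯 := ⟨h₂, fun h' => h (h' T₁ h₁)⟩
  obtain ⟨h5, h3⟩ := three_le big c ⟨T₂, hm⟩
  obtain ⟨p, _, ⟨E⟩⟩ := Cfsg.Agent.Cam.Ex.Frm.boxFrame.e8 S h8
  have hs := c.tsimple T₁ h₁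
  have hn := c.tnoncomm T₁ h₁
  have : Fintype 𝒯 := Fintype.ofFinite _
  have : Fintype (Rd.Cen g 𝒯) := Fintype.ofFinite _
  obtain ⟨b⟩ : Nonempty (Fin 3 ↪ Rd.Cen g 𝒯) := Function.Embedding.nonempty_of_card_le (by
    rwa [Fintype.card_fin, ← Nat.card_eq_fintype_card, Nat.card_coe_set_eq])
  -- there are five components
  have h6 : 𝒯.ncard = 5 := by
    by_contra h6
    obtain ⟨a⟩ : Nonempty (Fin 6 ↪ 𝒯) := Function.Embedding.nonempty_of_card_le (by
      rw [Fintype.card_fin, ← Nat.card_eq_fintype_card, Nat.card_coe_set_eq]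
      omega)
    let Y : Fin 6 ⊕ Fin 3 → Subgroup G := Sum.elim (fun i => a i) fun j => cj g (b j)
    let ι : Fin 9 ≃ Fin 6 ⊕ Fin 3 := (finSumFinEquiv (m := 6) (n := 3)).symm
    have hYS : ∀ i, Y i ≤ S := by
      rintro (i | j)
      · exact c.le_S _ (a i).2
      · exact T'_le_S c (b j).2.1
    have hiso : ∀ i, Nonempty (T₁ ≃* Y i) := by
      rintro (i | j)
      · exact iso_T c h₁ (a i).2
      · exact iso_T' c h₁ (b j).2.1
    have hcomm : ∀ i j, i ≠ j → ∀ x ∈ Y i, ∀ y ∈ Y j, x * y = y * x := by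
      rintro (i | i) (j | j) hij x hx y hy
      · exact c.comm _ (a i).2 _ (a j).2 (fun e => hij (by rw [a.injective (Subtype.ext e)])) x hx y hy
      · exact mem_centralizer_iff.1 ((b j).2.2 _ (a i).2 hy) x hx
      · exact (mem_centralizer_iff.1 ((b i).2.2 _ (a j).2 hx) y hy).symm
      · exact comm_T' c (b i).2.1 (b j).2.1 (fun e => hij (by rw [b.injective (Subtype.ext e)])) x hx y hy
    obtain ⟨f, hf⟩ := exists_pi hs hn (fun i => Y (ι i)) (fun i => hYS _) (fun i => hiso _)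
      fun i j hij => hcomm _ _ fun e => hij (ι.injective e)
    have := Urk.le_rank tE8 hn (E.ι.comp f) (E.inj.comp hf)
    omega
  obtain ⟨e⟩ : Nonempty (𝒯 ≃ Fin 5) := ⟨Fintype.equivFinOfCardEq (by
    rwa [← Nat.card_eq_fintype_card, Nat.card_coe_set_eq])⟩
  -- the mover acts as the alternating group
  let T₀ : Subgroup G := (e.symm 0 : 𝒯)
  have h₀ : T₀ ∈ 𝒯 := (e.symm 0).2
  have hs0 := c.tsimple T₀ h₀
  have hn0 := c.tnoncomm T₀ h₀
  obtain ⟨ε⟩ := iso_T' c h₀ h₂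
  let φ₀ : T₀ →* Equiv.Perm 𝒯 := (act c).comp ((inclusion (T'_le_H c h₂)).comp ε.toMonoidHom)
  have hφ : ∀ t (T : 𝒯), (φ₀ t T : Subgroup G) = cj ((ε t : G))⁻¹ T := fun _ _ => rfl
  have hinj : Function.Injective φ₀ := by
    rw [← MonoidHom.ker_eq_bot_iff]
    rcases hs0.eq_bot_or_eq_top_of_normal φ₀.ker inferInstance with h | h
    · exact h
    · exfalso
      refine hm.2 fun T hT y hy => ?_
      have h1 : φ₀ (ε.symm ⟨y, hy⟩) = 1 := by
        rw [← MonoidHom.mem_ker, h]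
        exact mem_top _
      have h2 := hφ (ε.symm ⟨y, hy⟩) ⟨T, hT⟩
      rw [h1, MulEquiv.apply_symm_apply] at h2
      exact inv_mem_iff.1 (cj_eq_iff.1 h2.symm)
  let φ : T₀ →* Equiv.Perm (Fin 5) := (e.permCongrHom).toMonoidHom.comp φ₀
  have hinj' : Function.Injective φ := (e.permCongrHom).injective.comp hinj
  have hr := range_eq_alt hs0 hn0 φ hinj'
  have hsur : ∀ σ : Equiv.Perm (Fin 5), Equiv.Perm.sign σ = 1 → ∃ t, φ t = σ := fun σ hσ => by
    have : σ ∈ φ.range := by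
      rw [hr]
      exact hσ
    exact this
  obtain ⟨t, ht⟩ := hsur (finRotate 5) (by decide)
  obtain ⟨r, hrp, hr3, hne, u, v, hu, hv⟩ : ∃ r : ℕ, r.Prime ∧ 3 ≤ r ∧ r ≠ p ∧ ∃ u v : T₀, orderOf u = r ∧
      v * u * v⁻¹ = u⁻¹ := by
    by_cases hp : p = 5
    · obtain ⟨u, hu⟩ := hsur (Equiv.swap 0 1 * Equiv.swap 1 2) (by decide)
      obtain ⟨v, hv⟩ := hsur (Equiv.swap 0 1 * Equiv.swap 3 4) (by decide)
      have : Fact (Nat.Prime 3) := ⟨Nat.prime_three⟩
      refine ⟨3, Nat.prime_three, le_rfl, by omega, u, v, ?_, hinj' ?_⟩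
      · rw [← orderOf_injective φ hinj', hu]
        exact orderOf_eq_prime (by decide) (by decide)
      · rw [map_mul, map_mul, map_inv, map_inv, hu, hv]
        decide
    · obtain ⟨v, hv⟩ := hsur (Equiv.swap 1 4 * Equiv.swap 2 3) (by decide)
      have : Fact (Nat.Prime 5) := ⟨Nat.prime_five⟩
      refine ⟨5, Nat.prime_five, by norm_num, Ne.symm hp, t, v, ?_, hinj' ?_⟩
      · rw [← orderOf_injective φ hinj', ht]
        exact orderOf_eq_prime (by decide) (by decide)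
      · rw [map_mul, map_mul, map_inv, map_inv, ht, hv]
        decide
  have ht5 : (ε t : G) ^ 5 = 1 := by
    have h1 : t ^ 5 = 1 := hinj' (by rw [map_pow, ht, map_one]; decide)
    rw [← coe_pow, ← map_pow, h1, map_one, coe_one]
  let n : S := ⟨ε t, T'_le_S c h₂ (ε t).2⟩
  -- the eight groups
  have hmem : ∀ (k : ℕ) (x : T₀), (ε t : G) ^ k * x * ((ε t : G) ^ k)⁻¹ ∈
      ((e.symm (((finRotate 5) ^ k) 0) : 𝒯) : Subgroup G) := by
    intro k x
    have h1 := hφ (t ^ k) (e.symm 0)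
    have h2 : e (φ₀ (t ^ k) (e.symm 0)) = ((finRotate 5) ^ k) 0 := by
      rw [← ht, ← map_pow]
      rfl
    rw [← h2, Equiv.symm_apply_apply, h1, map_pow, coe_pow]
    exact conj_mem_cj_inv x.2
  let f₁ : ℕ → (T₀ →* S) := fun k => (MulAut.conj (n ^ k)).toMonoidHom.comp (inclusion (c.le_S T₀ h₀))
  have hf₁ : ∀ k x, ((f₁ k x : S) : G) = (ε t : G) ^ k * x * ((ε t : G) ^ k)⁻¹ := fun k x => rfl
  let f₂ : Fin 3 → (T₀ →* S) := fun j =>
    (inclusion (T'_le_S c (b j).2.1)).comp (iso_T' c h₀ (b j).2.1).some.toMonoidHom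
  have hf₂ : ∀ j x, ((f₂ j x : S) : G) ∈ cj g (b j) := fun j x => ((iso_T' c h₀ (b j).2.1).some x).2
  have i₁ : ∀ k, Function.Injective (f₁ k) := fun k => (MulAut.conj (n ^ k)).injective.comp (inclusion_injective (c.le_S T₀ h₀))
  have i₂ : ∀ j, Function.Injective (f₂ j) := fun j =>
    (inclusion_injective (T'_le_S c (b j).2.1)).comp (iso_T' c h₀ (b j).2.1).some.injective
  have c₁ : ∀ k l : ℕ, ((finRotate 5) ^ k) 0 ≠ ((finRotate 5) ^ l) 0 → ∀ x y, f₁ k x * f₁ l y = f₁ l y * f₁ k x :=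
    fun k l hkl x y => Subtype.ext (c.comm _ (e.symm _).2 _ (e.symm _).2
      (fun h => hkl (e.symm.injective (Subtype.ext h))) _ (hmem k x) _ (hmem l y))
  have c₂ : ∀ k j x y, f₁ k x * f₂ j y = f₂ j y * f₁ k x := fun k j x y =>
    Subtype.ext (mem_centralizer_iff.1 ((b j).2.2 _ (e.symm _).2 (hf₂ j y)) _ (hmem k x))
  have c₃ : ∀ i j, i ≠ j → ∀ x y, f₂ i x * f₂ j y = f₂ j y * f₂ i x := fun i j hij x y =>
    Subtype.ext (comm_T' c (b i).2.1 (b j).2.1 (fun e => hij (b.injective (Subtype.ext e))) _ (hf₂ i x) _ (hf₂ j y))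
  have n₁ : ∀ k x, n * f₁ k x * n⁻¹ = f₁ (k + 1) x := fun k x => by
    change n * (n ^ k * _ * (n ^ k)⁻¹) * n⁻¹ = n ^ (k + 1) * _ * (n ^ (k + 1))⁻¹
    group
  have n₅ : f₁ 5 = f₁ 0 := by
    have : n ^ 5 = n ^ 0 := by
      rw [pow_zero]
      exact Subtype.ext ht5
    simp only [f₁, this]
  have n₂ : ∀ j x, n * f₂ j x * n⁻¹ = f₂ j x := fun j x => by
    rw [mul_inv_eq_iff_eq_mul]
    refine Subtype.ext (comm_T' c h₂ (b j).2.1 (fun e => hm.2 fun T hT => ?_) _ (ε t).2 _ (hf₂ j x))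
    rw [e]
    exact ((b j).2.2 T hT).trans (centralizer_le_normalizer _)
  let f : Fin 8 → (T₀ →* S) := ![f₁ 0, f₁ 1, f₁ 2, f₁ 3, f₁ 4, f₂ 0, f₂ 1, f₂ 2]
  refine alg (p := p) (U := T₀) (Urk.exists_elt p T₀ hn0).1 (fun i => E.ι.comp (f i)) (fun i => E.inj.comp ?_)
    (fun i j hij x y => ?_) hrp hr3 hne hu hv (n := E.ι n) fun i => ?_
  · fin_cases i
    exacts [i₁ 0, i₁ 1, i₁ 2, i₁ 3, i₁ 4, i₂ 0, i₂ 1, i₂ 2]
  · simp only [MonoidHom.comp_apply]
    rw [← map_mul, ← map_mul]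
    congr 1
    fin_cases i <;> fin_cases j <;>
      first
      | exact absurd rfl hij
      | exact c₂ _ _ _ _
      | exact (c₂ _ _ _ _).symm
      | exact c₁ _ _ (by decide) _ _
      | exact c₃ _ _ (by decide) _ _
  · simp only [MonoidHom.comp_apply]
    rw [← map_inv, ← map_mul, ← map_mul]
    congr 1
    fin_cases i
    exacts [n₁ 0 u, n₁ 1 u, n₁ 2 u, n₁ 3 u, (n₁ 4 u).trans (by rw [n₅]; rfl), n₂ 0 u, n₂ 1 u, n₂ 2 u]

end conf

end Cfsg.Agent.Cam.E8.Mov
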