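import Cfsg.Agent.Cam.Ex.SL3Lin
import Cfsg.Agent.Cam.Ex.SL2
import Cfsg.Agent.Cam.Odd.Grp

/-!
# `BoxA2`, the matrix part (helper63)

* `sq2` : the symmetric square `SL₂(k) →* SL₃(k)`; `exists_psi` : it maps onto the group of a symmetric matrix;
* `not_symm` : the group of a matrix which is not symmetric has no simple subgroup of even order;
* `lin` : simple groups acting on the image of `SL₃(k)` and commuting with a graph automorphism.
-/

set_option autoImplicit false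
set_option linter.unusedVariables false
set_option linter.unusedSimpArgs false

namespace Cfsg.Agent.Cam.E8O.A2

open Matrix Subgroup
open Cfsg.Agent.H428.OT.Lin Cfsg.Agent.Cam.Ex.SL3 Cfsg.Agent.Cam.Ex.S2
open Cfsg.Agent.H402.PSL2Cls (PSL)
open scoped commutatorElement

variable {k : Type} [Field k]

section sq

/-- the matrix of the symmetric square -/
def sqM (a b c d : k) : M3 k := !![a ^ 2, 2 * a * b, b ^ 2; a * c, a * d + b * c, b * d; c ^ 2, 2 * c * d, d ^ 2]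

theorem sqM_det (a b c d : k) : (sqM a b c d).det = (a * d - b * c) ^ 3 := by
  rw [det_fin_three]
  simp only [sqM, of_apply, cons_val', cons_val_zero, cons_val_one, cons_val_two, cons_val_fin_one, head_cons, tail_cons,
    head_fin_const, empty_val']
  ring

theorem sqM_mul (a b c d a' b' c' d' : k) : sqM a b c d * sqM a' b' c' d' =
    sqM (a * a' + b * c') (a * b' + b * d') (c * a' + d * c') (c * b' + d * d') := by
  ext i j
  fin_cases i <;> fin_cases j <;> simp [sqM, mul_apply, Fin.sum_univ_three] <;> ring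

theorem sqM_sc {a : k} (h : a * a = 1) : sqM a 0 0 a = 1 := by
  ext i j
  fin_cases i <;> fin_cases j <;> simp [sqM, pow_two, h]

/-- the symmetric square -/
def sq2 : SL k →* S3 k := MonoidHom.mk'
  (fun A => ⟨sqM (A.1 0 0) (A.1 0 1) (A.1 1 0) (A.1 1 1), by rw [sqM_det, det_e, one_pow]⟩) fun A B => by
    apply slext
    show sqM _ _ _ _ = sqM _ _ _ _ * sqM _ _ _ _
    rw [sqM_mul, mul_e, mul_e, mul_e, mul_e]

theorem coe_sq2 (A : SL k) : (sq2 A : M3 k) = sqM (A.1 0 0) (A.1 0 1) (A.1 1 0) (A.1 1 1) := rfl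

theorem sq2_ck : CK (sq2 (k := k)) := by
  intro A h
  have h1 : sqM (A.1 0 0) (A.1 0 1) (A.1 1 0) (A.1 1 1) = 1 := congrArg (fun X : S3 k => (X : M3 k)) h
  have e02 : A.1 0 1 ^ 2 = 0 := congrFun (congrFun h1 0) 2
  have e20 : A.1 1 0 ^ 2 = 0 := congrFun (congrFun h1 2) 0
  have e00 : A.1 0 0 ^ 2 = 1 := congrFun (congrFun h1 0) 0
  have hb := pow_eq_zero_iff two_ne_zero |>.1 e02
  have hc := pow_eq_zero_iff two_ne_zero |>.1 e20
  have hd := det_e A
  rw [hb, zero_mul, sub_zero] at hd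
  exact mem_center_iff'.2 ⟨hb, hc, by linear_combination A.1 1 1 * e00 - A.1 0 0 * hd⟩

theorem sq2_center {A : SL k} (h : A ∈ center (SL k)) : sq2 A = 1 := by
  obtain ⟨h1, h2, h3⟩ := mem_center_iff'.1 h
  apply slext
  rw [coe_sq2, h1, h2, ← h3, sqM_sc (center_sq h), cone]

/-- the Gram matrix of `2 (x z - y ^ 2)` -/
def G0 (k : Type) [Field k] : M3 k := !![0, 0, 1; 0, -2, 0; 1, 0, 0]

theorem iso_vec [IsAlgClosed k] {x y z : k} (h : x * z = y ^ 2) : ∃ a c : k, a ^ 2 = x ∧ a * c = y ∧ c ^ 2 = z := by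
  obtain ⟨a, ha⟩ := IsAlgClosed.exists_pow_nat_eq x two_pos
  obtain ⟨c, hc⟩ := IsAlgClosed.exists_pow_nat_eq z two_pos
  have h1 : (a * c) ^ 2 = y ^ 2 := by rw [mul_pow, ha, hc, h]
  rcases sq_eq_sq_iff_eq_or_eq_neg.1 h1 with h2 | h2
  · exact ⟨a, c, ha, h2, hc⟩
  · exact ⟨a, -c, ha, by rw [mul_neg, h2, neg_neg], by rw [neg_sq, hc]⟩

theorem sq2_surj [IsAlgClosed k] (h2 : (2 : k) ≠ 0) {g : S3 k} (h : (g : M3 k)ᵀ * G0 k * g = G0 k) : ∃ A, sq2 A = g := by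
  have e : ∀ i j, g.1 0 i * g.1 2 j + g.1 2 i * g.1 0 j - 2 * (g.1 1 i * g.1 1 j) = G0 k i j := by
    intro i j
    rw [← h]
    simp [G0, mul_apply, Fin.sum_univ_three]
    ring
  have e00 : _ = (0 : k) := e 0 0
  have e22 : _ = (0 : k) := e 2 2
  have e02 : _ = (1 : k) := e 0 2
  have e01 : _ = (0 : k) := e 0 1
  have e21 : _ = (0 : k) := e 2 1
  have hd : g.1.det = 1 := g.2
  rw [det_fin_three] at hd
  obtain ⟨a, c, a0, a1, a2⟩ := iso_vec (x := g.1 0 0) (y := g.1 1 0) (z := g.1 2 0)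
    (mul_left_cancel₀ h2 (by linear_combination e00))
  have key : ∃ b d : k, b ^ 2 = g.1 0 2 ∧ b * d = g.1 1 2 ∧ d ^ 2 = g.1 2 2 ∧ a * d - b * c = 1 := by
    obtain ⟨b, d, b0, b1, b2⟩ := iso_vec (x := g.1 0 2) (y := g.1 1 2) (z := g.1 2 2)
      (mul_left_cancel₀ h2 (by linear_combination e22))
    have h1 : (a * d - b * c) ^ 2 = 1 ^ 2 := by
      rw [← a0, ← a1, ← a2, ← b0, ← b1, ← b2] at e02
      linear_combination e02
    rcases sq_eq_sq_iff_eq_or_eq_neg.1 h1 with h3 | h3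
    · exact ⟨b, d, b0, b1, b2, h3⟩
    · exact ⟨-b, -d, by rw [neg_sq, b0], by rw [neg_mul_neg, b1], by rw [neg_sq, b2], by linear_combination -h3⟩
  obtain ⟨b, d, b0, b1, b2, h1⟩ := key
  rw [← a0, ← a1, ← a2] at e01
  rw [← b0, ← b1, ← b2] at e21
  rw [← a0, ← a1, ← a2, ← b0, ← b1, ← b2] at hd
  have e3 : -(c * d) * g.1 0 1 + (a * d + b * c) * g.1 1 1 - a * b * g.1 2 1 = 1 := by
    linear_combination hd - (-(c * d) * g.1 0 1 + (a * d + b * c) * g.1 1 1 - a * b * g.1 2 1) * h1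
  refine ⟨⟨!![a, b; c, d], by rw [det_fin_two_of, h1]⟩, slext ?_⟩
  show sqM a b c d = g.1
  ext i j
  fin_cases i <;> fin_cases j
  · exact a0
  · show 2 * a * b = g.1 0 1
    linear_combination (-(a ^ 2)) * e21 - 2 * a * b * e3 - b ^ 2 * e01 + g.1 0 1 * (a * d - b * c + 1) * h1
  · exact b0
  · exact a1
  · show a * d + b * c = g.1 1 1
    linear_combination (-(a * c)) * e21 - (a * d + b * c) * e3 - b * d * e01 + g.1 1 1 * (a * d - b * c + 1) * h1
  · exact b1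
  · exact a2
  · show 2 * c * d = g.1 2 1
    linear_combination (-(c ^ 2)) * e21 - 2 * c * d * e3 - d ^ 2 * e01 + g.1 2 1 * (a * d - b * c + 1) * h1
  · exact b2

/-- the normal form of a symmetric matrix -/
theorem exists_nf [IsAlgClosed k] (h2 : (2 : k) ≠ 0) {G : M3 k} (hs : Gᵀ = G) (hd : G.det ≠ 0) :
    ∃ P : GL (Fin 3) k, (P : M3 k)ᵀ * G * P = G0 k := by
  obtain ⟨B, e, h⟩ := exists_diag_of_symm h2 hs
  have h1 := congrArg det h
  rw [det_mul, det_mul, det_transpose, B.det_coe, one_mul, mul_one, det_diagonal, Fin.prod_univ_three] at h1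
  rw [h1] at hd
  have e0 : e 0 ≠ 0 := left_ne_zero_of_mul (left_ne_zero_of_mul hd)
  have e1 : e 1 ≠ 0 := right_ne_zero_of_mul (left_ne_zero_of_mul hd)
  have e2 : e 2 ≠ 0 := right_ne_zero_of_mul hd
  obtain ⟨α, hα⟩ := IsAlgClosed.exists_pow_nat_eq ((2 * e 0)⁻¹) two_pos
  obtain ⟨β, hβ⟩ := IsAlgClosed.exists_pow_nat_eq (-(2 * e 2)⁻¹) two_pos
  obtain ⟨t, ht⟩ := IsAlgClosed.exists_pow_nat_eq (-2 * (e 1)⁻¹) two_pos
  have a0 : e 0 * α ^ 2 = 2⁻¹ := by rw [hα]; field_simp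
  have a2 : e 2 * β ^ 2 = -2⁻¹ := by rw [hβ]; field_simp
  have a1 : e 1 * t ^ 2 = -2 := by rw [ht]; field_simp
  have a3 : (2 : k) * 2⁻¹ = 1 := mul_inv_cancel₀ h2
  let N : M3 k := !![α, 0, α; 0, t, 0; β, 0, -β]
  have h3 : Nᵀ * diagonal e * N = G0 k := by
    ext i j
    fin_cases i <;> fin_cases j <;> simp [N, G0, mul_apply, Fin.sum_univ_three, diagonal_apply]
    · linear_combination a0 + a2
    · linear_combination a0 - a2 + a3
    · linear_combination a1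
    · linear_combination a0 - a2 + a3
    · linear_combination a0 + a2
  have h4 : ((B : M3 k)ᵀ * N)ᵀ * G * ((B : M3 k)ᵀ * N) = G0 k := by
    rw [← h3, ← h, transpose_mul, transpose_transpose]
    simp only [mul_assoc]
  have h5 : ((B : M3 k)ᵀ * N).det ≠ 0 := by
    intro h5
    have h6 := congrArg det h4
    rw [det_mul, h5, mul_zero, det_fin_three] at h6
    simp [G0] at h6
    exact h2 h6.symm
  exact ⟨Matrix.GeneralLinearGroup.mkOfDetNeZero _ h5, h4⟩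

/-- **The group of a symmetric matrix.** -/
theorem exists_psi [IsAlgClosed k] (h2 : (2 : k) ≠ 0) {G : M3 k} (hs : Gᵀ = G) (hd : G.det ≠ 0) :
    ∃ ψ : SL k →* S3 k, CK ψ ∧ (∀ A ∈ center (SL k), ψ A = 1) ∧ ∀ g : S3 k, (g : M3 k)ᵀ * G * g = G → ∃ A, ψ A = g := by
  obtain ⟨P, h⟩ := exists_nf h2 hs hd
  refine ⟨(cjS P).comp sq2, fun A hA => sq2_ck A ?_, fun A hA => ?_, fun g hg => ?_⟩
  · have h1 : cjS P⁻¹ (cjS P (sq2 A)) = cjS P⁻¹ 1 := congrArg (cjS P⁻¹) hA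
    rwa [← cjS_mul, inv_mul_cancel, cjS_one, map_one] at h1
  · rw [MonoidHom.comp_apply, sq2_center hA, map_one]
  · obtain ⟨A, hA⟩ := sq2_surj h2 (g := cjS P⁻¹ g) (by
      rw [coe_cjS, inv_inv, ← h, transpose_mul, transpose_mul]
      calc _ = (P : M3 k)ᵀ * ((g : M3 k)ᵀ * (((P : M3 k) * ((P⁻¹ : GL (Fin 3) k) : M3 k))ᵀ * G *
            ((P : M3 k) * ((P⁻¹ : GL (Fin 3) k) : M3 k))) * g) * P := by
            rw [transpose_mul]; simp only [mul_assoc]
        _ = _ := by rw [gl_mul_inv, transpose_one, one_mul, mul_one, hg])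
    exact ⟨A, by rw [MonoidHom.comp_apply, hA, ← cjS_mul, mul_inv_cancel, cjS_one]⟩

end sq

section two

theorem tr_of_pow (p : ℕ) [Fact p.Prime] [CharP k p] {j : SL k} (h : j ^ p = 1) : tr j = 2 := by
  have h1 : IsNilpotent (j.1 - 1) := ⟨p, by
    rw [sub_pow_char_of_commute _ (Commute.one_right _), one_pow, sub_eq_zero]
    exact congrArg Subtype.val h⟩
  have h2 := (isNilpotent_trace_of_isNilpotent h1).eq_zero
  rw [trace_sub, trace_one, trace_fin_two, Fintype.card_fin] at h2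
  rw [tr]
  push_cast at h2
  linear_combination h2

theorem center_of_unip (h2 : (2 : k) ≠ 0) {i j : SL k} (hj : tr j = 2) (hi : i * i ∈ center (SL k))
    (hi0 : i ∉ center (SL k)) (h : ⁅i, j⁆ ∈ center (SL k)) : j ∈ center (SL k) := by
  have hc := comm_of_tr hj h
  have c00 := congrArg (fun x : SL k => x.1 0 0) hc
  have c01 := congrArg (fun x : SL k => x.1 0 1) hc
  have c10 := congrArg (fun x : SL k => x.1 1 0) hc
  obtain ⟨s1, s2, s3⟩ := mem_center_iff'.1 hi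
  simp only [mul_e] at c00 c01 c10 s1 s2 s3
  have di := det_e i
  have dj := det_e j
  rw [tr] at hj
  have ht : i.1 0 0 + i.1 1 1 = 0 := by
    by_contra ht
    exact hi0 (mem_center_iff'.2 ⟨mul_left_cancel₀ ht (by linear_combination s1),
      mul_left_cancel₀ ht (by linear_combination s2), mul_left_cancel₀ ht (by linear_combination s3)⟩)
  have e1 : i.1 1 1 = -i.1 0 0 := by linear_combination ht
  have e2 : j.1 1 1 = 2 - j.1 0 0 := by linear_combination hj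
  rw [e1] at c01 c10 di
  rw [e2] at c01 c10 dj
  have d01 : i.1 0 0 * j.1 0 1 = i.1 0 1 * (j.1 0 0 - 1) := mul_left_cancel₀ h2 (by linear_combination c01)
  have d10 : i.1 0 0 * j.1 1 0 = i.1 1 0 * (j.1 0 0 - 1) := mul_left_cancel₀ h2 (by linear_combination -c10)
  have f01 : j.1 0 1 ^ 2 = 0 := by
    linear_combination (-(j.1 0 1) ^ 2) * di - (i.1 0 0 * j.1 0 1 + i.1 0 1 * (j.1 0 0 - 1)) * d01 +
      (i.1 0 1) ^ 2 * dj + i.1 0 1 * j.1 0 1 * c00
  have f10 : j.1 1 0 ^ 2 = 0 := by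
    linear_combination (-(j.1 1 0) ^ 2) * di - (i.1 0 0 * j.1 1 0 + i.1 1 0 * (j.1 0 0 - 1)) * d10 +
      (i.1 1 0) ^ 2 * dj - i.1 1 0 * j.1 1 0 * c00
  have g01 := pow_eq_zero_iff two_ne_zero |>.1 f01
  have g10 := pow_eq_zero_iff two_ne_zero |>.1 f10
  have f00 : (j.1 0 0 - 1) ^ 2 = 0 := by linear_combination -dj - j.1 1 0 * g01
  have g00 := pow_eq_zero_iff two_ne_zero |>.1 f00
  exact mem_center_iff'.2 ⟨g01, g10, by linear_combination 2 * g00 - e2⟩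

/-- unipotent elements of the image commuting with an involution -/
theorem eq_one_of_pow (p : ℕ) [Fact p.Prime] [CharP k p] (hp : p ≠ 2) {Y : Type} [Group Y] {ψ : SL k →* Y} (h : CK ψ)
    (hz : ∀ A ∈ center (SL k), ψ A = 1) {i j : SL k} (hj : ψ j ^ p = 1) (hi : ψ i * ψ i = 1) (hi0 : ψ i ≠ 1)
    (hc : ψ j * ψ i = ψ i * ψ j) : ψ j = 1 := by
  have h2 : (2 : k) ≠ 0 := fun e => hp ((Nat.prime_dvd_prime_iff_eq Fact.out Nat.prime_two).1
    ((CharP.cast_eq_zero_iff k p 2).1 (by exact_mod_cast e)))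
  have h1 : j ^ p ∈ center (SL k) := h _ (by rw [map_pow, hj])
  have h3 : ψ (j ^ p * j) = ψ j := by rw [map_mul, hz _ h1, one_mul]
  obtain ⟨m, hm⟩ := (Fact.out : p.Prime).odd_of_ne_two hp
  have h4 : (j ^ p * j) ^ p = 1 := by
    rw [← pow_succ, ← pow_mul, mul_comm, pow_mul, show p + 1 = 2 * (m + 1) by omega, pow_mul, pow_two,
      center_mul_self h1, one_pow]
  rw [← h3]
  exact hz _ (center_of_unip h2 (i := i) (tr_of_pow p h4) (h _ (by rw [map_mul, hi])) (fun e => hi0 (hz _ e))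
    (h.cmt (by rw [h3, hc])))

end two

section alt

theorem cramer (v y a n : Fin 3 → k) : ((v ⨯₃ y) ⬝ᵥ a) • n =
    ((n ⨯₃ y) ⬝ᵥ a) • v + ((v ⨯₃ n) ⬝ᵥ a) • y + ((v ⨯₃ y) ⬝ᵥ n) • a := by
  funext i
  fin_cases i <;> simp [cross_apply, dotProduct, Fin.sum_univ_three] <;> ring

theorem ext_vec {X Z : M3 k} (h : ∀ t, X *ᵥ t = Z *ᵥ t) : X = Z := by
  ext i j
  have h3 := congrFun (h (Pi.single j 1)) i
  rwa [mulVec_single_one, mulVec_single_one] at h3

/-- the fixed space of an involution is a line -/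
theorem cross_of_invol (h2 : (2 : k) ≠ 0) {X : S3 k} (hX : X * X = 1) (h1 : X ≠ 1) {v y : Fin 3 → k}
    (hv : (X : M3 k) *ᵥ v = v) (hy : (X : M3 k) *ᵥ y = y) : v ⨯₃ y = 0 := by
  by_contra h
  obtain ⟨i, hi⟩ := Function.ne_iff.1 h
  have h3 := cross_mulVec (X : M3 k) v y
  rw [X.det_coe, one_smul, hv, hy] at h3
  refine h1 (slext (ext_vec fun t => ?_))
  have h4 : (X : M3 k) *ᵥ (t - (X : M3 k) *ᵥ t) = -(t - (X : M3 k) *ᵥ t) := by
    rw [mulVec_sub, mulVec_mulVec, ← cmul, hX, cone, one_mulVec, neg_sub]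
  have h5 : (v ⨯₃ y) ⬝ᵥ (t - (X : M3 k) *ᵥ t) = 0 := by rw [dotProduct_sub, dot_mulVec, h3, sub_self]
  have h6 := cramer v y (Pi.single i 1) (t - (X : M3 k) *ᵥ t)
  rw [h5, zero_smul, add_zero, dotProduct_single, mul_one] at h6
  have h7 := congrArg (fun z => (X : M3 k) *ᵥ z) h6
  simp only [mulVec_add, mulVec_smul, hv, hy] at h7
  rw [← h6, h4, smul_neg, neg_eq_iff_add_eq_zero, ← two_smul k, smul_smul, smul_eq_zero] at h7
  rw [cone, one_mulVec]
  exact (sub_eq_zero.1 (h7.resolve_left (mul_ne_zero h2 hi))).symm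

/-- an involution in a group with a fixed vector and a fixed functional is central -/
theorem comm_of_pair (h2 : (2 : k) ≠ 0) {R : Subgroup (S3 k)} {v w : Fin 3 → k} (hv : Fv R v) (hw : Fw R w)
    (h1 : w ⬝ᵥ v ≠ 0) {X : S3 k} (hXR : X ∈ R) (hX : X * X = 1) {g : S3 k} (hg : g ∈ R) : g * X = X * g := by
  by_cases h0 : X = 1
  · rw [h0, mul_one, one_mul]
  have hv0 : v ≠ 0 := by
    rintro rfl
    exact h1 (dotProduct_zero _)
  have h3 : ∀ t, (X : M3 k) *ᵥ t = (2 * (w ⬝ᵥ t) * (w ⬝ᵥ v)⁻¹) • v - t := by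
    intro t
    obtain ⟨s, hs⟩ := par hv0 (cross_of_invol h2 hX h0 (hv X hXR) (y := (X : M3 k) *ᵥ t + t) (by
      rw [mulVec_add, mulVec_mulVec, ← cmul, hX, cone, one_mulVec, add_comm]))
    have h4 := congrArg (fun z => w ⬝ᵥ z) hs
    simp only [dotProduct_add, dotProduct_smul, smul_eq_mul] at h4
    rw [dot_mulVec, hw X hXR] at h4
    rw [eq_sub_iff_add_eq, hs]
    congr 1
    rw [eq_mul_inv_iff_mul_eq₀ h1]
    linear_combination -h4
  refine slext (ext_vec fun t => ?_)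
  rw [cmul, cmul, ← mulVec_mulVec, ← mulVec_mulVec, h3, h3, mulVec_sub, mulVec_smul, hv g hg, dot_mulVec, hw g hg]

/-- **The group of a matrix which is not symmetric.** -/
theorem not_symm (h2 : (2 : k) ≠ 0) {G : M3 k} (hs : Gᵀ ≠ G) (hd : G.det ≠ 0) {R : Subgroup (S3 k)} (hR : R ≤ ⁅R, R⁆)
    (h1 : ∀ g ∈ R, (g : M3 k)ᵀ * G * g = G) {X : S3 k} (hXR : X ∈ R) (hX : X * X = 1) {g : S3 k} (hg : g ∈ R) :
    g * X = X * g := by
  have h3 : G - Gᵀ = Xm ![G 1 2 - G 2 1, G 2 0 - G 0 2, G 0 1 - G 1 0] := by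
    ext i j
    fin_cases i <;> fin_cases j <;> simp [Xm]
  obtain ⟨v, hv0, hv⟩ : ∃ v, v ≠ 0 ∧ Fv R v := by
    refine ⟨![G 1 2 - G 2 1, G 2 0 - G 0 2, G 0 1 - G 1 0], fun h4 => hs ?_, fun g hg => ?_⟩
    · rw [h4] at h3
      refine (sub_eq_zero.1 (h3.trans ?_)).symm
      ext i j
      fin_cases i <;> fin_cases j <;> simp [Xm]
    · have h4 : (g : M3 k)ᵀ * (G - Gᵀ) * g = G - Gᵀ := by
        have h5 := congrArg transpose (h1 g hg)
        rw [transpose_mul, transpose_mul, transpose_transpose, ← mul_assoc] at h5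
        rw [mul_sub, sub_mul, h1 g hg, h5]
      rw [h3, Xm_conj] at h4
      conv_lhs => rw [← Xm_inj h4]
      rw [mulVec_mulVec, mul_adjugate, g.det_coe, one_smul, one_mulVec]
  have hw : Fw R (G *ᵥ v) := fun g hg => by
    conv_lhs => rw [← hv g hg]
    rw [mulVec_mulVec, mulVec_mulVec, h1 g hg]
  by_cases h4 : (G *ᵥ v) ⬝ᵥ v = 0
  · have h5 := eq_bot hR hv hv0 hw (fun h6 => hv0 (mulVec_inj hd (by rw [h6, mulVec_zero]))) h4
    rw [h5, mem_bot] at hg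
    rw [hg, mul_one, one_mul]
  · exact comm_of_pair h2 hv hw h4 hXR hX hg

end alt

section main

theorem center_cube {z : S3 k} (h : z ∈ center (S3 k)) : z ^ 3 = 1 := by
  obtain ⟨r, hr, e⟩ := Matrix.SpecialLinearGroup.mem_center_iff.1 h
  apply slext
  rw [Fintype.card_fin] at hr
  show (z : M3 k) ^ 3 = 1
  rw [← e, ← map_pow, hr, map_one]

theorem tau_center (H : GL (Fin 3) k) {z : S3 k} (h : z ∈ center (S3 k)) : cjS H (ti z) = z⁻¹ := by
  obtain ⟨r, hr, e⟩ := Matrix.SpecialLinearGroup.mem_center_iff.1 (inv_mem h)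
  apply slext
  rw [coe_cjS, coe_ti, ← e, scalar_apply, diagonal_transpose, ← scalar_apply,
    ← (scalar_commute r (fun _ => Commute.all _ _) _).eq, mul_assoc, gl_mul_inv, mul_one]

theorem form_of_fix {H : GL (Fin 3) k} {g : S3 k} (h : cjS H (ti g) = g) :
    (g : M3 k)ᵀ * ((H⁻¹ : GL (Fin 3) k) : M3 k) * g = ((H⁻¹ : GL (Fin 3) k) : M3 k) := by
  have h2 : (g : M3 k) = H * ((g⁻¹ : S3 k) : M3 k)ᵀ * ((H⁻¹ : GL (Fin 3) k) : M3 k) :=
    (congrArg (fun A : S3 k => (A : M3 k)) h).symm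
  conv_lhs => rhs; rw [h2]
  rw [← mul_assoc, ← mul_assoc, mul_assoc _ ((H⁻¹ : GL (Fin 3) k) : M3 k), gl_inv_mul, mul_one, ← transpose_mul, ← cmul,
    inv_mul_cancel, cone, transpose_one, one_mul]

variable {Y : Type} [Group Y] {π : S3 k →* Y} (hker : π.ker ≤ center (S3 k)) {g : Y} {H : GL (Fin 3) k}

variable (π H) in
/-- `C` is the representative of `c` -/
def Rp (C : S3 k) (c : Y) : Prop := cjS H (ti C) = C ∧ Ac π C c

theorem Rp.one : Rp π H 1 1 := ⟨by rw [map_one, map_one], Ac.one⟩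

theorem Rp.mul {C C' : S3 k} {c c' : Y} (h : Rp π H C c) (h' : Rp π H C' c') : Rp π H (C * C') (c * c') :=
  ⟨by rw [map_mul, map_mul, h.1, h'.1], h.2.mul h'.2⟩

theorem Rp.inv {C : S3 k} {c : Y} (h : Rp π H C c) : Rp π H C⁻¹ c⁻¹ := ⟨by rw [map_inv, map_inv, h.1], h.2.inv⟩

theorem Rp.pow {C : S3 k} {c : Y} (h : Rp π H C c) (n : ℕ) : Rp π H (C ^ n) (c ^ n) := by
  induction n with
  | zero => rw [pow_zero, pow_zero]; exact Rp.one
  | succ n ih => rw [pow_succ, pow_succ]; exact ih.mul h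

include hker

theorem Rp.eq {C C' : S3 k} {c : Y} (h : Rp π H C c) (h' : Rp π H C' c) : C = C' := by
  have h1 := Ac.center hker h.2 h'.2
  have h2 := tau_center H h1
  rw [map_mul, map_mul, map_inv, map_inv, h.1, h'.1, eq_inv_iff_mul_eq_one] at h2
  have h3 := center_cube h1
  rw [pow_succ, pow_two, h2, one_mul] at h3
  exact mul_inv_eq_one.1 h3

theorem exists_rp (hg : ActT π g H) {C : S3 k} {c : Y} (h : Ac π C c) (hc : c * g = g * c) : ∃ C', Rp π H C' c := by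
  have h1 : cjS H (ti C) * C⁻¹ ∈ center (S3 k) := by
    refine Ac.center hker (fun X => ?_) h
    obtain ⟨X, rfl⟩ := ((cjS_surj H).comp ti_surj) X
    show π (cjS H (ti C) * cjS H (ti X) * (cjS H (ti C))⁻¹) = c * π (cjS H (ti X)) * c⁻¹
    rw [← map_inv, ← map_inv, ← map_mul, ← map_mul, ← map_mul, ← map_mul, ← hg, ← hg, h X]
    calc g * (c * π X * c⁻¹) * g⁻¹ = (g * c) * π X * (g * c)⁻¹ := by group
      _ = _ := by rw [← hc]; group
  obtain ⟨z, hz, e⟩ : ∃ z ∈ center (S3 k), cjS H (ti C) = z * C := ⟨_, h1, by group⟩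
  have h3 := center_cube hz
  refine ⟨z⁻¹ * C, ?_, fun X => ?_⟩
  · rw [map_mul, map_mul, tau_center H (inv_mem hz), inv_inv, e, ← mul_assoc]
    congr 1
    rw [eq_inv_iff_mul_eq_one, ← pow_three', h3]
  · rw [← h X]
    congr 1
    rw [show z⁻¹ * C * X * (z⁻¹ * C)⁻¹ = z⁻¹ * (C * X * C⁻¹ * z) by group, mem_center_iff.1 hz, inv_mul_cancel_left]

/-- **The matrix part of `BoxA2`.** -/
theorem lin [IsAlgClosed k] (p : ℕ) [Fact p.Prime] [CharP k p] (hp : p ≠ 2) (hg : ActT π g H) {U : Type} [Group U]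
    (hs : IsSimpleGroup U) (hc : ¬ IsMulCommutative U) (hx : ∃ x : U, orderOf x = 2) (a : U →* Y)
    (hag : ∀ u, a u * g = g * a u) (hac : ∀ u, ∃ X, Ac π X (a u)) (hn : ¬ ∀ u X, a u * π X = π X * a u) :
    (∃ f : U →* PSL k, Function.Injective f) ∧ ∀ c : Y, (∃ C, Ac π C c) → c * g = g * c → c ^ p = 1 →
      (∀ u, c * a u * c⁻¹ ∈ a.range) → ∀ x, orderOf x = 2 → c * a x = a x * c → ∀ u, c * a u = a u * c := by
  have h2 : (2 : k) ≠ 0 := fun e => hp ((Nat.prime_dvd_prime_iff_eq Fact.out Nat.prime_two).1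
    ((CharP.cast_eq_zero_iff k p 2).1 (by exact_mod_cast e)))
  have h1 : ∀ u, ∃ X, Rp π H X (a u) := fun u => by
    obtain ⟨X, hX⟩ := hac u
    exact exists_rp hker hg hX (hag u)
  choose r hr using h1
  let ρ : U →* S3 k := MonoidHom.mk' r fun u v => (hr (u * v)).eq hker (by
    rw [map_mul]
    exact (hr u).mul (hr v))
  have hρ : ∀ u, Rp π H (ρ u) (a u) := hr
  have hinj : Function.Injective ρ := by
    refine ρ.ker_eq_bot_iff.1 ((ρ.normal_ker.eq_bot_or_eq_top).resolve_right fun h => hn fun u X => ?_)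
    have h3 : ρ u = 1 := show u ∈ ρ.ker by rw [h]; trivial
    have h4 := (hρ u).2 X
    rw [h3, one_mul, inv_one, mul_one, eq_mul_inv_iff_mul_eq] at h4
    exact h4.symm
  have hcen : ∀ x : U, (∀ u, u * x = x * u) → x = 1 := fun x h =>
    mem_bot.1 (((inferInstance : (center U).Normal).eq_bot_or_eq_top.resolve_right fun e => hc ⟨⟨fun u v =>
      mem_center_iff.1 (show v ∈ center U by rw [e]; trivial) u⟩⟩) ▸ mem_center_iff.2 h)
  have hsq : ∀ x : U, orderOf x = 2 → ρ x * ρ x = 1 ∧ x ≠ 1 := fun x h => ⟨by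
    rw [← map_mul, ← pow_two, ← h, pow_orderOf_eq_one, map_one], fun e => by
    rw [e, orderOf_one] at h
    exact absurd h (by decide)⟩
  have hd : ((H⁻¹ : GL (Fin 3) k) : M3 k).det ≠ 0 := det_ne H⁻¹
  have hsym : ((H⁻¹ : GL (Fin 3) k) : M3 k)ᵀ = ((H⁻¹ : GL (Fin 3) k) : M3 k) := by
    by_contra hsym
    obtain ⟨x, hx⟩ := hx
    have h3 : ⁅(⊤ : Subgroup U), (⊤ : Subgroup U)⁆ = ⊤ :=
      (inferInstance : (⁅(⊤ : Subgroup U), (⊤ : Subgroup U)⁆).Normal).eq_bot_or_eq_top.resolve_left fun e =>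
        hc ⟨⟨fun u v => commutatorElement_eq_one_iff_mul_comm.1
          (mem_bot.1 (e ▸ commutator_mem_commutator (mem_top u) (mem_top v)))⟩⟩
    refine (hsq x hx).2 (hcen x fun u => hinj ?_)
    rw [map_mul, map_mul]
    exact not_symm h2 hsym hd (R := (⊤ : Subgroup U).map ρ) (by rw [← map_commutator, h3]) (by
      rintro _ ⟨v, -, rfl⟩
      exact form_of_fix (hρ v).1) ⟨x, trivial, rfl⟩ (hsq x hx).1 ⟨u, trivial, rfl⟩
  obtain ⟨ψ, k1, k2, k3⟩ := exists_psi h2 hsym hd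
  have k4 : ∀ u, ∃ j, ψ j = ρ u := fun u => k3 _ (form_of_fix (hρ u).1)
  refine ⟨Cam.Odd.Grp.exists_inj hs ψ ρ k1 (fun u => ?_) ?_, ?_⟩
  · obtain ⟨j, hj⟩ := k4 u
    exact ⟨j, hj ▸ DS.Nt.JL.Inn.self j⟩
  · obtain ⟨x, hx⟩ := hx
    refine ⟨x, fun h => (hsq x hx).2 (hcen x fun u => hinj ?_)⟩
    obtain ⟨j, hj⟩ := k4 u
    rw [map_mul, map_mul, ← hj, h j]
  · rintro c ⟨C, hC⟩ hcg hcp hcn x hx hcx u
    obtain ⟨C, hC⟩ := exists_rp hker hg hC hcg
    obtain ⟨j, rfl⟩ := k3 _ (form_of_fix hC.1)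
    obtain ⟨i, hi⟩ := k4 x
    have h3 : ψ j = 1 := eq_one_of_pow p hp k1 k2 (i := i) ((hC.pow p).eq hker (hcp ▸ Rp.one)) (hi ▸ (hsq x hx).1)
      (fun e => (hsq x hx).2 (hinj (by rw [← hi, e, map_one])))
      (by rw [hi]; exact (hC.mul (hρ x)).eq hker (hcx ▸ (hρ x).mul hC))
    obtain ⟨u', hu'⟩ := hcn u
    have h4 := ((hC.mul (hρ u)).mul hC.inv).eq hker (hu' ▸ hρ u')
    rw [h3, one_mul, inv_one, mul_one] at h4
    rw [← hinj h4, eq_mul_inv_iff_mul_eq] at hu'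
    exact hu'.symm

end main

end Cfsg.Agent.Cam.E8O.A2
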