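import Cfsg.Agent.Cam.E8.OBasic
import Cfsg.Agent.Cam.E8.OA2Lin
import Cfsg.Agent.Cam.Ex.SL3
import Cfsg.Agent.H900.Fra.Wey

/-!
# `BoxA2` (helper63)

* `gen` : the centralizer of a torus element of order three with a component `A₂`, simply laced types;
* `om_of_dd` : the class 3B; `a2c` : its component `A₂`; `count` : involutions centralizing the component;
* `boxA2 : BoxA2`.
-/

set_option autoImplicit false
set_option linter.unusedVariables false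
set_option linter.unusedSectionVars false

namespace Cfsg.Agent.Cam.E8O.A2

open CoxeterSystem Cfsg Cfsg.Lie Subgroup Module
open Cfsg.Agent.ChevalleyStructure.CoxeterGeom Cfsg.Agent.ChevalleyStructure.CoxeterGeomTypes
open Cfsg.Agent.Tits.Roots Cfsg.Agent.Nodes.BNOf Cfsg.Agent.Nodes.RGDChev Cfsg.Agent.Nodes.Coroot
open Cfsg.Agent.KFacts.RgdChevCoord
open Cfsg.Agent.H428.OT.Lin Cfsg.Agent.Cam.Ex Cfsg.Agent.Cam.Ex.SL3
open Cfsg.Agent.H402.PSL2Cls (PSL)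
open Cfsg.Agent.DS.Nt (RP DZ Mz Std Om OmF Tp dd Fx nri)
open Cfsg.Agent.H129.TorusChar (cX isMC_cX cX_inj cX_mul cX_one)
open Cfsg.Agent.H931.KC (Kac hr psi)

section abs

variable {Y U : Type} [Group Y] [Group U]

/-- the clause on the `p`-elements -/
def Cl (p : ℕ) (z g : Y) (a : U →* Y) : Prop := ∀ c : Y, c * z = z * c → c * g = g * c → c ^ p = 1 →
  (∀ u, c * a u * c⁻¹ ∈ a.range) → ∀ x, orderOf x = 2 → c * a x = a x * c → ∀ u, c * a u = a u * c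

theorem Cl.of_equiv {p : ℕ} {z g : Y} {a : U →* Y} (φ : Y ≃* Y) (h : Cl p (φ z) (φ g) (φ.toMonoidHom.comp a)) :
    Cl p z g a := by
  intro c h1 h2 h3 h4 x hx h5 u
  apply φ.injective
  rw [map_mul, map_mul]
  refine h (φ c) (by rw [← map_mul, h1, map_mul]) (by rw [← map_mul, h2, map_mul]) (by rw [← map_pow, h3, map_one])
    (fun v => ?_) x hx ?_ u
  · obtain ⟨w, hw⟩ := h4 v
    exact ⟨w, show φ (a w) = φ c * φ (a v) * (φ c)⁻¹ by rw [hw, map_mul, map_mul, map_inv]⟩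
  · show φ c * φ (a x) = φ (a x) * φ c
    rw [← map_mul, h5, map_mul]

theorem perf_range (hs : IsSimpleGroup U) (hc : ¬ IsMulCommutative U) (a : U →* Y) : ⁅a.range, a.range⁆ = a.range := by
  have h3 : ⁅(⊤ : Subgroup U), (⊤ : Subgroup U)⁆ = ⊤ :=
    (inferInstance : (⁅(⊤ : Subgroup U), (⊤ : Subgroup U)⁆).Normal).eq_bot_or_eq_top.resolve_left fun e =>
      hc ⟨⟨fun u v => commutatorElement_eq_one_iff_mul_comm.1
        (mem_bot.1 (e ▸ commutator_mem_commutator (mem_top u) (mem_top v)))⟩⟩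
  rw [MonoidHom.range_eq_map, ← map_commutator, h3]

theorem six {z y : Y} (hz : z ^ 3 = 1) (hy : y ^ 2 = 1) (h : y * z = z * y) :
    (z * y) ^ 6 = 1 ∧ (z * y) ^ 4 = z ∧ (z * y) ^ 3 = y := by
  have hc : Commute z y := h.symm
  refine ⟨?_, ?_, ?_⟩
  · rw [hc.mul_pow, show 6 = 3 * 2 from rfl, pow_mul, hz, one_pow, one_mul, mul_comm, pow_mul, hy, one_pow]
  · rw [hc.mul_pow, pow_succ z, hz, one_mul, show 4 = 2 * 2 from rfl, pow_mul, hy, one_pow, mul_one]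
  · rw [hc.mul_pow, hz, one_mul, pow_succ, hy, one_mul]

theorem comm_of_inv {z g k : Y} (hg : g * z * g⁻¹ = z⁻¹) (hk : k * z * k⁻¹ = z⁻¹) : g * k⁻¹ * z = z * (g * k⁻¹) := by
  have h1 : k⁻¹ * z * k = z⁻¹ := by
    have h2 : z = k * z⁻¹ * k⁻¹ := by rw [← conj_inv, hk, inv_inv]
    conv_lhs => rw [h2]
    group
  calc g * k⁻¹ * z = g * (k⁻¹ * z * k) * g⁻¹ * (g * k⁻¹) := by group
    _ = _ := by rw [h1, ← conj_inv, hg, inv_inv]

theorem comm_of_act {k : Type} [Field k] {π : S3 k →* Y} {d y : Y} {H : GL (Fin 3) k} (h : ActA π d H)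
    (hy : ∀ X, y * π X = π X * y) (X : S3 k) : d * y * d⁻¹ * π X = π X * (d * y * d⁻¹) := by
  obtain ⟨X, rfl⟩ := cjS_surj H X
  rw [← h X, conj_mul, conj_mul, hy]

end abs

section gen

variable {D : ChevalleyDatum} {l : ℕ} {M : CoxeterMatrix (Fin l)} {p : ℕ} [Fact p.Prime]

theorem kac_form (hp : IsType D l M) {r : ℕ} (hr' : r.Prime) (hrp : r ≠ p) {z : YY D p} (hz : z ^ r = 1) :
    ∃ (c : Fin l → ℕ) (c0 : ℕ), Kac D l r c c0 ∧ z ∈ OmF hp p r fun i => (c i : ℤ) := by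
  obtain ⟨g, hg⟩ := DS.Nt.exists_conj_T hp hr' hrp (x := z) (n := 1) (by rw [pow_one, hz])
  obtain ⟨ζ, hζ⟩ := DS.Nt.exists_prim (p := p) hr' hrp
  have hpow : (g * z * g⁻¹) ^ r = 1 := by rw [conj_pow, hz, mul_one, mul_inv_cancel]
  obtain ⟨w, c, c0, K, h2, -⟩ := H931.KC.exists_kac' hp hr'.pos hζ hg hpow
  obtain ⟨k, h3, h4⟩ := DS.Nt.exists_move (hp := hp) hg w
  have e1 : k * g * z * (k * g)⁻¹ = k * (g * z * g⁻¹) * k⁻¹ := by group
  rw [← e1] at h3 h4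
  exact ⟨c, c0, K, k * g, ζ, hζ, h3, fun x => by rw [h4, h2]; rfl⟩

theorem eq_one_of_OmF {hp : IsType D l M} {r : ℕ} {z : YY D p} (h : z ∈ OmF hp p r 0) : z = 1 := by
  obtain ⟨g, ζ, -, h1, h2⟩ := h
  have h6 : g * z * g⁻¹ = 1 := cX_inj hp h1 (one_mem _) fun i => by
    rw [h2, cX_one, H931.KC.psi_apply, Finset.sum_eq_zero fun j _ => by rw [Pi.zero_apply, mul_zero], zpow_zero]
  rwa [mul_inv_eq_one, mul_eq_left] at h6

theorem rp_inv {hp : IsType D l M} {w : M.Group} (hw : ∀ x, wa hp w x = -x) {k z : YY D p} (hk : RP hp p w k)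
    (hz : z ∈ TT D (kb p)) : k * z * k⁻¹ = z⁻¹ := by
  rw [eq_inv_iff_mul_eq_one]
  refine cX_inj hp (mul_mem (hk.conj_mem hz) hz) (one_mem _) fun i => ?_
  have h1 := hk.cX hz (-sr i)
  rw [show rep M.toCoxeterSystem hp.isCartan w (-sr i) = sr i from (hw _).trans (neg_neg _), (isMC_cX hp hz).neg] at h1
  rw [cX_mul hp (hk.conj_mem hz) hz, h1, cX_one, inv_mul_cancel₀ ((isMC_cX hp hz).ne_zero _)]

/-- **The general form.** -/
theorem gen (hp : IsType D l M) (hG : D ≠ chevG2) (h4 : ∀ i j, M i j ≠ 4) (h6 : ∀ i j, M i j ≠ 6) (h5 : 5 ≤ p)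
    {z g : YY D p} {c c' : Lat l} (hz : z ∈ TT D (kb p)) (hz3 : z ^ 3 = 1) (hDZ : ∀ d, d * z = z * d → d ∈ DZ hp p {z})
    (hw : ∃ w, ∀ x, wa hp w x = -x) (hc : A2c hp (PsiS hp {z}) c c') (hg : g * z * g⁻¹ = z⁻¹) {U : Type} [Group U]
    (hs : IsSimpleGroup U) (hn : ¬ IsMulCommutative U) (hx : ∃ x : U, orderOf x = 2) (a : U →* YY D p)
    (haz : ∀ u, a u * z = z * a u) (hag : ∀ u, a u * g = g * a u) :
    ((∃ f : U →* PSL (kb p), Function.Injective f) ∧ Cl p z g a) ∨ ∀ u, u ^ 2 = 1 → ∃ d, d * z = z * d ∧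
      d * a u * d⁻¹ ∈ TT D (kb p) ∧ cX hp (d * a u * d⁻¹) c = 1 ∧ cX hp (d * a u * d⁻¹) c' = 1 := by
  have := finite_WW hp
  have h : P2 hp c c' := ⟨hc.1.1, hc.2.1.1, hc.2.2.1, hc.2.2.2.1⟩
  obtain ⟨π, s, P⟩ := h.exists_pi p hG
  have hac : ∀ m ∈ MS D l p (PsiS hp {z}), ∃ G, Ac π G m := fun m hm =>
    h.exists_ac P h4 h6 (fun a ha => ha.1) hc.2.2.2.2 hm
  have hrp : ∀ {w : M.Group} {k : YY D p} {ε : ℤˣ}, RP hp p w k → (∀ a, wa hp w a = (ε : ℤ) • a) →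
      ∃ H, (ε = 1 ∧ ActA π k H) ∨ (ε = -1 ∧ ActT π k H) := fun {w k ε} hk hε =>
    h.act_pi P (MulAut.conj k).toMonoidHom (RingEquiv.refl _) (g := wa hp w)
      ⟨1, one_mem _, fun a _ => by rw [hε, wa_one]⟩ fun a ha => rp_xc hk ha
  have hA : ∀ d, d * z = z * d → ∃ H, ActA π d H := by
    intro d hd
    obtain ⟨m, hm, t, ht, rfl⟩ := DS.Nt.mem_DZ.1 (hDZ d hd)
    obtain ⟨G, hG⟩ := hac m hm
    obtain ⟨H, hH⟩ := hrp (ε := 1) (RP.of_mem ht) fun a => by rw [wa_one, Units.val_one, one_smul]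
    exact ⟨toG G * H, ActA.mul (fun X => by rw [cjS_toG, hG X]) (hH.resolve_right fun e => absurd e.1 (by decide)).2⟩
  have hZ : ({z} : Set (YY D p)) ⊆ TT D (kb p) := Set.singleton_subset_iff.2 hz
  have hZ3 : ∀ t ∈ ({z} : Set (YY D p)), ∃ n : ℕ, t ^ 3 ^ n = 1 := fun t ht => ⟨1, by rw [ht, pow_one, hz3]⟩
  by_cases hcen : ∀ u X, a u * π X = π X * a u
  · refine Or.inr fun u hu => ?_
    obtain ⟨e6, e4, e3⟩ := six hz3 (y := a u) (by rw [← map_pow, hu, map_one]) (haz u)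
    obtain ⟨k, hk⟩ := H944.TorAnyChev.exists_conj_mem_TT hp p (BpExc.TorAll.hAlg_of_isAlgebraic p _) (q := 6) (by decide)
      (((Nat.coprime_primes Nat.prime_two Fact.out).2 (by omega)).mul_left
        ((Nat.coprime_primes Nat.prime_three Fact.out).2 (by omega))) e6
    obtain ⟨d, d1, d2⟩ := DS.Nt.exists_pair hp (z := z) (x := a u) (g := 1) (by rwa [one_mul, inv_one, mul_one])
      ⟨k, by rw [← e4, ← conj_pow]; exact pow_mem hk 4, by rw [← e3, ← conj_pow]; exact pow_mem hk 3⟩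
    rw [one_mul, inv_one, mul_one, mul_inv_eq_iff_eq_mul] at d1
    obtain ⟨H, hH⟩ := hA d d1
    have h1 : ∀ b ∈ A2s c c', Rt hp b → cX hp (d * a u * d⁻¹) b = 1 := fun b hb hr => by
      obtain ⟨X, hX⟩ := h.mem_range P hb (xc_mem_XR hr 1)
      exact DS.Nt.cX_eq_one_of_comm d2 hr one_ne_zero (hX ▸ comm_of_act hH (hcen u) X)
    exact ⟨d, d1, d2, h1 c (Or.inl rfl) h.r1, h1 c' (Or.inr (Or.inl rfl)) h.r2⟩
  · obtain ⟨w, hw⟩ := hw
    obtain ⟨k, hk⟩ := DS.Nt.exists_RP hp p w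
    obtain ⟨H1, h1⟩ := hA (g * k⁻¹) (comm_of_inv hg (rp_inv hw hk hz))
    obtain ⟨H2, h2⟩ := hrp (ε := -1) hk fun a => by rw [hw, Units.val_neg, Units.val_one, neg_smul, one_smul]
    have h3 := h1.mulT (h2.resolve_left fun e => absurd e.1 (by decide)).2
    rw [inv_mul_cancel_right] at h3
    have h7 : a.range ≤ MS D l p (PsiS hp {z}) :=
      chi_perf hp Nat.prime_three (fun t ht => ⟨hZ ht, hZ3 t ht⟩) (perf_range hs hn a) (by
        rintro _ ⟨u, rfl⟩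
        exact mem_centralizer_singleton_iff.2 (haz u))
    obtain ⟨k1, k2⟩ := lin P.ker p (by omega) h3 hs hn hx a hag (fun u => hac _ (h7 ⟨u, rfl⟩)) hcen
    exact Or.inl ⟨k1, fun y y1 y2 y3 => k2 y (hac y (DS.Nt.pel_mem_Mz (hp := hp) (Set.finite_singleton z) hZ
      Nat.prime_three (by omega) hZ3 (fun t ht => by rw [ht, y1]) ⟨1, by rw [pow_one, y3]⟩)) y2 y3⟩

theorem mem_psiS {hp : IsType D l M} {ζ : kb p} {r : ℕ} (hζ : IsPrimitiveRoot ζ r) {i : Fin l} {z : YY D p}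
    (hz : Std hp p ζ i z) {a : Lat l} : a ∈ PsiS hp {z} ↔ Rt hp a ∧ (r : ℤ) ∣ a i := by
  refine and_congr_right fun ha => ?_
  rw [← hζ.zpow_eq_one_iff_dvd, ← hz.2, cX_rt hz.1 ha]
  exact ⟨fun h => h z rfl, fun h t ht => by rw [ht, h]⟩

end gen

section e8

open Cfsg.Agent.DS.Nt.P8 (mr bt HasM exists_hasM cpr_sum bt_inj)
open Cfsg.Agent.ChevalleyStructure.RootVec

variable {p : ℕ} [Fact p.Prime]

theorem nri3 : nri chevE8 8 3 0 = 84 ∧ nri chevE8 8 3 7 = 126 := by decide +kernel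

theorem om_of_dd (h3 : p ≠ 3) {z : Y8 p} (hz : z ^ 3 = 1) (hd : dd p z = 86) : z ∈ Om tE8 p 3 6 := by
  obtain ⟨c, c0, K, h⟩ := kac_form tE8 Nat.prime_three h3.symm hz
  have h1 : (c0 : ℤ) + (2 * c 0 + 3 * c 1 + 4 * c 2 + 6 * c 3 + 5 * c 4 + 4 * c 5 + 3 * c 6 + 2 * c 7) = 3 := by
    have h15 := K.sum
    rw [DS.Nt.hrE8, Fin.sum_univ_eight] at h15
    simpa using h15
  have key : ∀ i : Fin 8, c i = 1 → (∀ j, j ≠ i → c j = 0) → z ∈ Om tE8 p 3 i := by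
    intro i hi hj
    rw [DS.Nt.Om_eq]
    have e : (fun j => (c j : ℤ)) = sr i := by
      funext j
      by_cases hji : j = i
      · rw [hji, hi, sr_self, Nat.cast_one]
      · rw [hj j hji, sr_ne hji, Nat.cast_zero]
    rwa [e] at h
  have all : ∀ {q : Fin 8 → Prop}, q 0 → q 1 → q 2 → q 3 → q 4 → q 5 → q 6 → q 7 → ∀ j, q j := by
    intro q a0 a1 a2 a3 a4 a5 a6 a7 j
    fin_cases j
    exacts [a0, a1, a2, a3, a4, a5, a6, a7]
  by_cases h0 : c 0 = 1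
  · have h2 := DS.Nt.dd_Om (key 0 h0 (all (fun e => absurd rfl e) (fun _ => by omega) (fun _ => by omega)
      (fun _ => by omega) (fun _ => by omega) (fun _ => by omega) (fun _ => by omega) (fun _ => by omega)))
    rw [nri3.1] at h2
    omega
  by_cases h7 : c 7 = 1
  · have h2 := DS.Nt.dd_Om (key 7 h7 (all (fun _ => by omega) (fun _ => by omega) (fun _ => by omega)
      (fun _ => by omega) (fun _ => by omega) (fun _ => by omega) (fun _ => by omega) (fun e => absurd rfl e)))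
    rw [nri3.2] at h2
    omega
  by_cases h1' : c 1 = 1
  · have h2 := DS.Nt.dd_Om (key 1 h1' (all (fun _ => by omega) (fun e => absurd rfl e) (fun _ => by omega)
      (fun _ => by omega) (fun _ => by omega) (fun _ => by omega) (fun _ => by omega) (fun _ => by omega)))
    rw [DS.Nt.nri_E8.2.2.1] at h2
    omega
  by_cases h6 : c 6 = 1
  · exact key 6 h6 (all (fun _ => by omega) (fun _ => by omega) (fun _ => by omega)
      (fun _ => by omega) (fun _ => by omega) (fun _ => by omega) (fun e => absurd rfl e) (fun _ => by omega))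
  · have e : (fun j => (c j : ℤ)) = 0 := funext (all (q := fun j => (c j : ℤ) = 0) (by omega) (by omega) (by omega)
      (by omega) (by omega) (by omega) (by omega) (by omega))
    rw [e] at h
    rw [eq_one_of_OmF h, dd_one] at hd
    omega

theorem pair_tab : ∀ k : Fin 8, pairing (cartanOf chevE8 8) k (-hr chevE8 8) = ![0, 0, 0, 0, 0, 0, 0, -1] k ∧
    pairing (cartanOf chevE8 8) k (sr 7) = ![0, 0, 0, 0, 0, 0, -1, 2] k := by decide +kernel

theorem rt_c : Rt tE8 (-hr chevE8 8) := (isRoot_vec tE8 _ (r := 239) (by decide)).neg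

theorem cp_c (a : Lat 8) : cp tE8 a (-hr chevE8 8) = -a 7 := by
  rw [show cp tE8 a _ = _ from cpr_sum tE8 a rt_c, Finset.sum_congr rfl fun k _ => by rw [(pair_tab k).1],
    Fin.sum_univ_eight]
  simp

theorem cp_c' (a : Lat 8) : cp tE8 a (sr 7) = 2 * a 7 - a 6 := by
  rw [show cp tE8 a _ = _ from cpr_sum tE8 a (rt_sr tE8 7), Finset.sum_congr rfl fun k _ => by rw [(pair_tab k).2],
    Fin.sum_univ_eight]
  simp
  ring

/-- the six roots -/
def six6 : List (List ℤ) := [[-2, -3, -4, -6, -5, -4, -3, -2], [0, 0, 0, 0, 0, 0, 0, 1], [-2, -3, -4, -6, -5, -4, -3, -1],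
  [2, 3, 4, 6, 5, 4, 3, 2], [0, 0, 0, 0, 0, 0, 0, -1], [2, 3, 4, 6, 5, 4, 3, 1]]

theorem a2_tab : ∀ r < 240, vec chevE8 8 r 6 % 3 = 0 → (vec chevE8 8 r 7 = 0 ∧ vec chevE8 8 r 6 = 0) ∨
    List.ofFn (vec chevE8 8 r) ∈ six6 := by decide +kernel

theorem six6_eq : six6 = [-hr chevE8 8, sr 7, -hr chevE8 8 + sr 7, - -hr chevE8 8, -sr 7, -(-hr chevE8 8 + sr 7)].map
    List.ofFn := by decide +kernel

theorem a2c {ζ : kb p} (hζ : IsPrimitiveRoot ζ 3) {z : Y8 p} (hz : Std tE8 p ζ 6 z) :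
    A2c tE8 (PsiS tE8 {z}) (-hr chevE8 8) (sr 7) := by
  refine ⟨(mem_psiS hζ hz).2 ⟨rt_c, by rw [DS.Nt.hrE8]; decide⟩, (mem_psiS hζ hz).2 ⟨rt_sr tE8 7, by decide⟩,
    by rw [cp_c', DS.Nt.hrE8]; decide, by rw [cp_c]; decide, fun a ha => ?_⟩
  obtain ⟨h1, h2⟩ := (mem_psiS hζ hz).1 ha
  obtain ⟨r, hr', rfl⟩ := (isRoot_iff tE8 _ a).1 h1
  rcases a2_tab r hr' (Int.emod_eq_zero_of_dvd h2) with h3 | h3
  · exact Or.inr ⟨by rw [cp_c, h3.1, neg_zero], by rw [cp_c', h3.1, h3.2, mul_zero, sub_zero]⟩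
  · left
    rw [six6_eq, List.mem_map] at h3
    obtain ⟨b, hb, e⟩ := h3
    rw [← List.ofFn_injective e]
    simpa only [A2s, Set.mem_insert_iff, Set.mem_singleton_iff, List.mem_cons, List.not_mem_nil, or_false] using hb

/-- the roots of `E₆ A₂` -/
def B3 : ℕ := 1325135298609524830641581911447055719297036147122026401108116435395149827

theorem B3_spec : ∀ r < 240, B3.testBit r = decide (vec chevE8 8 r 6 % 3 = 0) := by decide +kernel

theorem cnt_tab : ∀ F < 256, F.testBit 7 = false → DS.Nt.P8.PT.testBit (F &&& mr 239) = false →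
    38 ≤ ChevalleyStructure.RootVecTab.sumLT (fun r => cond (B3.testBit r && !DS.Nt.P8.PT.testBit (F &&& mr r)) 1 0) 240 := by decide +kernel

theorem count (h2 : p ≠ 2) {ζ : kb p} (hζ : IsPrimitiveRoot ζ 3) {z y : Y8 p} (hz : Std tE8 p ζ 6 z)
    (hy : y ∈ TT chevE8 (kb p)) (hyy : y * y = 1) (h1 : cX tE8 y (-hr chevE8 8) = 1) (h3 : cX tE8 y (sr 7) = 1) :
    46 ≤ finrank (kb p) (Fx p {y, z}) := by
  classical
  have htwo : (2 : kb p) ≠ 0 := fun e => h2 ((Nat.prime_dvd_prime_iff_eq Fact.out Nat.prime_two).1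
    ((CharP.cast_eq_zero_iff (kb p) p 2).1 (by exact_mod_cast e)))
  obtain ⟨f, hf⟩ := H167.KKL.exists_sgn tE8 p (H469.Exc.locFin p) hy hyy
  have hf' : ∀ b, Rt tE8 b → (cX tE8 y b = 1 ↔ f b = 0) := fun b hb => by
    rw [cX_rt hy hb, hf b hb, H167.KKL.sg_eq_one htwo]
  obtain ⟨F, hF⟩ := exists_hasM f
  have e7 : F.testBit 7 = false := bt_inj _ _ ((hF.2 7).symm.trans ((hf' _ (rt_sr tE8 7)).1 h3))
  have e9 : DS.Nt.P8.PT.testBit (F &&& mr 239) = false := bt_inj _ _ ((hF.vec (r := 239) (by decide)).symm.trans (by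
    have h4 := (hf' _ rt_c).1 h1
    rwa [map_neg, neg_eq_zero] at h4))
  have h4 := cnt_tab F hF.1 e7 e9
  have hZ : ({y, z} : Set (Y8 p)) ⊆ TT chevE8 (kb p) := by
    rintro t (rfl | rfl)
    exacts [hy, hz.1]
  rw [sumLT_eq, ← Fin.sum_univ_eq_sum_range (fun r => cond (B3.testBit r && !DS.Nt.P8.PT.testBit (F &&& mr r)) 1 0) 240] at h4
  have h5 := DS.Nt.finrank_Fx tE8 hZ
  rw [Finset.card_filter] at h5
  have h6 : ∑ s : Fin 240, cond (B3.testBit s && !DS.Nt.P8.PT.testBit (F &&& mr s)) 1 0 ≤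
      ∑ s : Fin chevE8.nroots, if vec chevE8 8 s ∈ DS.Nt.Ps tE8 p {y, z} then 1 else 0 := by
    refine Finset.sum_le_sum fun s _ => ?_
    cases e : (B3.testBit s && !DS.Nt.P8.PT.testBit (F &&& mr s))
    · exact Nat.zero_le _
    · rw [Bool.and_eq_true, B3_spec s s.2, decide_eq_true_eq, Bool.not_eq_true'] at e
      have hr' := isRoot_vec tE8 CoxeterMatrix.E₈.toCoxeterSystem (r := s) s.2
      rw [if_pos ((DS.Nt.mem_Ps hZ).2 ⟨hr', ?_⟩)]
      · exact le_rfl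
      · rintro t (rfl | rfl)
        · exact (hf' _ hr').2 (by rw [hF.vec s.2, e.2]; rfl)
        · rw [hz.2, hζ.zpow_eq_one_iff_dvd]
          exact Int.dvd_of_emod_eq_zero e.1
  change 46 ≤ finrank (H469.Exc.KK p) _
  omega

/-- **`BoxA2`.** -/
theorem boxA2 : BoxA2 := by
  intro p _ h5 z g hz hd hg U _ _ hs hn a haz hag
  obtain ⟨h, ζ, hζ, hstd⟩ := om_of_dd (by omega) hz hd
  obtain ⟨h4, h6, -⟩ := DS.Ex.TorCE.typE_facts tE8 (Or.inr (Or.inr rfl))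
  have hz3 : (h * z * h⁻¹) ^ 3 = 1 := by rw [conj_pow, hz, mul_one, mul_inv_cancel]
  refine (gen tE8 (fun e => absurd (congrArg ChevalleyDatum.rank e) (by decide)) h4 h6 h5 (g := h * g * h⁻¹) hstd.1 hz3
    (fun d hd => mem_DZ8 Nat.prime_three (by omega) hstd.1 hz3 hd) (H900.Fra.neg_E8 tE8) (a2c hζ hstd)
    (by rw [conj_mul, conj_inv, conj_mul, hg, conj_inv]) hs hn (Cam.Odd.Grp.boxGrp.two U hs hn)
    ((MulAut.conj h).toMonoidHom.comp a) (fun u => DS.Nt.conj_comm (haz u)) (fun u => DS.Nt.conj_comm (hag u))).imp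
    (fun k => ⟨k.1, Cl.of_equiv (MulAut.conj h) k.2⟩) fun k u hu => ?_
  obtain ⟨d, d1, d2, d3, d4⟩ := k u hu
  have h1 := count (by omega) hζ hstd d2 (by
    rw [conj_mul, ← map_mul, ← pow_two, hu, map_one, mul_one, mul_inv_cancel]) d3 d4
  have e1 : d * ((MulAut.conj h).toMonoidHom.comp a) u * d⁻¹ = d * h * a u * (d * h)⁻¹ := by
    show d * (h * a u * h⁻¹) * d⁻¹ = _
    group
  have e2 : h * z * h⁻¹ = d * h * z * (d * h)⁻¹ := by
    calc _ = d * (h * z * h⁻¹) * d⁻¹ := by rw [d1, mul_inv_cancel_right]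
      _ = _ := by group
  rwa [e1, e2, DS.Nt.finrank_Fx_conj (d * h) (Z := {a u, z}) fun y => by
    simp only [Set.mem_insert_iff, Set.mem_singleton_iff, mul_left_inj, mul_right_inj]] at h1

end e8

end Cfsg.Agent.Cam.E8O.A2
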