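import Cfsg.Agent.Cam.Odd.K3
import Cfsg.Agent.Cam.Odd.Grp
import Cfsg.Agent.Cam.Ex.FExt
import Cfsg.Agent.Cam.E8.Iface

/-!
# S3690, the row `E₈`, odd characteristic: interface (helper70)

The mathematics is in `notes/Cam/e8odd.md`.  `Y8 p = E₈(k)`, `dd p y` is the dimension of the fixed space of `y` on the
adjoint module: `120` (class 2B, `D₈`), `136` (2A, `E₇A₁`), `80` (3A, `A₈`), `86` (3B, `E₆A₂`), `48` (5A, `A₄A₄`).
-/

set_option autoImplicit false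
set_option linter.unusedVariables false

namespace Cfsg.Agent.Cam.E8O

open Cfsg Cfsg.Lie Subgroup Module
open Cfsg.Agent.Cam.Spor Cfsg.Agent.Cam.Ex Cfsg.Agent.Cam.Ex.S2 Cfsg.Agent.Cam.Odd
open Cfsg.Agent.H402.PSL2Cls (PSL)
open Cfsg.Agent.DS.NT (ev)
open Cfsg.Agent.DS.Nt (dd ad Fx)
open Cfsg.Agent.Nodes.RGDFoldSL (hS)

/-- the algebraic group -/
abbrev Y8 (p : ℕ) [Fact p.Prime] : Type := YY chevE8 p

/-- the frames -/
abbrev Fr8 (p : ℕ) [Fact p.Prime] (L : Type) [Group L] : Type := Frame tE8 p 1 (sg 8 1) L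

/-- the alternating groups -/
abbrev Al (n : ℕ) : Type := ↥(alternatingGroup (Fin n))

/-- a core with the invariant subgroup `D` (the perfect core of the centralizer of the class) -/
structure Core8 {L U : Type} [Group L] [Group U] (τ α β : U →* L) (R R' D : Subgroup L) : Prop
    extends Core τ α β R R' where
  le : D ≤ R
  cpy : ∃ φ : U →* L, Function.Injective φ ∧ ∀ u, φ u ∈ D
  max8 : ∀ Y : Subgroup L, Y ≠ ⊤ →
    (∀ θ : MulAut L, D.map θ.toMonoidHom = D → (τ.range ⊔ R).map θ.toMonoidHom = τ.range ⊔ R →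
      Y.map θ.toMonoidHom = Y) → Y ≤ normalizer ((τ.range ⊔ R : Subgroup L) : Set L)
  two : (∃ θ : MulAut L, τ.range.map θ.toMonoidHom = α.range ∧ R.map θ.toMonoidHom = R') ∨
    ∃ θ : MulAut L, ∀ u, θ (τ u) ∈ R ∧ ∀ d ∈ D, d * θ (τ u) = θ (τ u) * d

/-- no component is moved -/
def NoMov {G : Type} [Group G] (S H : Subgroup G) (g : G) : Prop :=
  ∀ 𝒯 : Set (Subgroup G), Cls S H g 𝒯 → ∀ T₁ ∈ 𝒯, ∀ T₂ ∈ 𝒯, cj g T₂ ≤ normalizer (T₁ : Set G)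

/-- [Mov] characteristic two (`Rank7` fails there) -/
def BoxMov : Prop := Big → Red → ∀ (G : Type) [Group G] [Finite G] (S H : Subgroup G) (g : G), Fr8 2 S → NoMov S H g

/-- [Link] the core of a configuration, and the way back -/
def BoxLink : Prop := Big → Red → ∀ (G : Type) [Group G] [Finite G] (S H : Subgroup G) (g : G), Conf S H g → NoMov S H g →
  ∃ (U : Type) (_ : Group U) (_ : Finite U) (τ α β : U →* S) (R R' D : Subgroup S), Core8 τ α β R R' D ∧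
    (Nonempty (U ≃* Al 5) → Nonempty (R' ≃* Al 6) → Nonempty (generalizedFittingSubgroup H ≃* Al 5 × Al 6))

/-- [ML, helper65 / helper69] the characteristic does not divide the order of the component -/
def BoxML : Prop := ∀ (F : Type) [Field F] [Finite F] (p : ℕ) [Fact p.Prime] [CharP F p], 5 ≤ p →
  ∀ (U : Type) [Group U] [Finite U] (τ α β : U →* E8A.G8 F) (R R' : Subgroup (E8A.G8 F)), Core τ α β R R' →
  (∀ c ∈ centralizer (R : Set (E8A.G8 F)), c ^ p = 1 → ∀ z ∈ τ.range, z ≠ 1 → z ^ 2 = 1 → c * z = z * c → c ∈ τ.range) →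
  ¬ p ∣ Nat.card U

/-- `ψ` is the root `SL₂` of the involution `z` of class 2A -/
structure JA (p : ℕ) [Fact p.Prime] (z : Y8 p) (ψ : SL (kb p) →* Y8 p) : Prop where
  ck : CK ψ
  ctr : ψ (hS (-1)) = z
  inn : ∀ y, y * z = z * y → ∃ j, IA ψ y j
  q8 : ∀ x, orderOf x = 2 → x ≠ z → x * z = z * x → (Cz ψ x ↔ dd p (x * z) ≠ dd p x)
  vec : ∃ v, v ≠ 0 ∧ ∀ y, Cz ψ y → ad chevE8 p y v = v
  far : ∀ t, t * z * t⁻¹ ≠ z → Cz ψ (t * z * t⁻¹) → ∀ s, Cz ψ (t * ψ s * t⁻¹)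

/-- the rational points of the root `SL₂`: a non-central normal subgroup of `SL₂(q)` is not abelian and contains `-1` -/
structure XN {p : ℕ} [Fact p.Prime] {L : Type} [Group L] (ι : L →* Y8 p) (x : L) (ψ : SL (kb p) →* Y8 p) : Prop where
  ex : ∃ w, ι w ∈ ψ.range ∧ ¬ Cz ψ (ι w)
  nrm : ∀ N : Subgroup L, (∀ s, ι s ∈ ψ.range → ∀ n ∈ N, s * n * s⁻¹ ∈ N) → ∀ n ∈ N, n * x = x * n → ¬ Cz ψ (ι n) →
    x ∈ N ∧ ∃ a ∈ N, ∃ b ∈ N, ι a ∈ ψ.range ∧ ι b ∈ ψ.range ∧ a * b ≠ b * a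

/-- [J] involutions of class 2A -/
def BoxJ : Prop := ∀ (p : ℕ) [Fact p.Prime], p ≠ 2 → ∀ (L : Type) [Group L] [Finite L] (E : Fr8 p L) (x : L),
  orderOf x = 2 → dd p (E.ι x) = 136 → ∃ ψ, JA p (E.ι x) ψ ∧ XN E.ι x ψ

/-- [P3] the centralizer of a pure group `2 ^ 3` has the type `A₁ ^ 8` -/
def BoxP3 : Prop := ∀ (p : ℕ) [Fact p.Prime], p ≠ 2 → ∀ P : Subgroup (Y8 p), Nat.card P = 8 → (∀ x ∈ P, x ^ 2 = 1) →
  (∀ x ∈ P, x ≠ 1 → dd p x = 120) → ∀ (U : Type) [Group U] [Finite U], IsSimpleGroup U → ¬ IsMulCommutative U →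
  ∀ a : U →* Y8 p, Function.Injective a → (∀ u, ∀ x ∈ P, a u * x = x * a u) → PRankLE 2 2 U

/-- [Tet] simple groups of `2`-rank two -/
def BoxTet : Prop := ∀ (U : Type) [Group U] [Finite U], IsSimpleGroup U → ¬ IsMulCommutative U → PRankLE 2 2 U →
  ∃ x₁ x₂ t : U, Tet x₁ x₂ t ∧ ((∃ g, g * t * g⁻¹ = t⁻¹) ∨ ∃ P : Subgroup U, 27 ∣ Nat.card P ∧
    (∀ x ∈ P, ∀ y ∈ P, x * y = y * x) ∧ ∀ x ∈ P, x ≠ 1 → IsConj x t ∨ IsConj x t⁻¹)

/-- `μ (V × V)` is a pure group of order `16`, `V = ⟨x₁, x₂⟩` -/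
structure PT (p : ℕ) [Fact p.Prime] {U : Type} [Group U] (μ : U × U →* Y8 p) (x₁ x₂ t : U) : Prop where
  inj : Function.Injective μ
  tet : Tet x₁ x₂ t
  pure : ∀ a ∈ ({1, x₁, x₂, x₁ * x₂} : Set U), ∀ b ∈ ({1, x₁, x₂, x₁ * x₂} : Set U), (a, b) ≠ 1 →
    dd p (μ (a, b)) = 120

/-- [E16] elements of order three normalizing a pure toral group of order `16` -/
def BoxE16 : Prop := ∀ (p : ℕ) [Fact p.Prime], p ≠ 2 → ∀ (U : Type) [Group U] (μ : U × U →* Y8 p) (x₁ x₂ t : U),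
  PT p μ x₁ x₂ t → dd p (μ (t, t)) ≤ 88 ∧ (p = 3 → 89 ≤ dd p (μ (t, 1))) ∧
    (p ≠ 3 → dd p (μ (t, t)) = 80 ∧ dd p (μ (t, t⁻¹)) = 80 ∧
      3 * finrank (kb p) (Fx p {μ (x₁, 1), μ (1, t)}) ≤ dd p (μ (1, t)) + 48)

/-- [A2] the factor `A₂` of the centralizer of a real element of class 3B -/
def BoxA2 : Prop := ∀ (p : ℕ) [Fact p.Prime], 5 ≤ p → ∀ z g : Y8 p, z ^ 3 = 1 → dd p z = 86 → g * z * g⁻¹ = z⁻¹ →
  ∀ (U : Type) [Group U] [Finite U], IsSimpleGroup U → ¬ IsMulCommutative U → ∀ a : U →* Y8 p,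
  (∀ u, a u * z = z * a u) → (∀ u, a u * g = g * a u) →
  ((∃ f : U →* PSL (kb p), Function.Injective f) ∧ ∀ c : Y8 p, c * z = z * c → c * g = g * c → c ^ p = 1 →
    (∀ u, c * a u * c⁻¹ ∈ a.range) → ∀ x, orderOf x = 2 → c * a x = a x * c → ∀ u, c * a u = a u * c) ∨
  ∀ u, u ^ 2 = 1 → 46 ≤ finrank (kb p) (Fx p {a u, z})

/-- the dimensions of the fixed spaces of the elements of order five -/
def T5 (n : ℕ) : Prop := n = 48 ∨ n = 52 ∨ n = 54 ∨ n = 64 ∨ n = 68 ∨ n = 82 ∨ n = 92 ∨ n = 134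

/-- [A5] linear algebra for `A₅ × A₅` -/
def BoxA5 : Prop := ∀ (p : ℕ) [Fact p.Prime], 7 ≤ p → ∀ (V : Type) [AddCommGroup V] [Module (kb p) V]
  [FiniteDimensional (kb p) V] (U : Type) [Group U], Nonempty (U ≃* Al 5) → ∀ ρ : U × U →* Module.End (kb p) V,
  finrank (kb p) V = 248 →
  (∀ x, orderOf x = 2 → ev ρ (x, 1) 1 = 120 ∧ ev ρ (1, x) 1 = 120 ∧ ev ρ (x, x) 1 = 120) →
  (∀ t, orderOf t = 3 → ev ρ (t, 1) 1 = 80 ∧ ev ρ (1, t) 1 = 86 ∧ ev ρ (t, t) 1 = 80) →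
  (∀ x t, orderOf x = 2 → orderOf t = 3 → (ev ρ (t, x) 1 = 40 ∨ ev ρ (t, x) 1 = 64) ∧
    (ev ρ (x, t) 1 = 42 ∨ ev ρ (x, t) 1 = 54)) →
  (∀ y, orderOf y = 5 → T5 (ev ρ (y, 1) 1) ∧ T5 (ev ρ (1, y) 1)) →
  finrank (kb p) (fx ρ {g | g.1 = g.2}) = finrank (kb p) (fx ρ {g | g.2 = 1}) →
  fx ρ {g | g.2 = 1} = ⊥ ∧ ∀ y, orderOf y = 5 → fx ρ {g | g.1 = 1 ∨ g = (y, 1)} ≠ ⊥

/-- [P81] linear algebra for `A₅ × P`, `P` of order `81` and exponent `3` -/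
def BoxP81 : Prop := ∀ (p : ℕ) [Fact p.Prime], 7 ≤ p → ∀ (V : Type) [AddCommGroup V] [Module (kb p) V]
  [FiniteDimensional (kb p) V] (U : Type) [Group U], Nonempty (U ≃* Al 5) → ∀ (P : Type) [Group P], Nat.card P = 81 →
  (∀ z : P, z ^ 3 = 1) → ∀ ρ : U × P →* Module.End (kb p) V, finrank (kb p) V = 248 → fx ρ {g | g.2 = 1} = ⊥ →
  (∀ x, orderOf x = 2 → ev ρ (x, 1) 1 = 120) → (∀ t, orderOf t = 3 → ev ρ (t, 1) 1 = 80) →
  (∀ x t z, orderOf x = 2 → orderOf t = 3 → z ≠ 1 →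
    (ev ρ (1, z) 1 = 80 ∧ ev ρ (t, z) 1 = 92 ∧ (ev ρ (x, z) 1 = 40 ∨ ev ρ (x, z) 1 = 64)) ∨
    (ev ρ (1, z) 1 = 86 ∧ (ev ρ (t, z) 1 = 80 ∨ ev ρ (t, z) 1 = 134) ∧ (ev ρ (x, z) 1 = 42 ∨ ev ρ (x, z) 1 = 54))) →
  False

/-- the centralizer of a perfect group without fixed vectors -/
structure Iso (p : ℕ) [Fact p.Prime] (J : Subgroup (Y8 p)) : Prop where
  prime : ∀ z ∈ centralizer (J : Set (Y8 p)), (orderOf z).Prime →
    orderOf z = 2 ∨ (orderOf z = 3 ∧ (dd p z = 80 ∨ dd p z = 86)) ∨ (orderOf z = 5 ∧ dd p z = 48)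
  nine : ∀ z ∈ centralizer (J : Set (Y8 p)), orderOf z ≠ 9 ∧ orderOf z ≠ 25
  five : ∀ Q : Subgroup (Y8 p), Q ≤ centralizer (J : Set (Y8 p)) → (∀ x ∈ Q, x ^ 5 = 1) → Nat.card Q ≠ 25
  sixteen : ∀ Q : Subgroup (Y8 p), Q ≤ centralizer (J : Set (Y8 p)) → (∀ x ∈ Q, x ^ 2 = 1) →
    (∀ x ∈ Q, x ≠ 1 → dd p x = 120) → Nat.card Q ≠ 16

/-- [Iso] isolated elements -/
def BoxIso : Prop := ∀ (p : ℕ) [Fact p.Prime], 7 ≤ p → ∀ J : Subgroup (Y8 p), ⁅J, J⁆ = J →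
  Fx p (J : Set (Y8 p)) = ⊥ → Iso p J

/-- [Grp8] perfect `{2, 3, 5}`-groups -/
def BoxGrp8 : Prop := Big → ∀ (R : Type) [Group R] [Finite R], Nontrivial R → ⁅(⊤ : Subgroup R), (⊤ : Subgroup R)⁆ = ⊤ →
  center R = ⊥ → (∀ r : ℕ, r.Prime → r ∣ Nat.card R → r = 2 ∨ r = 3 ∨ r = 5) → ¬ 25 ∣ Nat.card R → ¬ 81 ∣ Nat.card R →
  (∀ (N : Subgroup R) (y : R), Nat.card N = 16 → (∀ n ∈ N, n ^ 2 = 1) → orderOf y = 5 → (∀ n ∈ N, y * n * y⁻¹ ∈ N) →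
    ∃ n ∈ N, n ≠ 1 ∧ y * n = n * y) →
  Nonempty (R ≃* Al 5) ∨ Nonempty (R ≃* Al 6)

/-- [Vec] a `p'`-group with a fixed vector centralizes a rational torus -/
def BoxVec : Prop := ∀ (p : ℕ) [Fact p.Prime], 7 ≤ p → ∀ (L : Type) [Group L] [Finite L] (E : Fr8 p L) (Γ : Subgroup L),
  ¬ p ∣ Nat.card Γ → Fx p (E.ι '' (Γ : Set L)) ≠ ⊥ → ∃ s ∈ centralizer (Γ : Set L), s ^ 5 ≠ 1

/-- all boxes -/
structure Boxes : Prop where
  link : BoxLink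
  ml : BoxML
  j : BoxJ
  p3 : BoxP3
  tet : BoxTet
  e16 : BoxE16
  a2 : BoxA2
  a5 : BoxA5
  p81 : BoxP81
  iso : BoxIso
  grp : BoxGrp8
  vec : BoxVec

/-- the row `E₈` in odd characteristic -/
def OddE8 : Prop := Big → Red → ∀ (G : Type) [Group G] [Finite G] (S H : Subgroup G) (g : G), Conf S H g →
  ∀ (p : ℕ) [Fact p.Prime], p ≠ 2 → Fr8 p S → Nonempty (generalizedFittingSubgroup H ≃* Al 5 × Al 6)

/-- the row `E₈` in characteristic two -/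
def EvenE8 : Prop := Big → Red → ∀ (G : Type) [Group G] [Finite G] (S H : Subgroup G) (g : G), Conf S H g →
  Fr8 2 S → False

/-- the finite group of a frame -/
theorem exists_equiv {p : ℕ} [Fact p.Prime] {L : Type} [Group L] (E : Fr8 p L) :
    Nonempty (L ≃* E8A.G8 (GaloisField p E.e)) := by
  have := Fintype.ofFinite (GaloisField p E.e)
  obtain ⟨f⟩ := BpExc.RowsUntw.exists_emb p (GaloisField p E.e)
  obtain ⟨e, -⟩ := FExt.exists_iso E H129.TorusChar.invC_E8 one_ne_zero (Or.inl rfl) (GaloisField p E.e)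
    (GaloisField.card p E.e E.he.ne') (S1054.result _ (by simp)) f
  exact ⟨e⟩

theorem evenE8_of (link : BoxLink) (mov : BoxMov) (two : E8.BoxTwo) : EvenE8 := by
  intro big red G _ _ S H g c E
  obtain ⟨U, _, _, τ, α, β, R, R', D, h, -⟩ := link big red G S H g c (mov big red G S H g E)
  obtain ⟨e⟩ := exists_equiv E
  exact (two _).of_equiv e U τ α β R R' h.toCore

/-- the two cases -/
theorem boxE8_of (fr : BoxFrame) (h1 : OddE8) (h2 : EvenE8) : BoxE8 := by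
  intro big red G _ _ S H g c h
  obtain ⟨p, _, ⟨E⟩⟩ := fr.e8 S h
  by_cases hp : p = 2
  · subst hp
    exact (h2 big red G S H g c E).elim
  · exact h1 big red G S H g c p hp E

end Cfsg.Agent.Cam.E8O
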