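import Cfsg.Agent.Cam.E8.OA5a
import Cfsg.Agent.Cam.E8.OIface

/-!
# S3690, the row `E₈`: the boxes `A5` and `P81` (helper15)
-/

set_option autoImplicit false
set_option linter.unusedSectionVars false

namespace Cfsg.Agent.Cam.E8O.A5

open Module Cfsg.Agent.Cam.Odd Cfsg.Agent.Cam.Odd.Lin
open Cfsg.Agent.Cam.Ex (kb)
open Cfsg.Agent.DS.NT (ev)

theorem arith1 (f : ℕ → ℕ → ℕ) (hl : ∀ j, Rel5 fun i => f i j) (hr : ∀ i, Rel5 fun j => f i j) (d₁ d₂ : ℕ)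
    (h0 : f 0 0 = 248) (h1 : f 1 0 = 120) (h2 : f 0 1 = 120) (h3 : f 2 0 = 80) (h4 : f 0 2 = 86) (h5 : f 1 1 = 56)
    (h6 : f 2 2 = 26) (h7 : f 2 1 = 40 ∨ f 2 1 = 64) (h8 : f 1 2 = 42 ∨ f 1 2 = 54)
    (h9 : f 3 3 + 3 * f 4 4 = f 4 3 + f 3 4 + d₁ + d₂) :
    d₁ = 0 ∧ (T5 (f 0 5) → f 7 0 ≤ f 6 6 → f 7 0 = 0 ∧ 1 ≤ f 6 7) := by
  obtain ⟨a3, a4, a6, a7, -, -⟩ := hr 0
  obtain ⟨b3, b4, b6, b7, -, -⟩ := hr 1
  obtain ⟨c3, c4, c6, c7, -, -⟩ := hr 2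
  obtain ⟨l3, l4, -, -, -, l5⟩ := hl 3
  obtain ⟨m3, m4, -, -, m5, m6⟩ := hl 4
  obtain ⟨-, -, -, -, -, n6⟩ := hr 3
  simp only [h0, h1, h2, h3, h4, h5, h6] at a3 a4 a6 a7 b3 b4 b6 b7 c3 c4 c6 c7 l3 l4 l5 m3 m4 m5 m6 n6
  have k7 : f 2 1 = 40 := by omega
  have k8 : f 1 2 = 42 := by omega
  refine ⟨by omega, fun t5 hd => ?_⟩
  have k44 : f 4 4 = 0 := by omega
  have k74 : f 7 4 = 0 := by omega
  have k47 : f 4 7 = 0 := Nat.eq_zero_of_le_zero (k44 ▸ (hr 4).2.2.2.2.1)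
  have k77 : f 7 7 = 0 := Nat.eq_zero_of_le_zero (k74 ▸ (hr 7).2.2.2.2.1)
  have k67 : f 6 7 ≤ f 6 4 := (hr 6).2.2.2.2.1
  have k37 : f 3 7 ≤ f 3 4 := (hr 3).2.2.2.2.1
  obtain ⟨e3, e4, e6, e7, -, -⟩ := hr 5
  obtain ⟨p3, p4, p6, p7, -, -⟩ := hl 0
  obtain ⟨q3, q4, q6, q7, -, -⟩ := hl 1
  obtain ⟨r3, r4, r6, r7, -, -⟩ := hl 2
  obtain ⟨s3, s4, s6, s7, -, -⟩ := hr 7
  obtain ⟨u3, u4, u6, u7, -, -⟩ := hl 7
  obtain ⟨v3, v4, v6, v7, -, -⟩ := hr 6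
  obtain ⟨w3, w4, w6, w7, -, -⟩ := hl 5
  have z1 : 2 * f 7 0 = 6 * f 7 6 + 5 * f 7 3 := by linarith
  have z2 : f 6 6 + 1 = f 7 6 + f 6 7 := by linarith
  have z3 : f 0 5 = 6 * f 6 7 + 5 * f 3 7 + 42 := by linarith
  have z4 : f 6 4 = 4 := by linarith
  have z5 : f 3 4 = 4 := by linarith
  unfold T5 at t5
  clear * - z1 z2 z3 z4 z5 t5 hd k67 k37
  have y1 : f 7 3 ≤ 1 := by omega
  have y2 : f 7 3 ≠ 1 := by omega
  have y3 : f 7 6 ≤ 1 := by omega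
  have y4 : f 7 6 ≠ 1 := fun e => by
    have y5 : f 6 7 = 3 ∨ f 6 7 = 4 := by omega
    rcases y5 with y5 | y5 <;> omega
  omega

variable {K V U : Type} [Field K] [AddCommGroup V] [Module K V] [FiniteDimensional K V] [Group U]

theorem cop23 {a s : Module.End K V} (ha : ∀ v, a (a v) = v) (hs : ∀ v, s (s (s v)) = v) (hc : ∀ v, s (a v) = a (s v)) :
    E a 1 ⊓ E s 1 = E (a * s) 1 := by
  ext v
  simp only [Submodule.mem_inf, mem_E1, Module.End.mul_apply]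
  refine ⟨fun hv => by rw [hv.2, hv.1], fun hv => ?_⟩
  have h5 : s v = a v := by rw [← ha (s v), hv]
  have h6 : a v = v := by
    have h7 := hs v
    rw [h5, hc, h5, ha, h5] at h7
    exact h7
  exact ⟨h6, h5.trans h6⟩

theorem exists_omega [IsAlgClosed K] (h2 : (2 : K) ≠ 0) : ∃ ω : K, ω * ω + ω + 1 = 0 := by
  obtain ⟨z, hz⟩ := IsAlgClosed.exists_eq_mul_self (-3 : K)
  refine ⟨(2 : K)⁻¹ * (z - 1), ?_⟩
  have i2 : (2 : K)⁻¹ * 2 = 1 := inv_mul_cancel₀ h2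
  linear_combination (-(2 : K)⁻¹ * (2 : K)⁻¹) * hz - ((2 : K)⁻¹ * (z - 1) + (2 : K)⁻¹ * 2 + 1) * i2

theorem boxA5 : BoxA5 := by
  intro p _ hp V _ _ _ U _ hU ρ hV H2 H3 H23 H5 hd
  have : Finite U := hU.elim fun e => Finite.of_equiv _ e.symm.toEquiv
  have := Fintype.ofFinite U
  obtain ⟨x, x₂, t, y, D⟩ := exists_D5 hU
  have h := D.tet
  have h2 : (2 : kb p) ≠ 0 := by exact_mod_cast cast_ne hp two_pos (by norm_num)
  have h3 : (3 : kb p) ≠ 0 := by exact_mod_cast cast_ne hp three_pos (by norm_num)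
  have h5 : (5 : kb p) ≠ 0 := by exact_mod_cast cast_ne hp (n := 5) (by norm_num) (by norm_num)
  obtain ⟨ω, hω⟩ := exists_omega h2
  have TL := tet_to (lf ρ) h
  have TR := tet_to (rt ρ) h
  have hl := fun j => rel5 hp (lf ρ) D (N := sq (rt ρ) x x₂ t y j) fun g => inv_sq (fun u v => rt_lf ρ g u v) _ _ _ _ _
  have hr := fun i => rel5 hp (rt ρ) D (N := sq (lf ρ) x x₂ t y i)
    fun g => inv_sq (fun u v => (rt_lf ρ u g v).symm) _ _ _ _ _
  simp only [inf_comm (sq (rt ρ) x x₂ t y _)] at hl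
  have iE : ∀ {a b c : Module.End (kb p) V}, TO a b c → Inv c (E a 1 ⊓ E b 1) := fun T v hv => by
    have := T.wt (mem_E.1 hv.1) (mem_E.1 hv.2)
    rw [mul_one] at this
    exact ⟨mem_E.2 this.1, mem_E.2 this.2⟩
  have k9 := r9 h3 hω TL.sss TR.sss (fun v => (rt_lf ρ t t v).symm)
    (N := sq (lf ρ) x x₂ t y 3 ⊓ sq (rt ρ) x x₂ t y 3)
    ((iE TL).inf (inv_sq (fun u v => rt_lf ρ t u v) _ _ _ _ _))
    ((inv_sq (fun u v => (rt_lf ρ u t v).symm) _ _ _ _ _).inf (iE TR))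
  have k6 := r9 h3 hω TL.sss TR.sss (fun v => (rt_lf ρ t t v).symm) (Inv.top _) (Inv.top _)
  have k7 : finrank (kb p) ↥(⊤ ⊓ E (ρ (t, t * t)) 1) = finrank (kb p) ↥(⊤ ⊓ E (ρ (t, t)) 1) := by
    obtain ⟨c, hc⟩ := isConj_iff.1 D.c3
    refine conj_eq ρ (fun _ => Inv.top _) (isConj_iff.2 ⟨(1, c), ?_⟩)
    ext
    · simp
    · exact hc
  rw [← map_mul (rt ρ), lf_mul_rt, lf_mul_rt] at k9 k6
  obtain ⟨e1, e2, e3⟩ := H2 x h.o1
  obtain ⟨e4, e5, e6⟩ := H3 t h.o3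
  obtain ⟨e7, e8⟩ := H23 x t h.o1 h.o3
  rw [k7, ← ev_eq, finrank_top, top_inf_eq, top_inf_eq, hV, e6] at k6
  change _ = ev ρ (t, 1) 1 + ev ρ (1, t) 1 + 80 + 80 at k6
  have s44 : sq (lf ρ) x x₂ t y 3 ⊓ sq (rt ρ) x x₂ t y 3 ⊓ E (lf ρ t) 1 ⊓ E (rt ρ t) 1 =
      sq (lf ρ) x x₂ t y 4 ⊓ sq (rt ρ) x x₂ t y 4 := by
    simp only [sq]
    ac_rfl
  have s43 : sq (lf ρ) x x₂ t y 3 ⊓ sq (rt ρ) x x₂ t y 3 ⊓ E (lf ρ t) 1 =
      sq (lf ρ) x x₂ t y 4 ⊓ sq (rt ρ) x x₂ t y 3 := by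
    simp only [sq]
    ac_rfl
  have s34 : sq (lf ρ) x x₂ t y 3 ⊓ sq (rt ρ) x x₂ t y 3 ⊓ E (rt ρ t) 1 =
      sq (lf ρ) x x₂ t y 3 ⊓ sq (rt ρ) x x₂ t y 4 := by
    simp only [sq]
    ac_rfl
  rw [s44, s43, s34] at k9
  have k12 : sq (lf ρ) x x₂ t y 1 ⊓ sq (rt ρ) x x₂ t y 2 = E (ρ (x, t)) 1 := by
    rw [← lf_mul_rt]
    exact cop23 TL.aa TR.sss (rt_lf ρ x t)
  have k21 : sq (lf ρ) x x₂ t y 2 ⊓ sq (rt ρ) x x₂ t y 1 = E (ρ (t, x)) 1 := by
    have e : rt ρ x * lf ρ t = ρ (t, x) := LinearMap.ext fun v => (rt_lf ρ t x v).trans (lf_rt ρ t x v)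
    rw [← e, inf_comm]
    exact cop23 TR.aa TL.sss fun v => (rt_lf ρ t x v).symm
  have k70 : sq (lf ρ) x x₂ t y 7 ⊓ sq (rt ρ) x x₂ t y 0 = fx ρ {g | g.2 = 1} := by
    ext v
    refine ⟨?_, fun hv => ⟨fun u _ => hv (u, 1) rfl, trivial⟩⟩
    rintro hv ⟨a, b⟩ (rfl : b = 1)
    exact hv.1 a trivial
  have k11 := pair ρ h2 h.o1 h.o1
  obtain ⟨d0, d2⟩ := arith1 (fun i j => dm (sq (lf ρ) x x₂ t y i ⊓ sq (rt ρ) x x₂ t y j)) hl hr _ _
    (by simp only [sq, top_inf_eq, dm_top, hV]) (by simp only [sq, inf_top_eq]; exact e1)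
    (by simp only [sq, top_inf_eq]; exact e2) (by simp only [sq, inf_top_eq]; exact e4)
    (by simp only [sq, top_inf_eq]; exact e5) (by simp only [sq, ← dm_def]; omega)
    (by simp only [sq, ← dm_def]; omega) (by simp only [k21]; exact e7) (by simp only [k12]; exact e8) k9
  have d1 := Submodule.finrank_eq_zero.1 d0
  have hy5 : ∀ (l : U →* Module.End (kb p) V) v, l y (l y (l y (l y (l y v)))) = v := fun l v => by
    rw [ap_mul, ap_mul, ap_mul, ap_mul, mul_assoc, mul_assoc, mul_assoc, five_of_order D.oy, ap_one]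
  have hxy : ∀ (l : U →* Module.End (kb p) V) v, l y (l x (l y v)) = l x v := fun l v => by
    rw [ap_mul, ap_mul, mul_assoc, D.xy]
  have key : dm (fx ρ {g | g.1 = g.2}) ≤ dm (sq (lf ρ) x x₂ t y 6 ⊓ sq (rt ρ) x x₂ t y 6) := by
    let e : Module.End (kb p) V := (1 - lf ρ x) * pi5 (lf ρ y)
    let eE : (U →* Module.End (kb p) V) → Module.End (kb p) V := fun l => 1 + l x + l x₂ + l x * l x₂
    have e_ap : ∀ v, e v = pi5 (lf ρ y) v - lf ρ x (pi5 (lf ρ y) v) := fun v => rfl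
    have eE_ap : ∀ l v, eE l v = v + l x v + l x₂ v + l x (l x₂ v) := fun l v => rfl
    have e_rt : ∀ g v, rt ρ g (e v) = e (rt ρ g v) := fun g v => by
      simp only [e_ap, pi5_ap, map_sub, map_add, rt_lf]
    have eE_mem : ∀ l v, eE l v ∈ sq l x x₂ t y 3 := fun l v => by
      have T := tet_to l h
      refine ⟨mem_E1.2 ?_, mem_E1.2 ?_⟩
      · simp only [eE_ap, map_add, T.aa]
        abel
      · simp only [eE_ap, map_add, T.ab, T.bb]
        abel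
    have sw : ∀ v ∈ fx ρ {g | g.1 = g.2}, ∀ g, lf ρ g v = rt ρ g⁻¹ v := fun v hv g => by
      rw [← hv (g⁻¹, g⁻¹) rfl, ← lf_rt, ap_mul, mul_inv_cancel, ap_one, lf_rt, hv _ rfl]
    have i2 : ∀ {x : U}, orderOf x = 2 → x⁻¹ = x := fun hx => inv_eq_of_mul_eq_one_right (sq_of_order hx)
    have sw2 : ∀ v ∈ fx ρ {g | g.1 = g.2}, ∀ g g', lf ρ g (lf ρ g' v) = rt ρ g'⁻¹ (rt ρ g⁻¹ v) := fun v hv g g' => by
      rw [ap_mul, sw v hv, mul_inv_rev, ← ap_mul]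
    refine le_of_inj e (fun v hv => ⟨⟨mem_E1.2 ?_, mem_Em.2 ?_⟩, mem_E1.2 ?_, mem_Em.2 ?_⟩) fun v hv h0 => ?_
    · rw [e_ap, map_sub, pi5_l (hy5 _), ← pi5_x (hy5 _) (hxy _), pi5_l (hy5 _)]
    · rw [e_ap, map_sub, TL.aa, neg_sub]
    · have h6 : lf ρ y (rt ρ y v) = v := by rw [lf_rt, hv _ rfl]
      rw [e_rt, e_ap, e_ap, ← pi5_r (hy5 _) (rt ρ y v), h6]
    · have h6 := sw v hv x
      rw [i2 h.o1] at h6
      rw [e_rt, ← h6, e_ap, e_ap, pi5_x (hy5 _) (hxy _), TL.aa, neg_sub]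
    · have hE : eE (lf ρ) v = 0 := by
        rw [← Submodule.mem_bot (kb p), ← d1]
        refine ⟨⟨eE_mem _ v, ?_⟩, mem_E1.2 ?_⟩
        · have : eE (lf ρ) v = eE (rt ρ) v := by
            rw [eE_ap, eE_ap, sw2 v hv, sw v hv, sw v hv, i2 h.o1, i2 (tet_o2 h), TR.ab]
          rw [this]
          exact eE_mem _ v
        · have h6 : lf ρ t (rt ρ t v) = v := by rw [lf_rt, hv _ rfl]
          rw [← lf_rt, eE_ap]
          simp only [map_add, rt_lf, TL.sa, TL.sb, h6, ← TL.ab, TL.bb]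
          abel
      let W : Submodule (kb p) V :=
        { carrier := {w | ∀ g, e (lf ρ g w) = 0 ∧ eE (lf ρ) (lf ρ g w) = 0}
          zero_mem' := fun g => by simp only [map_zero, and_self]
          add_mem' := fun {a b} ha hb g => by
            simp only [map_add, (ha g).1, (ha g).2, (hb g).1, (hb g).2, add_zero, and_self]
          smul_mem' := fun c a ha g => by simp only [map_smul, (ha g).1, (ha g).2, smul_zero, and_self] }
      have hvW : v ∈ W := fun g => by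
        rw [sw v hv]
        constructor
        · rw [← e_rt, h0, map_zero]
        · have h6 := congrArg (rt ρ g⁻¹) hE
          rw [eE_ap] at h6 ⊢
          simpa only [map_add, rt_lf, map_zero] using h6
      have hW := rel5 hp (lf ρ) D (N := W) fun g w hw g' => by rw [ap_mul]; exact hw _
      have z3 : W ⊓ sq (lf ρ) x x₂ t y 3 = ⊥ := by
        rw [eq_bot_iff]
        intro w hw
        have h6 := (hw.1 1).2
        rw [ap_one, eE_ap, mem_E1.1 hw.2.2, mem_E1.1 hw.2.1] at h6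
        exact zero_of_smul h2 (zero_of_smul h2 (by linear_combination (norm := module) h6))
      have z6 : W ⊓ sq (lf ρ) x x₂ t y 6 = ⊥ := by
        rw [eq_bot_iff]
        intro w hw
        have h6 := (hw.1 1).1
        have h7 := mem_E1.1 hw.2.1
        rw [ap_one, e_ap, pi5_ap, h7, h7, h7, h7] at h6
        simp only [map_add, mem_Em.1 hw.2.2] at h6
        exact zero_of_smul h2 (zero_of_smul h5 (by linear_combination (norm := module) h6))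
      simp only [Rel5, z3, z6, dm_bot] at hW
      have z0 : dm (W ⊓ sq (lf ρ) x x₂ t y 0) = 0 := by omega
      exact (Submodule.mem_bot (kb p)).1 ((Submodule.finrank_eq_zero.1 z0).le ⟨hvW, Submodule.mem_top⟩)
  obtain ⟨d3, d4⟩ := d2 (by simp only [sq, top_inf_eq]; exact (H5 y D.oy).2) (by
    simp only [k70]
    rw [← dm_def, ← hd]
    exact key)
  simp only [k70] at d3
  refine ⟨Submodule.finrank_eq_zero.1 d3, fun y' hy' h0 => ?_⟩
  have iB : ∀ g, Inv (lf ρ g) (fx (rt ρ) Set.univ) := fun g => inv_fx fun u v => rt_lf ρ g u v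
  have c1 : finrank (kb p) ↥(fx (rt ρ) Set.univ ⊓ E (lf ρ y) 1) = finrank (kb p) ↥(fx (rt ρ) Set.univ ⊓ E (lf ρ y') 1) := by
    rcases D.c5 y' hy' with c | c
    · exact conj_eq _ iB c
    · rw [← E_sq D.oy]
      exact conj_eq _ iB c
  have c2 : fx (rt ρ) Set.univ ⊓ E (lf ρ y') 1 ≤ fx ρ {g | g.1 = 1 ∨ g = (y', 1)} := by
    rintro v hv ⟨a, b⟩ ((rfl : a = 1) | e)
    · exact hv.1 b trivial
    · rw [e]
      exact mem_E1.1 hv.2
  have c3 : dm (sq (lf ρ) x x₂ t y 6 ⊓ sq (rt ρ) x x₂ t y 7) ≤ finrank (kb p) ↥(fx (rt ρ) Set.univ ⊓ E (lf ρ y) 1) :=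
    Submodule.finrank_mono fun v hv => ⟨hv.2, hv.1.1⟩
  have c4 := Submodule.finrank_mono c2
  rw [h0, finrank_bot] at c4
  omega

theorem arith2 {n : ℕ → ℕ} (h : Rel5 n) (h7 : n 7 = 0) (h1 : n 0 + n 2 = 8) (h2 : 27 * n 0 + 144 ≤ 81 * n 1) : False := by
  unfold Rel5 at h
  omega

theorem boxP81 : BoxP81 := by
  intro p _ hp V _ _ _ U _ hU P _ hP hP3 ρ hV h0 H2 H3 H
  have : Finite U := hU.elim fun e => Finite.of_equiv _ e.symm.toEquiv
  have := Fintype.ofFinite U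
  have : Finite P := Nat.finite_of_card_ne_zero (by omega)
  have := Fintype.ofFinite P
  classical
  obtain ⟨x, x₂, t, y, D⟩ := exists_D5 hU
  have h := D.tet
  have h2 : (2 : kb p) ≠ 0 := by exact_mod_cast cast_ne hp two_pos (by norm_num)
  have h3 : (3 : kb p) ≠ 0 := by exact_mod_cast cast_ne hp three_pos (by norm_num)
  obtain ⟨ω, hω⟩ := exists_omega h2
  let l : U →* Module.End (kb p) V := ρ.comp (MonoidHom.inl U P)
  let r : P →* Module.End (kb p) V := ρ.comp (MonoidHom.inr U P)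
  have lr : ∀ g z, l g * r z = ρ (g, z) := fun g z => by
    show ρ (g, 1) * ρ (1, z) = _
    rw [← map_mul, Prod.mk_mul_mk, mul_one, one_mul]
  have rl : ∀ g z v, r z (l g v) = l g (r z v) := fun g z v => by
    show ρ (1, z) (ρ (g, 1) v) = ρ (g, 1) (ρ (1, z) v)
    rw [ap_mul, ap_mul, Prod.mk_mul_mk, Prod.mk_mul_mk, mul_one, one_mul, mul_one, one_mul]
  have T := tet_to l h
  have o3 : ∀ z : P, z ≠ 1 → orderOf z = 3 := fun z hz => orderOf_eq_prime (hP3 z) hz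
  have hfx : ∀ N : Submodule (kb p) V, dm (N ⊓ sq l x x₂ t y 7) = 0 := fun N => by
    refine Submodule.finrank_eq_zero.2 (eq_bot_iff.2 (inf_le_right.trans (le_trans ?_ h0.le)))
    rintro v hv ⟨a, b⟩ (rfl : b = 1)
    exact hv a trivial
  -- one element
  have hz : ∀ z : P, z ≠ 1 → dm (⊤ ⊓ E (r z) 1) + dm (E (l t) 1 ⊓ E (r z) 1) = 112 ∧
      dm (⊤ ⊓ E (r z) 1) + 40 ≤ 3 * dm (E (l x) 1 ⊓ E (r z) 1) := by
    intro z hz
    have rs : ∀ v, r z (r z (r z v)) = v := fun v => by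
      rw [ap_mul, ap_mul, mul_assoc, cube_of_order (o3 z hz), ap_one]
    have k1 := rel5 hp l D (N := E (r z) 1) fun g => inv_E (rl g z) 1
    have k2 := hfx (E (r z) 1)
    have k6 := r9 h3 hω T.sss rs (fun v => (rl t z v).symm) (Inv.top _) (Inv.top _)
    have k7 : finrank (kb p) ↥(⊤ ⊓ E (ρ (t, z * z)) 1) = finrank (kb p) ↥(⊤ ⊓ E (ρ (t, z)) 1) := by
      obtain ⟨c, hc⟩ := isConj_iff.1 D.c3
      have e1 : finrank (kb p) ↥(⊤ ⊓ E (ρ (t * t, z * z)) 1) = finrank (kb p) ↥(⊤ ⊓ E (ρ (t, z * z)) 1) := by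
        refine conj_eq ρ (fun _ => Inv.top _) (isConj_iff.2 ⟨(c, 1), ?_⟩)
        ext
        · exact hc
        · simp
      have e2 : E (ρ (t * t, z * z)) 1 = E (ρ (t, z)) 1 := by
        ext v
        rw [mem_E1, mem_E1, ← Prod.mk_mul_mk, ← ap_mul]
        refine ⟨fun k => ?_, fun k => by rw [k, k]⟩
        have e3 : ρ (t, z) (ρ (t, z) (ρ (t, z) v)) = v := by
          rw [ap_mul, ap_mul, Prod.mk_mul_mk, Prod.mk_mul_mk, mul_assoc, mul_assoc, cube_of_order h.o3,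
            cube_of_order (o3 z hz)]
          exact ap_one ρ v
        rwa [k] at e3
      rw [← e1, e2]
    rw [← map_mul r, lr, lr, k7, finrank_top, top_inf_eq, top_inf_eq, top_inf_eq, hV] at k6
    have k12 : E (l x) 1 ⊓ E (r z) 1 = E (ρ (x, z)) 1 := by
      rw [← lr]
      exact cop23 T.aa rs (rl x z)
    have k8 := H x t z h.o1 h.o3 hz
    have k9 := H3 t h.o3
    change dm (E (l t) 1) = 80 at k9
    change (dm (E (r z) 1) = 80 ∧ dm (E (ρ (t, z)) 1) = 92 ∧ (dm (E (ρ (x, z)) 1) = 40 ∨ dm (E (ρ (x, z)) 1) = 64)) ∨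
      (dm (E (r z) 1) = 86 ∧ (dm (E (ρ (t, z)) 1) = 80 ∨ dm (E (ρ (t, z)) 1) = 134) ∧
        (dm (E (ρ (x, z)) 1) = 42 ∨ dm (E (ρ (x, z)) 1) = 54)) at k8
    obtain ⟨-, -, -, k10, -⟩ := k1
    simp only [k2] at k10
    simp only [sq, inf_top_eq] at k10
    rw [inf_comm _ (E (l x) 1), inf_comm _ (E (l t) 1), k12] at k10
    simp only [dm_def] at k6
    rw [top_inf_eq, k12]
    omega
  have hc : Fintype.card P = 81 := by rw [← Nat.card_eq_fintype_card, hP]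
  have art : ∀ N : Submodule (kb p) V, (∀ z, Inv (r z) N) →
      162 * dm (N ⊓ fx r Set.univ) + 78 * dm N = 3 * ∑ z ∈ Finset.univ.erase 1, dm (N ⊓ E (r z) 1) := by
    intro N hN
    have k := artinN (p := p) (by
      rw [hP]
      intro hd
      have hpp : p.Prime := Fact.out
      exact absurd (Nat.le_of_dvd three_pos (hpp.dvd_of_dvd_pow (show p ∣ 3 ^ 4 from hd))) (by omega))
      (fun z hz => by rw [o3 z hz]; exact Nat.prime_three) r hN
    have k1 : ∀ z ∈ Finset.univ.erase (1 : P), omN r N z = 3 / 2 * (dm (N ⊓ E (r z) 1) : ℚ) - dm N / 2 := fun z hz => by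
      have k2 := Finset.ne_of_mem_erase hz
      rw [omN, if_neg k2, o3 z k2]
      push_cast
      ring
    rw [← Finset.add_sum_erase _ _ (Finset.mem_univ 1), Finset.sum_congr rfl k1, Finset.sum_sub_distrib,
      ← Finset.mul_sum, Finset.sum_const, Finset.card_erase_of_mem (Finset.mem_univ 1), Finset.card_univ, hc, omN,
      if_pos rfl, nsmul_eq_mul] at k
    have k3 : (162 * dm (N ⊓ fx r Set.univ) + 78 * dm N : ℚ) =
        3 * ∑ z ∈ Finset.univ.erase 1, (dm (N ⊓ E (r z) 1) : ℚ) := by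
      push_cast at k
      linarith
    exact_mod_cast k3
  have a0 := art ⊤ fun _ => Inv.top _
  have a1 := art (E (l x) 1) fun z => inv_E (fun v => (rl x z v).symm) 1
  have a2 := art (E (l t) 1) fun z => inv_E (fun v => (rl t z v).symm) 1
  have s1 := Finset.sum_congr rfl fun z (hz' : z ∈ Finset.univ.erase (1 : P)) => (hz z (Finset.ne_of_mem_erase hz')).1
  have s2 := Finset.sum_le_sum fun z (hz' : z ∈ Finset.univ.erase (1 : P)) => (hz z (Finset.ne_of_mem_erase hz')).2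
  rw [Finset.sum_add_distrib, Finset.sum_const, Finset.card_erase_of_mem (Finset.mem_univ 1), Finset.card_univ, hc,
    smul_eq_mul] at s1 s2
  rw [← Finset.mul_sum] at s2
  have k1 := H2 x h.o1
  have k2 := H3 t h.o3
  change dm (E (l x) 1) = 120 at k1
  change dm (E (l t) 1) = 80 at k2
  rw [dm_top, hV] at a0
  rw [inf_comm] at a0 a1 a2
  refine arith2 (rel5 hp l D (N := fx r Set.univ) fun g => inv_fx fun u v => rl g u v) (hfx _) ?_ ?_
  · simp only [sq]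
    omega
  · simp only [sq]
    omega

end Cfsg.Agent.Cam.E8O.A5
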