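import Cfsg.Agent.Cam.Odd.Lin
import Cfsg.Agent.R2.T1.Inf.Art
import Cfsg.Agent.H219.HerAlt

/-!
# S3690, the row `E₈`: dimension relations for `A₅`-modules (helper15)
-/

set_option autoImplicit false
set_option linter.unusedSectionVars false

namespace Cfsg.Agent.Cam.E8O.A5

open Module Cfsg.Agent.Cam.Odd Cfsg.Agent.Cam.Odd.Lin
open Cfsg.Agent.Cam.Ex (kb)

section art

open Cfsg IsLocalRing Cfsg.Agent.H657 Cfsg.Agent.R2.T1.Art
open Cfsg.Agent.H952.F4 (ev)

attribute [local instance] Above.isAlgClosed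

/-- Artin's formula over the algebraic closure of the prime field -/
theorem artinK (p : ℕ) [hpp : Fact p.Prime] {W : Type} [AddCommGroup W] [Module (kb p) W] [FiniteDimensional (kb p) W]
    {T : Type} [Group T] [Fintype T] (hcard : ¬ p ∣ Nat.card T) (σ : Representation (kb p) T W) :
    (Fintype.card T : ℚ) * (finrank (kb p) ↥σ.invariants : ℚ) = ∑ x : T, om σ x := by
  classical
  obtain ⟨M, hM⟩ := Cfsg.Agent.Blocks.ExistsModular.exists_isPModular hpp.1
  obtain ⟨V, hV⟩ := Cfsg.Agent.H657.exists_above hM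
  have hch : CharP (ResidueField V) p := hV.charP hM
  obtain ⟨f⟩ : Nonempty (kb p →+* ResidueField V) := by
    let _ : Algebra (ZMod p) (ResidueField V) := ZMod.algebra _ p
    exact ⟨(IsAlgClosed.lift (R := ZMod p) (S := kb p) (M := ResidueField V)).toRingHom⟩
  have hT : (Fintype.card T : kb p) ≠ 0 := by
    intro h
    rw [CharP.cast_eq_zero_iff (kb p) p, ← Nat.card_eq_fintype_card] at h
    exact hcard h
  have hT' : (Fintype.card T : ResidueField V) ≠ 0 := by
    intro h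
    rw [CharP.cast_eq_zero_iff (ResidueField V) p, ← Nat.card_eq_fintype_card] at h
    exact hcard h
  let b := Module.finBasis (kb p) W
  let m := finrank (kb p) W
  let R : T →* Matrix (Fin m) (Fin m) (kb p) :=
    ((LinearMap.toMatrixAlgEquiv b : (W →ₗ[kb p] W) ≃ₐ[kb p] Matrix (Fin m) (Fin m) (kb p)) :
      (W →ₗ[kb p] W) →* _).comp σ
  let R' : T →* Matrix (Fin m) (Fin m) (ResidueField V) :=
    MonoidHom.comp (RingHom.toMonoidHom (f.mapMatrix (m := Fin m))) R
  let σ1 : Representation (kb p) T (Fin m → kb p) :=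
    ((Matrix.toLinAlgEquiv' : Matrix (Fin m) (Fin m) (kb p) ≃ₐ[kb p] _) : Matrix (Fin m) (Fin m) (kb p) →* _).comp R
  let σ2 : Representation (ResidueField V) T (Fin m → ResidueField V) :=
    ((Matrix.toLinAlgEquiv' : Matrix (Fin m) (Fin m) (ResidueField V) ≃ₐ[ResidueField V] _) :
      Matrix (Fin m) (Fin m) (ResidueField V) →* _).comp R'
  have e1 : ∀ g w, σ1 g (b.equivFun w) = b.equivFun (σ g w) := fun g w =>
    LinearMap.toMatrix_mulVec_repr b b (σ g) w
  have hmap : ∀ (A : Submodule (kb p) (Fin m → kb p)) (B : Submodule (kb p) W), (∀ w, b.equivFun w ∈ A ↔ w ∈ B) →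
      finrank (kb p) A = finrank (kb p) B := by
    intro A B h
    have h1 : A = B.map (b.equivFun : W →ₗ[kb p] _) := by
      ext v
      obtain ⟨w, rfl⟩ := b.equivFun.surjective v
      rw [h, Submodule.mem_map]
      exact ⟨fun h2 => ⟨w, h2, rfl⟩, fun ⟨w', h2, h3⟩ => b.equivFun.injective h3 ▸ h2⟩
    rw [h1, LinearEquiv.finrank_map_eq]
  have hev1 : ∀ g, ev (σ1 g) 1 = ev (σ g) 1 := fun g => hmap _ _ fun w => by
    rw [Module.End.mem_eigenspace_iff, Module.End.mem_eigenspace_iff, one_smul, one_smul, e1, b.equivFun.injective.eq_iff]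
  have hinv1 : finrank (kb p) ↥σ1.invariants = finrank (kb p) ↥σ.invariants := hmap _ _ fun w => by
    simp only [Representation.mem_invariants, e1, b.equivFun.injective.eq_iff]
  have hσ1 : ∀ g, σ1 g = Matrix.toLin' (R g) := fun g => rfl
  have hσ2 : ∀ g, σ2 g = Matrix.toLin' (R' g) := fun g => rfl
  have hinv2 : finrank (ResidueField V) ↥σ2.invariants = finrank (kb p) ↥σ1.invariants := by
    rw [finrank_inv_rank hT R σ1 hσ1, finrank_inv_rank hT' R' σ2 hσ2]
    have h1 : ∑ g, R' g = (∑ g, R g).map f := by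
      have h2 : (∑ g, R g).map f = f.mapMatrix (∑ g, R g) := rfl
      rw [h2, map_sum]
      rfl
    rw [h1, Cfsg.Agent.H593.RobinsonRank.rank_map]
  have hev2 : ∀ g, ev (σ2 g) 1 = ev (σ1 g) 1 := by
    intro g
    have h1 := Cfsg.Agent.H815.F4Chg.ev_map f (R g) 1
    rw [map_one] at h1
    exact h1
  have hom : ∀ x, om σ x = om σ2 x := by
    intro x
    unfold om
    congr 1
    refine Finset.sum_congr rfl fun a _ => ?_
    rw [hev2, hev1]
  rw [Finset.sum_congr rfl fun x _ => hom x, ← artin_res hM hV hcard σ2, hinv2, hinv1]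

open Classical in
/-- the term of Artin's formula at an element of prime order -/
noncomputable def omN {K V T : Type} [Field K] [AddCommGroup V] [Module K V] [Group T] (l : T →* Module.End K V)
    (N : Submodule K V) (g : T) : ℚ :=
  if g = 1 then dm N else (orderOf g * dm (N ⊓ E (l g) 1) - dm N) / (orderOf g - 1)

theorem artinN {p : ℕ} [Fact p.Prime] {V : Type} [AddCommGroup V] [Module (kb p) V] [FiniteDimensional (kb p) V]
    {T : Type} [Group T] [Fintype T] (hcard : ¬ p ∣ Nat.card T) (ho : ∀ g : T, g ≠ 1 → (orderOf g).Prime)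
    (l : T →* Module.End (kb p) V) {N : Submodule (kb p) V} (hN : ∀ g, Inv (l g) N) :
    (Fintype.card T : ℚ) * dm (N ⊓ fx l Set.univ) = ∑ g : T, omN l N g := by
  let σ : Representation (kb p) T N := Representation.subrepresentation l N hN
  have hσ : ∀ g (v : N), (σ g v : V) = l g v := fun g v => rfl
  have hmap : ∀ (A : Submodule (kb p) N) (B : Submodule (kb p) V), (∀ w : N, w ∈ A ↔ (w : V) ∈ B) →
      finrank (kb p) A = dm (N ⊓ B) := by
    intro A B h
    rw [← dm_def, ← Submodule.map_comap_subtype, Submodule.finrank_map_subtype_eq,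
      show A = Submodule.comap N.subtype B from Submodule.ext h]
  have h := artinK p hcard σ
  rw [hmap _ (fx l Set.univ) fun w => by
    simp only [Representation.mem_invariants, mem_fx, Set.mem_univ, forall_const, Subtype.ext_iff, hσ]] at h
  rw [h]
  refine Finset.sum_congr rfl fun g _ => ?_
  unfold omN
  split_ifs with e
  · rw [e, om_one, dm_def]
  · rw [om_prime σ (ho g e) rfl, ev, hmap _ (E (l g) 1) fun w => by
      rw [Module.End.mem_eigenspace_iff, one_smul, mem_E1, Subtype.ext_iff, hσ], dm_def]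

end art

variable {K V U : Type} [Field K] [AddCommGroup V] [Module K V] [FiniteDimensional K V] [Group U]

/-- the sum of the powers of an operator of order five -/
def pi5 (y : Module.End K V) : Module.End K V := 1 + y + y * y + y * (y * y) + y * (y * (y * y))

theorem pi5_ap (y : Module.End K V) (v : V) : pi5 y v = v + y v + y (y v) + y (y (y v)) + y (y (y (y v))) := rfl

theorem pi5_l {y : Module.End K V} (hy : ∀ v, y (y (y (y (y v)))) = v) (v : V) : y (pi5 y v) = pi5 y v := by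
  simp only [pi5_ap, map_add, hy]
  abel

theorem pi5_r {y : Module.End K V} (hy : ∀ v, y (y (y (y (y v)))) = v) (v : V) : pi5 y (y v) = pi5 y v := by
  simp only [pi5_ap, hy]
  abel

theorem pi5_x {y x : Module.End K V} (hy : ∀ v, y (y (y (y (y v)))) = v) (hxy : ∀ v, y (x (y v)) = x v) (v : V) :
    pi5 y (x v) = x (pi5 y v) := by
  have c1 : ∀ v, x (y v) = y (y (y (y (x v)))) := fun v => by rw [← hxy v, hy]
  simp only [pi5_ap, map_add, c1, hy]
  abel

theorem pi5_fix (h5 : (5 : K) ≠ 0) {y : Module.End K V} (v : V) (hv : y v = v) : pi5 y ((5 : K)⁻¹ • v) = v := by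
  have i5 : (5 : K)⁻¹ * 5 = 1 := inv_mul_cancel₀ h5
  rw [map_smul, pi5_ap, hv, hv, hv, hv]
  linear_combination (norm := module) i5 • v

/-- the dihedral group of order ten -/
theorem rD (h2 : (2 : K) ≠ 0) (h5 : (5 : K) ≠ 0) {y x : Module.End K V} (hy : ∀ v, y (y (y (y (y v)))) = v)
    (hx : ∀ v, x (x v) = v) (hxy : ∀ v, y (x (y v)) = x v) {N : Submodule K V} (hNy : Inv y N) (hNx : Inv x N) :
    2 * dm (N ⊓ (E y 1 ⊓ E x (-1))) + 2 * dm (N ⊓ E x 1) = dm (N ⊓ E y 1) + dm N := by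
  have c1 : ∀ v, x (y v) = y (y (y (y (x v)))) := fun v => by rw [← hxy v, hy]
  have c2 : ∀ v, y (x v) = x (y (y (y (y v)))) := fun v => by rw [← hxy (y (y (y (y v)))), hy]
  have py := pi5_l hy
  have yp := pi5_r hy
  have px := pi5_x hy hxy
  have pf := pi5_fix h5 (y := y)
  let π := pi5 y
  have pN : Inv π N := fun v hv => add_mem (add_mem (add_mem (add_mem hv (hNy _ hv)) (hNy _ (hNy _ hv)))
    (hNy _ (hNy _ (hNy _ hv)))) (hNy _ (hNy _ (hNy _ (hNy _ hv))))
  have k1 : finrank K N = finrank K ↥(N ⊓ LinearMap.ker π) + finrank K ↥(N ⊓ E y 1) :=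
    split π (fun v => Iff.rfl) (fun v hv => ⟨pN v hv, mem_E1.2 (py v)⟩) fun u hu =>
      ⟨_, N.smul_mem _ hu.1, pf u (mem_E1.1 hu.2)⟩
  have k2 : finrank K ↥(N ⊓ E x 1) = finrank K ↥(N ⊓ LinearMap.ker π ⊓ E x 1) + finrank K ↥(N ⊓ E y 1 ⊓ E x 1) :=
    split π (fun v => ⟨fun h => ⟨⟨h.1.1, h.2⟩, h.1.2⟩, fun h => ⟨⟨h.1.1, h.2⟩, h.1.2⟩⟩)
      (fun v hv => ⟨⟨pN v hv.1, mem_E1.2 (py v)⟩, mem_E1.2 (by rw [← px, mem_E1.1 hv.2])⟩) fun u hu =>
      ⟨_, Submodule.smul_mem _ _ ⟨hu.1.1, hu.2⟩, pf u (mem_E1.1 hu.1.2)⟩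
  have iM : Inv x (N ⊓ LinearMap.ker π) := fun v hv =>
    ⟨hNx v hv.1, show π (x v) = 0 by rw [px, show π v = 0 from hv.2, map_zero]⟩
  have k3 := pm h2 hx iM
  have k4 := pm h2 hx (N := N ⊓ E y 1) fun v hv => ⟨hNx v hv.1, mem_E1.2 (by
    have h := mem_E1.1 hv.2
    rw [c2, h, h, h, h])⟩
  have k5 : ∀ c : K, finrank K ↥(N ⊓ LinearMap.ker π ⊓ E x c) ≤ finrank K ↥(N ⊓ LinearMap.ker π ⊓ E x (-c)) := by
    intro c
    have aq : ∀ v, (y - y * (y * (y * y)) : Module.End K V) v = y v - y (y (y (y v))) := fun v => rfl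
    refine le_of_inj (y - y * (y * (y * y))) (fun v hv => ?_) fun v hv h0 => ?_
    · rw [aq]
      refine ⟨⟨sub_mem (hNy _ hv.1.1) (hNy _ (hNy _ (hNy _ (hNy _ hv.1.1)))), ?_⟩, mem_E.2 ?_⟩
      · show π _ = 0
        rw [map_sub, yp, yp, yp, yp, yp, sub_self]
      · rw [map_sub, c1, ← c2, mem_E.1 hv.2]
        simp only [map_smul]
        module
    · rw [aq, sub_eq_zero] at h0
      have h1 : y (y v) = v := by rw [h0, hy]
      have h3 : y v = v := by rw [h0, h1, h1]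
      rw [← pf v h3, map_smul, show π v = 0 from hv.1.2, smul_zero]
  have k6 := k5 1
  have k7 := k5 (-1)
  rw [neg_neg] at k7
  simp only [dm_def] at k1 k2 k3 k4 k6 k7
  rw [← inf_assoc]
  omega

/-- elements of a group isomorphic to `A₅` -/
structure D5 [Fintype U] (x x₂ t y : U) : Prop where
  tet : Tet x x₂ t
  oy : orderOf y = 5
  xy : y * (x * y) = x
  card : Fintype.card U = 60
  ord : ∀ g : U, g ≠ 1 → (orderOf g).Prime
  c3 : IsConj (t * t) t
  c5 : ∀ g : U, orderOf g = 5 → IsConj y g ∨ IsConj (y * y) g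
  sum : ∀ F : U → ℚ, (∀ a b, IsConj a b → F a = F b) → F (y * y) = F y →
    ∑ g, F g = F 1 + 15 * F x + 20 * F t + 24 * F y

open Cfsg.Agent.H219.HerSmall Equiv in
/-- an element of order five -/
def y5 : alternatingGroup (Fin 5) := ⟨swap 4 0 * swap 0 2 * swap 2 3 * swap 3 1, by
  simp [Equiv.Perm.mem_alternatingGroup, Equiv.Perm.sign_swap']⟩

open Cfsg.Agent.H219.HerSmall in
theorem conj5 : ∀ g : alternatingGroup (Fin 5), g ≠ 1 → g ^ 5 = 1 →
    ∃ c : alternatingGroup (Fin 5), c * y5 * c⁻¹ = g ∨ c * (y5 * y5) * c⁻¹ = g := by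
  decide +kernel

open Cfsg.Agent.H219.HerSmall in
theorem d5_alt : D5 t2 (t3 * t2 * t3⁻¹) t3 y5 := by
  have : Fact (Nat.Prime 5) := ⟨by norm_num⟩
  have c5 : ∀ g : alternatingGroup (Fin 5), g ≠ 1 → g ^ 5 = 1 → IsConj y5 g ∨ IsConj (y5 * y5) g := fun g h1 h2 => by
    obtain ⟨c, h | h⟩ := conj5 g h1 h2
    · exact Or.inl (isConj_iff.2 ⟨c, h⟩)
    · exact Or.inr (isConj_iff.2 ⟨c, h⟩)
  refine ⟨⟨orderOf_eq_prime t2_sq t2_ne, by decide +kernel, by decide +kernel, rfl, by decide +kernel,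
    orderOf_eq_prime (by decide +kernel) (by decide +kernel)⟩, orderOf_eq_prime (by decide +kernel) (by decide +kernel),
    by decide +kernel, by decide +kernel, fun g hg => ?_, ?_, fun g hg => c5 g (fun e => ?_) (orderOf_dvd_iff_pow_eq_one.1 hg.dvd),
    fun F hF hy => ?_⟩
  · by_cases h2 : g ^ 2 = 1
    · rw [orderOf_eq_prime h2 hg]
      norm_num
    by_cases h3 : g ^ 3 = 1
    · rw [orderOf_eq_prime h3 hg]
      norm_num
    · rw [orderOf_eq_prime (all g hg h2 h3) hg]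
      norm_num
  · obtain ⟨c, hc⟩ := conj3 (t3 * t3) (by decide +kernel) (by decide +kernel)
    exact (isConj_iff.2 ⟨c, hc.symm⟩).symm
  · rw [e, orderOf_one] at hg
    omega
  · have h1 : ∀ g, F g = if g = 1 then F 1 else if g ^ 2 = 1 then F t2 else if g ^ 3 = 1 then F t3 else F y5 := by
      intro g
      split_ifs with h h' h''
      · rw [h]
      · obtain ⟨c, hc⟩ := conj2 g h h'
        exact (hF _ _ (isConj_iff.2 ⟨c, hc.symm⟩)).symm
      · obtain ⟨c, hc⟩ := conj3 g h h''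
        exact (hF _ _ (isConj_iff.2 ⟨c, hc.symm⟩)).symm
      · rcases c5 g h (all g h h' h'') with h3 | h3
        · exact (hF _ _ h3).symm
        · exact (hF _ _ h3).symm.trans hy
    rw [Finset.sum_congr rfl fun g _ => h1 g]
    rw [Finset.sum_ite, Finset.sum_ite, Finset.sum_ite, Finset.filter_filter, Finset.filter_filter, Finset.filter_filter,
      Finset.sum_const, Finset.sum_const, Finset.sum_const, Finset.sum_const, card1, card2, Finset.filter_filter,
      Finset.filter_filter, card3, card5]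
    simp only [nsmul_eq_mul]
    push_cast
    ring

theorem D5.map {U' : Type} [Group U'] [Fintype U] [Fintype U'] (e : U ≃* U') {x x₂ t y : U} (h : D5 x x₂ t y) :
    D5 (e x) (e x₂) (e t) (e y) := by
  refine ⟨⟨(e.orderOf_eq x).trans h.tet.o1, fun k => h.tet.ne (e.injective k), ?_, ?_, ?_,
    (e.orderOf_eq t).trans h.tet.o3⟩, (e.orderOf_eq y).trans h.oy, ?_, (Fintype.card_congr e.toEquiv).symm.trans h.card,
    fun g hg => ?_, ?_, fun g hg => ?_, fun F hF hy => ?_⟩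
  · rw [← map_mul, ← map_mul, h.tet.comm]
  · rw [← map_inv, ← map_mul, ← map_mul, h.tet.c1]
  · rw [← map_inv, ← map_mul, ← map_mul, h.tet.c2, map_mul]
  · rw [← map_mul, ← map_mul, h.xy]
  · obtain ⟨g, rfl⟩ := e.surjective g
    rw [e.orderOf_eq]
    exact h.ord g fun k => hg (by rw [k, map_one])
  · rw [← map_mul]
    exact e.toMonoidHom.map_isConj h.c3
  · obtain ⟨g, rfl⟩ := e.surjective g
    rw [e.orderOf_eq] at hg
    rw [← map_mul]
    exact (h.c5 g hg).imp e.toMonoidHom.map_isConj e.toMonoidHom.map_isConj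
  · have k := h.sum (fun g => F (e g)) (fun a b hab => hF _ _ (e.toMonoidHom.map_isConj hab)) (by
      simpa only [map_mul] using hy)
    rw [map_one] at k
    rw [← k]
    exact (Equiv.sum_comp e.toEquiv F).symm

theorem exists_D5 [Fintype U] (h : Nonempty (U ≃* alternatingGroup (Fin 5))) : ∃ x x₂ t y : U, D5 x x₂ t y :=
  h.elim fun e => ⟨_, _, _, _, d5_alt.map e.symm⟩

/-- the fixed spaces of `x`, `t`, `V`, `A₄`, `y`, the twisted `D₁₀` and `A₅` -/
def sq (l : U →* Module.End K V) (x x₂ t y : U) : ℕ → Submodule K V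
  | 0 => ⊤
  | 1 => E (l x) 1
  | 2 => E (l t) 1
  | 3 => E (l x) 1 ⊓ E (l x₂) 1
  | 4 => E (l x) 1 ⊓ E (l x₂) 1 ⊓ E (l t) 1
  | 5 => E (l y) 1
  | 6 => E (l y) 1 ⊓ E (l x) (-1)
  | _ => fx l Set.univ

theorem inv_fx {T : Type} [Group T] {g : Module.End K V} {l : T →* Module.End K V}
    (hc : ∀ u v, l u (g v) = g (l u v)) : Inv g (fx l Set.univ) := fun v hv u hu => by rw [hc, hv u hu]

theorem inv_sq {g : Module.End K V} {l : U →* Module.End K V} (hc : ∀ u v, l u (g v) = g (l u v)) (x x₂ t y : U)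
    (i : ℕ) : Inv g (sq l x x₂ t y i) := by
  unfold sq
  split
  · exact Inv.top g
  · exact inv_E (hc _) _
  · exact inv_E (hc _) _
  · exact (inv_E (hc _) _).inf (inv_E (hc _) _)
  · exact ((inv_E (hc _) _).inf (inv_E (hc _) _)).inf (inv_E (hc _) _)
  · exact inv_E (hc _) _
  · exact (inv_E (hc _) _).inf (inv_E (hc _) _)
  · exact inv_fx hc

/-- the relations between the dimensions -/
def Rel5 (n : ℕ → ℕ) : Prop :=
  n 0 + 2 * n 3 = 3 * n 1 ∧ n 0 + 2 * n 4 = n 1 + 2 * n 2 ∧ 2 * n 6 + 2 * n 1 = n 5 + n 0 ∧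
    n 1 + n 2 + n 5 = n 0 + 2 * n 7 ∧ n 7 ≤ n 4 ∧ n 4 ≤ n 3

theorem cast_ne {p : ℕ} [Fact p.Prime] (hp : 7 ≤ p) {n : ℕ} (h0 : 0 < n) (hn : n < 7) : (n : kb p) ≠ 0 := fun h =>
  absurd (Nat.le_of_dvd h0 ((CharP.cast_eq_zero_iff (kb p) p n).1 h)) (by omega)

theorem five_of_order {y : U} (h : orderOf y = 5) : y * (y * (y * (y * y))) = 1 := by
  rw [← pow_orderOf_eq_one y, h]
  simp only [pow_succ, pow_zero, one_mul, mul_assoc]

theorem E_sq {l : U →* Module.End K V} {y : U} (h : orderOf y = 5) : E (l (y * y)) 1 = E (l y) 1 := by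
  ext v
  rw [mem_E1, mem_E1, ← ap_mul]
  refine ⟨fun k => ?_, fun k => by rw [k, k]⟩
  have h1 : l y (l y (l y (l y (l y v)))) = v := by
    rw [ap_mul, ap_mul, ap_mul, ap_mul, mul_assoc, mul_assoc, mul_assoc, five_of_order h, ap_one]
  rwa [k, k] at h1

theorem rel5 {p : ℕ} [Fact p.Prime] (hp : 7 ≤ p) {V : Type} [AddCommGroup V] [Module (kb p) V]
    [FiniteDimensional (kb p) V] [Fintype U] (l : U →* Module.End (kb p) V) {x x₂ t y : U} (h : D5 x x₂ t y)
    {N : Submodule (kb p) V} (hN : ∀ g, Inv (l g) N) : Rel5 fun i => dm (N ⊓ sq l x x₂ t y i) := by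
  have h2 : (2 : kb p) ≠ 0 := by exact_mod_cast cast_ne hp two_pos (by norm_num)
  have h5 : (5 : kb p) ≠ 0 := by exact_mod_cast cast_ne hp (n := 5) (by norm_num) (by norm_num)
  have T := tet_to l h.tet
  obtain ⟨k1, k2, -, -⟩ := T.dims (hN t) h2 (hN x) (hN x₂)
  have k3 := T.fix (hN t) h2 (hN x) (hN x₂)
  have k4 := rD h2 h5 (y := l y) (x := l x) (fun v => by
    rw [ap_mul, ap_mul, ap_mul, ap_mul, mul_assoc, mul_assoc, mul_assoc, five_of_order h.oy, ap_one]) T.aa
    (fun v => by rw [ap_mul, ap_mul, mul_assoc, h.xy]) (hN y) (hN x)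
  have k5 : finrank (kb p) ↥(N ⊓ E (l x) 1 ⊓ E (l x₂) 1 ⊓ E (l t) 1) ≤ finrank (kb p) ↥(N ⊓ E (l x) 1 ⊓ E (l x₂) 1) :=
    Submodule.finrank_mono inf_le_left
  have k6 : finrank (kb p) ↥(N ⊓ fx l Set.univ) ≤ finrank (kb p) ↥(N ⊓ E (l x) 1 ⊓ E (l x₂) 1 ⊓ E (l t) 1) :=
    Submodule.finrank_mono fun v hv =>
      ⟨⟨⟨hv.1, mem_E1.2 (hv.2 _ trivial)⟩, mem_E1.2 (hv.2 _ trivial)⟩, mem_E1.2 (hv.2 _ trivial)⟩
  have k7 := artinN (p := p) (by
    rw [Nat.card_eq_fintype_card, h.card]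
    intro hd
    have hpp : p.Prime := Fact.out
    have h1 : p ∣ 2 * 2 * 3 * 5 := hd
    simp only [hpp.dvd_mul] at h1
    rcases h1 with ((h1 | h1) | h1) | h1 <;> exact absurd (Nat.le_of_dvd (by norm_num) h1) (by omega)) h.ord l hN
  have n1 : ∀ {g : U} {r : ℕ}, orderOf g = r → 1 < r → g ≠ 1 := fun hg hr e => by
    rw [e, orderOf_one] at hg
    omega
  have oyy : orderOf (y * y) = 5 := by
    rw [← pow_two, (h.oy.symm ▸ by norm_num : (orderOf y).Coprime 2).orderOf_pow, h.oy]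
  rw [h.sum _ (fun a b hab => by
    unfold omN
    have k := conj_eq l hN hab
    simp only [dm_def] at k
    obtain ⟨c, rfl⟩ := isConj_iff.1 hab
    have o : orderOf (c * a * c⁻¹) = orderOf a := (MulAut.conj c).orderOf_eq a
    rw [k, o]
    by_cases e : a = 1
    · rw [if_pos e, if_pos (conj_eq_one_iff.2 e)]
    · rw [if_neg e, if_neg fun e' => e (conj_eq_one_iff.1 e')]) (by
    unfold omN
    rw [if_neg (n1 oyy (by norm_num)), if_neg (n1 h.oy (by norm_num)), oyy, h.oy, E_sq h.oy]), h.card] at k7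
  unfold omN at k7
  rw [if_pos rfl, if_neg (n1 h.tet.o1 (by norm_num)), if_neg (n1 h.tet.o3 (by norm_num)),
    if_neg (n1 h.oy (by norm_num)), h.tet.o1, h.tet.o3, h.oy] at k7
  have k8 : dm (N ⊓ E (l x) 1) + dm (N ⊓ E (l t) 1) + dm (N ⊓ E (l y) 1) = dm N + 2 * dm (N ⊓ fx l Set.univ) := by
    have k9 : (dm (N ⊓ E (l x) 1) + dm (N ⊓ E (l t) 1) + dm (N ⊓ E (l y) 1) : ℚ) =
        dm N + 2 * dm (N ⊓ fx l Set.univ) := by
      push_cast at k7
      linarith
    exact_mod_cast k9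
  simp only [dm_def] at k1 k2 k3 k5 k6
  rw [← inf_assoc] at k4
  simp only [Rel5, sq, ← inf_assoc, inf_top_eq]
  omega

end Cfsg.Agent.Cam.E8O.A5
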