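import Cfsg.Agent.Cam.E8.OBasic
import Cfsg.Agent.Cam.Odd.E7B
import Cfsg.Agent.Cam.Ex.Asm
import Cfsg.Agent.Cam.Ex.PGrp

/-!
# S3690, the row `E₈`, odd characteristic: no involutions of class 2A in `T`, `A`, `B` (helper70)
-/

set_option autoImplicit false
set_option linter.unusedVariables false
set_option linter.unusedSectionVars false

namespace Cfsg.Agent.Cam.E8O.Asm

open Cfsg Cfsg.Lie Subgroup Module
open Cfsg.Agent.Cam.Spor Cfsg.Agent.Cam.Ex Cfsg.Agent.Cam.Ex.S2 Cfsg.Agent.Cam.Odd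
open Cfsg.Agent.H402.PSL2Cls (PSL)
open Cfsg.Agent.DS.Nt (dd ad Fx Tp)
open Cfsg.Agent.Nodes.RGDFoldSL (hS)

section cz

variable {k Y : Type} [Field k] [Group Y] {ψ : SL k →* Y}

theorem cz_mul {a b : Y} (ha : Cz ψ a) (hb : Cz ψ b) : Cz ψ (a * b) := fun g => by
  rw [mul_assoc, hb g, ← mul_assoc, ha g, mul_assoc]

theorem neg_center : (hS (-1) : SL k) ∈ center (SL k) := by
  have h : (-1 : k) ≠ 0 := neg_ne_zero.2 one_ne_zero
  exact mem_center_iff'.2 ⟨hS01 h, hS10 h, by rw [hS00 h, hS11 h, inv_neg, inv_one]⟩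

theorem cz_inv {a : Y} (ha : Cz ψ a) : Cz ψ a⁻¹ := fun g => (show Commute a (ψ g) from ha g).inv_left.eq

end cz

section tet

variable {U : Type} [Group U] {x₁ x₂ t : U}

theorem tet_o2 (h : Tet x₁ x₂ t) : orderOf x₂ = 2 := by rw [← h.c1, ord_conj, h.o1]

theorem tet_o3 (h : Tet x₁ x₂ t) : orderOf (x₁ * x₂) = 2 := by rw [← h.c2, ord_conj, tet_o2 h]

theorem mul_self_of {G : Type} [Group G] {u : G} (h : orderOf u = 2) : u * u = 1 := by rw [← pow_two, sq_of h]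

/-- the four-group -/
def V4 (h : Tet x₁ x₂ t) : Subgroup U where
  carrier := {1, x₁, x₂, x₁ * x₂}
  one_mem' := Or.inl rfl
  mul_mem' := by
    have h1 := mul_self_of h.o1
    have h2 := mul_self_of (tet_o2 h)
    have h3 := mul_self_of (tet_o3 h)
    have h4 : x₁ * (x₁ * x₂) = x₂ := by rw [← mul_assoc, h1, one_mul]
    have h5 : x₂ * (x₁ * x₂) = x₁ := by rw [h.comm, ← mul_assoc, h2, one_mul]
    have h6 : x₁ * x₂ * x₁ = x₂ := by rw [h.comm, mul_assoc, h1, mul_one]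
    have h7 : x₁ * x₂ * x₂ = x₁ := by rw [mul_assoc, h2, mul_one]
    rintro a b (rfl | rfl | rfl | rfl) (rfl | rfl | rfl | rfl) <;>
      simp only [one_mul, mul_one, h1, h2, h3, h4, h5, h6, h7, ← h.comm, Set.mem_insert_iff, Set.mem_singleton_iff,
        true_or, or_true]
  inv_mem' := by
    rintro a (rfl | rfl | rfl | rfl)
    · exact Or.inl inv_one
    · exact Or.inr (Or.inl (inv_eq_of_mul_eq_one_right (mul_self_of h.o1)))
    · exact Or.inr (Or.inr (Or.inl (inv_eq_of_mul_eq_one_right (mul_self_of (tet_o2 h)))))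
    · exact Or.inr (Or.inr (Or.inr (inv_eq_of_mul_eq_one_right (mul_self_of (tet_o3 h)))))

theorem mem_V4 (h : Tet x₁ x₂ t) {a : U} : a ∈ V4 h ↔ a ∈ ({1, x₁, x₂, x₁ * x₂} : Set U) := Iff.rfl

theorem card_V4 (h : Tet x₁ x₂ t) : Nat.card (V4 h) = 4 := by
  have h1 := ne_of h.o1
  have h2 := ne_of (tet_o2 h)
  have h3 := ne_of (tet_o3 h)
  have h4 : x₁ ≠ x₁ * x₂ := fun e => h2 (by simpa using e)
  have h5 : x₂ ≠ x₁ * x₂ := fun e => h1 (by simpa using e)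
  change Nat.card ({1, x₁, x₂, x₁ * x₂} : Set U) = 4
  rw [Nat.card_coe_set_eq, Set.ncard_insert_of_notMem (by simp [h1.symm, h2.symm, h3.symm]),
    Set.ncard_insert_of_notMem (by simp [h.ne, h4]), Set.ncard_pair h5]

theorem ord_V4 (h : Tet x₁ x₂ t) {a : U} (ha : a ∈ ({1, x₁, x₂, x₁ * x₂} : Set U)) : a = 1 ∨ orderOf a = 2 := by
  rcases ha with rfl | rfl | rfl | rfl
  exacts [Or.inl rfl, Or.inr h.o1, Or.inr (tet_o2 h), Or.inr (tet_o3 h)]

theorem conj_V4 (h : Tet x₁ x₂ t) {a : U} (ha : a ∈ ({1, x₁, x₂, x₁ * x₂} : Set U)) :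
    a = 1 ∨ ∃ g, a = g * x₁ * g⁻¹ := by
  rcases ha with rfl | rfl | rfl | rfl
  · exact Or.inl rfl
  · exact Or.inr ⟨1, by group⟩
  · exact Or.inr ⟨t, h.c1.symm⟩
  · exact Or.inr ⟨t * t, by rw [← h.c2, ← h.c1]; group⟩

end tet

variable {p : ℕ} [Fact p.Prime] {L : Type} [Group L] [Finite L] {U : Type} [Group U] [Finite U]

/-- a simple subgroup of `PSL₂(k)`: every involution lies in a four-group of conjugates -/
theorem three_conj (h2 : p ≠ 2) (hs : IsSimpleGroup U) (hn : ¬ IsMulCommutative U) {f : U →* PSL (kb p)}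
    (hf : Function.Injective f) {u : U} (hu : orderOf u = 2) :
    ∃ g g' : U, g * u * g⁻¹ ≠ u ∧ g * u * g⁻¹ * u = u * (g * u * g⁻¹) ∧ g * u * g⁻¹ * u = g' * u * g'⁻¹ := by
  obtain ⟨h1, x₁, x₂, t, ht⟩ : (∀ u v : U, orderOf u = 2 → orderOf v = 2 → IsConj u v) ∧ ∃ x₁ x₂ t : U, Tet x₁ x₂ t := by
    rcases Grp.con_of_inj p h2 hs hn f hf with h | ⟨h, -⟩
    all_goals
      obtain ⟨h1, -, x₁, x₂, t, ht, -⟩ := h
      exact ⟨h1, x₁, x₂, t, ht⟩
  obtain ⟨c, hc⟩ := isConj_iff.1 (h1 x₁ u ht.o1 hu)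
  have h3 := ht.map (f := (MulAut.conj c).toMonoidHom) (MulAut.conj c).injective
  have e : (MulAut.conj c).toMonoidHom x₁ = u := hc
  rw [e] at h3
  refine ⟨(MulAut.conj c).toMonoidHom t, (MulAut.conj c).toMonoidHom t * (MulAut.conj c).toMonoidHom t, ?_, ?_, ?_⟩
  · rw [h3.c1]
    exact h3.ne.symm
  · rw [h3.c1, h3.comm]
  · rw [h3.c1, ← h3.comm, ← h3.c2, ← h3.c1]
    group

theorem ord_ι (E : Fr8 p L) (x : L) : orderOf (E.ι x) = orderOf x := orderOf_injective _ E.inj x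

theorem ι_comm (E : Fr8 p L) {x y : L} (h : x * y = y * x) : E.ι x * E.ι y = E.ι y * E.ι x := map_comm _ h

theorem dd2L (E : Fr8 p L) (h2 : p ≠ 2) {x : L} (hx : orderOf x = 2) : dd p (E.ι x) = 120 ∨ dd p (E.ι x) = 136 :=
  dd2 h2 (map_sq _ (sq_of hx)) (map_ne E.inj (ne_of hx))

/-- `q8` in `L` -/
theorem q8L (E : Fr8 p L) {x : L} {ψ : SL (kb p) →* Y8 p} (h : JA p (E.ι x) ψ) {y : L} (hy : orderOf y = 2)
    (hne : y ≠ x) (hc : y * x = x * y) : Cz ψ (E.ι y) ↔ dd p (E.ι (y * x)) ≠ dd p (E.ι y) := by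
  rw [map_mul]
  exact h.q8 _ (by rw [ord_ι, hy]) (fun e => hne (E.inj e)) (ι_comm E hc)

/-- an element commuting with a perfect group that acts non-trivially on the root `SL₂` -/
theorem czL (E : Fr8 p L) {x : L} {ψ : SL (kb p) →* Y8 p} (h : JA p (E.ι x) ψ) {J : Subgroup L} (hJ : ⁅J, J⁆ = J)
    (hx : ∀ j ∈ J, j * x = x * j) (hn : ¬ ∀ j ∈ J, Cz ψ (E.ι j)) {n : L} (h1 : n * x = x * n)
    (h3 : ∀ j ∈ J, n * j = j * n) : Cz ψ (E.ι n) := by
  obtain ⟨s, hs⟩ := h.inn _ (ι_comm E h1)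
  refine h.ck.cz_of_perfect (R := J.map E.ι) (by rw [← map_commutator, hJ]) ?_ (fun h4 => hn fun j hj => h4 _ ⟨j, hj, rfl⟩)
    hs ?_
  · rintro _ ⟨j, hj, rfl⟩
    exact h.inn _ (ι_comm E (hx j hj))
  · rintro _ ⟨j, hj, rfl⟩
    exact ι_comm E (h3 j hj)

variable {τ α β : U →* L} {R R' D : Subgroup L}

/-- an element normalizing `T R` and centralizing a non-trivial element of `T` normalizes `R` -/
theorem norm_R (c : Core τ α β R R') {s : L} (hs : s ∈ normalizer ((τ.range ⊔ R : Subgroup L) : Set L)) {u : U}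
    (hu : u ≠ 1) (hc : s * τ u = τ u * s) : ∀ n ∈ R, s * n * s⁻¹ ∈ R := by
  have hcm : ∀ x ∈ τ.range, ∀ r ∈ R, x * r = r * x := by
    rintro _ ⟨v, rfl⟩ r hr
    exact c.pair.comm v r hr
  have hT : ∀ y ∈ τ.range ⊔ R, ∀ x ∈ τ.range, y * x * y⁻¹ ∈ τ.range := by
    intro y hy x hx
    obtain ⟨a, ha, r, hr, rfl⟩ := mem_sup_of_comm hcm hy
    have e : a * r * x * (a * r)⁻¹ = a * x * a⁻¹ := by
      rw [mul_assoc a r x, ← hcm x hx r hr]
      group
    rw [e]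
    exact mul_mem (mul_mem ha hx) (inv_mem ha)
  -- `s⁻¹ T s ≤ T`
  have h1 : τ.range ⊓ τ.range.comap (MulAut.conj s⁻¹).toMonoidHom = τ.range := by
    refine (eq_bot_or_eq (range_simple c.simple c.pair.inj) inf_le_left fun a ha n hn => ?_).resolve_left fun e => ?_
    · refine ⟨τ.range.mul_mem (τ.range.mul_mem ha hn.1) (τ.range.inv_mem ha), ?_⟩
      have h2 := hT _ (conj_mem_of_norm (inv_mem hs) (mem_sup_left ha)) _ hn.2
      change s⁻¹ * (a * n * a⁻¹) * s⁻¹⁻¹ ∈ τ.range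
      convert h2 using 1
      change _ = s⁻¹ * a * s⁻¹⁻¹ * (s⁻¹ * n * s⁻¹⁻¹) * (s⁻¹ * a * s⁻¹⁻¹)⁻¹
      group
    · have h2 : τ u ∈ τ.range ⊓ τ.range.comap (MulAut.conj s⁻¹).toMonoidHom := by
        refine ⟨⟨u, rfl⟩, ⟨u, ?_⟩⟩
        change τ u = s⁻¹ * τ u * s⁻¹⁻¹
        rw [mul_assoc, inv_inv, ← hc, inv_mul_cancel_left]
      rw [e, mem_bot] at h2
      exact map_ne c.pair.inj hu h2
  intro n hn
  obtain ⟨_, ⟨v, rfl⟩, r, hr, e⟩ := mem_sup_of_comm hcm (conj_mem_of_norm hs (mem_sup_right hn))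
  have h3 : v = 1 := eq_one_of_comm c.simple c.noncomm fun w => c.pair.inj (by
    have h4 : s⁻¹ * τ w * s⁻¹⁻¹ ∈ τ.range := (h1.ge ⟨w, rfl⟩).2
    have h5 := hcm _ h4 n hn
    have h6 : τ v = s * n * s⁻¹ * r⁻¹ := by rw [e]; group
    have h7 := c.pair.comm w r⁻¹ (inv_mem hr)
    rw [map_mul, map_mul, h6]
    calc s * n * s⁻¹ * r⁻¹ * τ w = s * (n * (s⁻¹ * τ w * s⁻¹⁻¹)) * s⁻¹ * r⁻¹ := by
          rw [mul_assoc _ r⁻¹, ← h7]; group
      _ = _ := by rw [← h5]; group)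
  rw [e, h3, map_one, one_mul]
  exact hr

/-- **O1**: no involution of class 2A in `T` -/
theorem tau2 (j : BoxJ) (h2 : p ≠ 2) (E : Fr8 p L) (c : Core8 τ α β R R' D) {u : U} (hu : orderOf u = 2) :
    dd p (E.ι (τ u)) = 120 := by
  have co := c.toCore
  have hx : orderOf (τ u) = 2 := by rw [co.pair.orderOf_eq, hu]
  refine (dd2L E h2 hx).resolve_right fun hd => ?_
  obtain ⟨ψ, hj, hxn⟩ := j p h2 L E (τ u) hx hd
  have hz : Cz ψ (E.ι (τ u)) := fun g => by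
    rw [← hj.ctr, ← map_mul, ← map_mul, mem_center_iff.1 neg_center g]
  have hXx : ∀ s : L, E.ι s ∈ ψ.range → s * τ u = τ u * s := by
    rintro s ⟨g, hg⟩
    apply E.inj
    rw [map_mul, map_mul, ← hg, hz g]
  by_cases hR : ∀ r ∈ R, Cz ψ (E.ι r)
  · -- `R` centralizes the root `SL₂`
    have hX : ψ.range.comap E.ι ≤ centralizer (R : Set L) := by
      rintro s ⟨g, hg⟩
      refine mem_centralizer_iff.2 fun r hr => E.inj ?_
      rw [map_mul, map_mul, ← hg, hR r hr g]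
    have hN : ∀ s, E.ι s ∈ ψ.range → ∀ n ∈ τ.range, s * n * s⁻¹ ∈ τ.range := fun s hs n hn =>
      conj_mem_of_norm (co.pair.cnorm (hX hs)) hn
    obtain ⟨n, hn, hnx, hnc⟩ : ∃ n ∈ τ.range, n * τ u = τ u * n ∧ ¬ Cz ψ (E.ι n) := by
      obtain ⟨g, hg1, hg2⟩ := Grp.boxGrp.zs U co.simple co.noncomm u hu
      by_cases h3 : Cz ψ (E.ι (τ (g * u * g⁻¹)))
      · rw [map_conj', map_conj'] at h3
        have h4 := hj.far (E.ι (τ g)) (fun e => hg1 (co.pair.inj (E.inj (by rw [map_conj', map_conj', e])))) h3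
        obtain ⟨w, ⟨s, hs⟩, hw⟩ := hxn.ex
        have h5 : Cz ψ (E.ι (τ g * w * (τ g)⁻¹)) := by
          rw [map_conj', ← hs]
          exact h4 s
        refine ⟨w⁻¹ * (τ g * w * (τ g)⁻¹), ?_, ?_, fun h6 => hw ?_⟩
        · have h6 := hN w⁻¹ (by rw [map_inv]; exact inv_mem ⟨s, hs⟩) _ ⟨g, rfl⟩
          have h7 := mul_mem h6 (inv_mem (⟨g, rfl⟩ : τ g ∈ τ.range))
          convert h7 using 1
          group
        · have h6 : τ g * w * (τ g)⁻¹ * τ u = τ u * (τ g * w * (τ g)⁻¹) := by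
            apply E.inj
            rw [map_mul E.ι _ (τ u), map_mul E.ι (τ u), ← hj.ctr]
            exact h5 _
          have h7 : w⁻¹ * τ u = τ u * w⁻¹ := hXx _ (by rw [map_inv]; exact inv_mem ⟨s, hs⟩)
          rw [mul_assoc, h6, ← mul_assoc, h7, mul_assoc]
        · have h7 := cz_inv (cz_mul h6 (cz_inv h5))
          rwa [map_mul, mul_inv_cancel_right, map_inv, inv_inv] at h7
      · exact ⟨_, ⟨_, rfl⟩, map_comm τ hg2.symm, h3⟩
    obtain ⟨-, _, ⟨v, rfl⟩, _, ⟨v', rfl⟩, hv, hv', hne⟩ := hxn.nrm τ.range hN n hn hnx hnc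
    refine hne (map_comm τ (P.comm_of co hX (Q := {u}) (by rintro _ rfl _ rfl; rfl) (fun d hd y hy => ?_) hv hv'))
    obtain ⟨s, hs⟩ := hj.inn (E.ι (α d)) (ι_comm E (mem_centralizer_singleton_iff.1 (co.alpha_mem_cent (hd u rfl))))
    obtain ⟨g, hg⟩ := hy
    exact ⟨s * g * s⁻¹, by rw [map_conj' E.ι, ← hg, hs g]⟩
  · have hRx : ∀ r ∈ R, r * τ u = τ u * r := fun r hr => (co.pair.comm u r hr).symm
    by_cases hf : ∃ f : U →* PSL (kb p), Function.Injective f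
    · obtain ⟨f, hf⟩ := hf
      obtain ⟨g, g', h3, h4, h5⟩ := three_conj h2 co.simple co.noncomm hf hu
      have h6 := czL E hj co.pair.perfect hRx hR (map_comm τ h4) (co.pair.comm _)
      rw [q8L E hj (by rw [co.pair.orderOf_eq, ord_conj, hu]) (fun e => h3 (co.pair.inj e)) (map_comm τ h4),
        ← map_mul, h5, map_conj', map_conj' τ, dd_conjL, dd_conjL] at h6
      exact h6 rfl
    · let D₀ : Subgroup L := sSup {A | ∃ φ : U →* L, Function.Injective φ ∧ (∀ v, φ v ∈ D) ∧ A = φ.range}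
      have hD : D₀ ≤ D := sSup_le (by
        rintro _ ⟨φ, -, h3, rfl⟩ _ ⟨v, rfl⟩
        exact h3 v)
      have hC : ∀ s : L, E.ι s ∈ ψ.range → s ∈ centralizer (D₀ : Set L) := by
        rintro s ⟨g, hg⟩
        have h3 : D₀ ≤ centralizer {s} := sSup_le (by
          rintro _ ⟨φ, h4, h3, rfl⟩ _ ⟨v, rfl⟩
          have h5 : Cz ψ (E.ι (φ v)) := by
            by_contra h6
            exact hf (Grp.exists_inj co.simple ψ (E.ι.comp φ) hj.ck
              (fun w => hj.inn _ (ι_comm E (hRx _ (c.le (h3 w))))) ⟨v, h6⟩)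
          refine mem_centralizer_singleton_iff.2 (E.inj ?_)
          rw [map_mul, map_mul, ← hg, h5 g])
        exact mem_centralizer_iff.2 fun d hd => mem_centralizer_singleton_iff.1 (h3 hd)
      have hle : ∀ θ : MulAut L, D.map θ.toMonoidHom = D → D₀.map θ.toMonoidHom ≤ D₀ := fun θ hθ => by
        rw [map_le_iff_le_comap]
        refine sSup_le ?_
        rintro _ ⟨φ, h4, h3, rfl⟩ _ ⟨v, rfl⟩
        exact le_sSup (s := {A | ∃ φ : U →* L, Function.Injective φ ∧ (∀ v, φ v ∈ D) ∧ A = φ.range})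
          ⟨θ.toMonoidHom.comp φ, θ.injective.comp h4, fun w => hθ ▸ ⟨φ w, h3 w, rfl⟩, rfl⟩ ⟨v, rfl⟩
      have hmax := c.max8 (normalizer (D₀ : Set L)) (fun e => by
          have h3 : D₀.Normal := normalizer_eq_top_iff.1 e
          have := E.simple
          rcases h3.eq_bot_or_eq_top with h4 | h4
          · obtain ⟨φ, h5, h6⟩ := c.cpy
            have h7 : φ u ∈ D₀ := le_sSup (s := {A | ∃ φ : U →* L, Function.Injective φ ∧ (∀ v, φ v ∈ D) ∧ A = φ.range})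
              ⟨φ, h5, h6, rfl⟩ ⟨u, rfl⟩
            rw [h4, mem_bot] at h7
            exact map_ne h5 (ne_of hu) h7
          · exact ne_of hu (co.pair.eq_one_of_mem co.simple co.noncomm (c.le (hD (h4 ▸ mem_top _)))))
        (fun θ h3 _ => by
          have h4 : D₀.map θ.toMonoidHom = D₀ := Subgroup.eq_of_le_of_card_ge (hle θ h3)
            (by rw [card_map_of_injective θ.injective])
          ext y
          obtain ⟨y, rfl⟩ := θ.surjective y
          rw [mem_map_equiv', ← mem_normalizer_equiv θ, h4])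
      push Not at hR
      obtain ⟨r, hr, hr'⟩ := hR
      exact ne_of hu (co.pair.eq_one_of_mem co.simple co.noncomm (hxn.nrm R (fun s hs => norm_R co
        (hmax (centralizer_le_normalizer _ (hC s hs))) (ne_of hu) (hXx s hs)) r hr (hRx r hr) hr').1)

theorem alpha_eq (E : Fr8 p L) (c : Core τ α β R R') :
    ∃ ψ : U →* U, Function.Injective ψ ∧ ∀ u, dd p (E.ι (α u)) = dd p (E.ι (τ (ψ u))) := by
  obtain ⟨θ, ψ, h1, h3⟩ := exists_cmp c
  exact ⟨ψ, h1, fun u => by rw [← h3, (ext8 E θ).1]⟩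

theorem alpha2 (j : BoxJ) (h2 : p ≠ 2) (E : Fr8 p L) (c : Core8 τ α β R R' D) {u : U} (hu : orderOf u = 2) :
    dd p (E.ι (α u)) = 120 := by
  obtain ⟨ψ, h1, h3⟩ := alpha_eq E c.toCore
  rw [h3, tau2 j h2 E c (by rw [orderOf_injective ψ h1, hu])]

/-- **O2**: no involution of class 2A in `B` -/
theorem beta2 (j : BoxJ) (h2 : p ≠ 2) (E : Fr8 p L) (c : Core8 τ α β R R' D) {u : U} (hu : orderOf u = 2) :
    dd p (E.ι (β u)) = 120 := by
  have co := c.toCore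
  have hx : orderOf (β u) = 2 := by rw [orderOf_injective β co.binj, hu]
  refine (dd2L E h2 hx).resolve_right fun hd => ?_
  obtain ⟨ψ, hj, -⟩ := j p h2 L E (β u) hx hd
  have h3 : ¬ Cz ψ (E.ι (α u)) := by
    rw [q8L E hj (by rw [co.pair'.orderOf_eq, hu]) (fun e => ne_of hu (alpha_eq_beta co e).1) (co.ab u u), ← co.eq,
      tau2 j h2 E c hu, alpha2 j h2 E c hu]
    exact fun h => h rfl
  obtain ⟨f, hf⟩ := Grp.exists_inj co.simple ψ (E.ι.comp α) hj.ck (fun w => hj.inn _ (ι_comm E (co.ab w u))) ⟨u, h3⟩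
  obtain ⟨g, g', h4, h5, h6⟩ := three_conj h2 co.simple co.noncomm hf hu
  have h7 := czL E hj (range_perfect co.simple co.noncomm α) (by rintro _ ⟨w, rfl⟩; exact co.ab w u)
    (fun h => h3 (h _ ⟨u, rfl⟩)) (map_comm β h5) (by rintro _ ⟨w, rfl⟩; exact (co.ab w _).symm)
  rw [q8L E hj (by rw [orderOf_injective β co.binj, ord_conj, hu]) (fun e => h4 (co.binj e)) (map_comm β h5),
    ← map_mul, h6, map_conj', map_conj' β, dd_conjL, dd_conjL] at h7
  exact h7 rfl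

/-- the mixed products are of class 2B -/
theorem mix2 (j : BoxJ) (h2 : p ≠ 2) (E : Fr8 p L) {a : U →* L} {x₁ x₂ t : U} (ht : Tet x₁ x₂ t) {y : L}
    (ha : ∀ u, orderOf u = 2 → dd p (E.ι (a u)) = 120) (hy : orderOf y = 2) (hd : dd p (E.ι y) = 120)
    (hc : ∀ u, a u * y = y * a u) (hne : ∀ u, a u ≠ y) : dd p (E.ι (a x₁ * y)) = 120 := by
  have ho : ∀ u, orderOf u = 2 → orderOf (a u) = 2 := fun u hu => by
    have := Fact.mk Nat.prime_two
    refine orderOf_eq_prime (map_sq _ (sq_of hu)) fun e => ?_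
    have h3 := ha u hu
    rw [e, map_one, dd_one] at h3
    omega
  have hz := ord_mul (ho _ ht.o1) hy (hne _) (hc _)
  refine (dd2L E h2 hz).resolve_right fun h3 => ?_
  obtain ⟨ψ, hj, -⟩ := j p h2 L E _ hz h3
  have hcj : ∀ g, dd p (E.ι (a (g * x₁ * g⁻¹) * y)) = 136 := fun g => by
    rw [← h3, ← dd_conjL E (a g) (a x₁ * y), map_conj', mul_assoc (a g * a x₁), ← map_inv, hc, map_inv]
    congr 2
    group
  have key : ∀ u, orderOf u = 2 → u * x₁ = x₁ * u →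
      (Cz ψ (E.ι (a u)) ↔ dd p (E.ι (a (u * x₁) * y)) ≠ 120) := fun u hu h4 => by
    rw [q8L E hj (ho u hu) (fun e => by
        have h5 := ha u hu
        rw [e, h3] at h5
        omega) (by rw [← mul_assoc, ← map_mul, h4, map_mul, mul_assoc, mul_assoc, hc]), ← mul_assoc, ← map_mul, ha u hu]
  have h4 : Cz ψ (E.ι (a x₂)) := by
    rw [key _ (tet_o2 ht) ht.comm.symm, ← ht.comm, ← ht.c2, ← ht.c1, show t * (t * x₁ * t⁻¹) * t⁻¹ =
      t * t * x₁ * (t * t)⁻¹ by group, hcj]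
    omega
  have h6 : x₁ * x₂ * x₁ = x₂ := by rw [ht.comm, mul_assoc, mul_self_of ht.o1, mul_one]
  have h5 : Cz ψ (E.ι (a (x₁ * x₂))) := by
    rw [key _ (tet_o3 ht) (by rw [mul_assoc, ← ht.comm]), h6, ← ht.c1, hcj]
    omega
  have h7 := cz_mul h5 h4
  rw [← map_mul, ← map_mul, mul_assoc, mul_self_of (tet_o2 ht), mul_one, key _ ht.o1 rfl, mul_self_of ht.o1, map_one,
    one_mul] at h7
  exact h7 hd

end Cfsg.Agent.Cam.E8O.Asm
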