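import Cfsg.Agent.Cam.E8.OAsmA

/-!
# S3690, the row `E₈`, odd characteristic: the component is `A₅` and has no fixed vector (helper70)
-/

set_option autoImplicit false
set_option linter.unusedVariables false
set_option linter.unusedSectionVars false

namespace Cfsg.Agent.Cam.E8O.Asm

open Cfsg Cfsg.Lie Subgroup Module
open Cfsg.Agent.Cam.Spor Cfsg.Agent.Cam.Ex Cfsg.Agent.Cam.Ex.S2 Cfsg.Agent.Cam.Odd
open Cfsg.Agent.H402.PSL2Cls (PSL)
open Cfsg.Agent.DS.NT (ev)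
open Cfsg.Agent.DS.Nt (dd ad Fx Tp)

variable {p : ℕ} [Fact p.Prime] {L : Type} [Group L] [Finite L] {U : Type} [Group U] [Finite U]

section prod

variable {V : Type} [Group V] {a : U →* L} {b : V →* L}

/-- the product of two commuting homomorphisms -/
def pr (a : U →* L) (b : V →* L) (h : ∀ u v, a u * b v = b v * a u) : U × V →* L := a.noncommCoprod b h

theorem pr_apply (h : ∀ u v, a u * b v = b v * a u) (u : U) (v : V) : pr a b h (u, v) = a u * b v := rfl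

theorem pr_l (h : ∀ u v, a u * b v = b v * a u) (u : U) : pr a b h (u, 1) = a u := by rw [pr_apply, map_one, mul_one]

theorem pr_r (h : ∀ u v, a u * b v = b v * a u) (v : V) : pr a b h (1, v) = b v := by rw [pr_apply, map_one, one_mul]

theorem eq_one_of_eq (hs : IsSimpleGroup U) (hn : ¬ IsMulCommutative U) (ha : Function.Injective a) {u : U} {y : L}
    (hc : ∀ w, a w * y = y * a w) (e : a u = y) : u = 1 :=
  eq_one_of_comm hs hn fun w => ha (by rw [map_mul, map_mul, e, hc])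

theorem pr_inj (hs : IsSimpleGroup U) (hn : ¬ IsMulCommutative U) (ha : Function.Injective a)
    (hb : Function.Injective b) (h : ∀ u v, a u * b v = b v * a u) : Function.Injective (pr a b h) := by
  rw [injective_iff_map_eq_one]
  rintro ⟨u, v⟩ e
  rw [pr_apply] at e
  have h1 : u = 1 := eq_one_of_eq hs hn ha (fun w => h w v⁻¹) (by rw [map_inv]; exact eq_inv_of_mul_eq_one_left e)
  rw [h1, map_one, one_mul] at e
  rw [h1, (map_eq_one_iff b hb).1 e]
  rfl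

end prod

/-- two commuting copies whose involutions are of class 2B -/
theorem pt_of (j : BoxJ) (h2 : p ≠ 2) (E : Fr8 p L) (hs : IsSimpleGroup U) (hn : ¬ IsMulCommutative U) {a b : U →* L}
    (ha : Function.Injective a) (hb : Function.Injective b) (h : ∀ u v, a u * b v = b v * a u)
    (da : ∀ u, orderOf u = 2 → dd p (E.ι (a u)) = 120) (db : ∀ u, orderOf u = 2 → dd p (E.ι (b u)) = 120)
    {x₁ x₂ t : U} (ht : Tet x₁ x₂ t) : PT p (E.ι.comp (pr a b h)) x₁ x₂ t := by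
  refine ⟨E.inj.comp (pr_inj hs hn ha hb h), ht, fun u hu v hv hne => ?_⟩
  change dd p (E.ι (pr a b h (u, v))) = 120
  rcases ord_V4 ht hv with rfl | hv'
  · rw [pr_l]
    exact da u ((ord_V4 ht hu).resolve_left fun e => hne (by rw [e]; rfl))
  rcases conj_V4 ht hu with rfl | ⟨g, rfl⟩
  · rw [pr_r]
    exact db v hv'
  have h3 := mix2 j h2 E ht da (y := b v) (by rw [orderOf_injective b hb, hv']) (db v hv') (fun w => h w v) fun w e => by
    have h4 := eq_one_of_eq hs hn ha (fun w => h w v) e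
    rw [h4, map_one] at e
    exact map_ne hb (ne_of hv') e.symm
  rw [pr_apply, ← h3, ← dd_conjL E (a g) (a x₁ * b v), map_conj', mul_assoc (a g * a x₁), ← map_inv, h, map_inv]
  congr 2
  group

/-- no perfect group centralizes a pure group `V × V` -/
theorem pt_cent (h2 : p ≠ 2) {μ : U × U →* Y8 p} {x₁ x₂ t : U} (h : PT p μ x₁ x₂ t) {J : Subgroup (Y8 p)}
    (hJ : ⁅J, J⁆ = J) (hc : ∀ g, ∀ y ∈ J, y * μ g = μ g * y) : J = ⊥ := by
  refine pure16 h2 (Q := ((V4 h.tet).prod (V4 h.tet)).map μ) ?_ ?_ ?_ hJ ?_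
  · rw [card_map_of_injective h.inj, Nat.card_congr (prodEquiv _ _).toEquiv, Nat.card_prod, card_V4]
  · rintro _ ⟨⟨u, v⟩, ⟨hu, hv⟩, rfl⟩
    have h1 : ∀ w ∈ V4 h.tet, w ^ 2 = 1 := fun w hw => by
      rcases ord_V4 h.tet hw with rfl | h3
      exacts [one_pow 2, sq_of h3]
    rw [← map_pow, Prod.pow_mk, h1 u hu, h1 v hv]
    exact map_one μ
  · rintro _ ⟨⟨u, v⟩, ⟨hu, hv⟩, rfl⟩ h1
    exact h.pure u hu v hv fun e => h1 (by rw [e, map_one])
  · rintro _ ⟨g, -, rfl⟩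
    exact mem_centralizer_iff.2 (hc g)

variable {τ α β : U →* L} {R R' D : Subgroup L}

theorem rank2 (B : Boxes) (h2 : p ≠ 2) (E : Fr8 p L) (c : Core8 τ α β R R' D) : PRankLE 2 2 U := by
  by_contra h
  have h' := h
  unfold PRankLE at h'
  push Not at h'
  obtain ⟨A, h1, h3, h4⟩ := h'
  have := Fact.mk Nat.prime_two
  have hA : IsPGroup 2 A := fun x => ⟨1, Subtype.ext (by rw [pow_one]; exact h3 x x.2)⟩
  obtain ⟨n, hn⟩ := hA.exists_card_eq
  have h5 : 2 ^ 3 ∣ Nat.card A := by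
    rw [hn] at h4 ⊢
    exact pow_dvd_pow 2 ((Nat.pow_lt_pow_iff_right (by norm_num)).1 h4)
  obtain ⟨K, hK⟩ := Sylow.exists_subgroup_card_pow_prime 2 h5
  obtain ⟨φ, h6, h7⟩ := c.pair.copy
  have hi : Function.Injective ((E.ι.comp τ).comp A.subtype) := (E.inj.comp c.pair.inj).comp A.subtype_injective
  refine h (B.p3 p h2 (K.map ((E.ι.comp τ).comp A.subtype)) (by rw [card_map_of_injective hi, hK]; rfl) ?_ ?_ U c.simple
    c.noncomm (E.ι.comp φ) (E.inj.comp h6) ?_)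
  · rintro _ ⟨x, -, rfl⟩
    exact map_sq _ (Subtype.ext (h3 x x.2))
  · rintro _ ⟨x, -, rfl⟩ h8
    exact tau2 B.j h2 E c (orderOf_eq_prime (h3 x x.2) fun e => h8 (by rw [show x = 1 from Subtype.ext e, map_one]))
  · rintro u _ ⟨x, -, rfl⟩
    exact ι_comm E (c.pair.comm _ _ (h7 u)).symm

/-- the product map of a core -/
noncomputable def mu (E : Fr8 p L) (c : Core τ α β R R') : U × U →* Y8 p := E.ι.comp (pr α β c.ab)

theorem mu_apply (E : Fr8 p L) (c : Core τ α β R R') (u v : U) : mu E c (u, v) = E.ι (α u * β v) := rfl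

theorem mu_a (E : Fr8 p L) (c : Core τ α β R R') (u : U) : mu E c (u, 1) = E.ι (α u) := congrArg E.ι (pr_l _ u)

theorem mu_b (E : Fr8 p L) (c : Core τ α β R R') (u : U) : mu E c (1, u) = E.ι (β u) := congrArg E.ι (pr_r _ u)

theorem mu_t (E : Fr8 p L) (c : Core τ α β R R') (u : U) : mu E c (u, u) = E.ι (τ u) := by rw [mu_apply, c.eq]

theorem pt_mu (B : Boxes) (h2 : p ≠ 2) (E : Fr8 p L) (c : Core8 τ α β R R' D) {x₁ x₂ t : U} (ht : Tet x₁ x₂ t) :
    PT p (mu E c.toCore) x₁ x₂ t :=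
  pt_of B.j h2 E c.simple c.noncomm c.pair'.inj c.toCore.binj c.toCore.ab (fun _ => alpha2 B.j h2 E c)
    (fun _ => beta2 B.j h2 E c) ht

theorem cube_of {G H : Type} [Group G] [Group H] (f : G →* H) {t : G} (h : orderOf t = 3) : f t ^ 3 = 1 := by
  rw [← map_pow, ← h, pow_orderOf_eq_one, map_one]

theorem ne_one_of {G : Type} [Group G] {t : G} {r : ℕ} (h : orderOf t = r) (hr : r ≠ 1) : t ≠ 1 := fun e =>
  hr (by rw [← h, e, orderOf_one])

/-- **O3, O4**: the characteristic is not three, the classes of the elements of order three -/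
theorem tet_dd (B : Boxes) (h2 : p ≠ 2) (E : Fr8 p L) (c : Core8 τ α β R R' D) {x₁ x₂ t : U} (ht : Tet x₁ x₂ t) :
    p ≠ 3 ∧ dd p (E.ι (τ t)) = 80 ∧ dd p (E.ι (α t)) = 80 ∧ dd p (E.ι (β t)) = 86 ∧
      finrank (kb p) (Fx p {E.ι (α x₁), E.ι (β t)}) ≤ 44 := by
  have co := c.toCore
  obtain ⟨ψ, h1, h3⟩ := alpha_eq E co
  obtain ⟨a1, a2, a3⟩ := B.e16 p h2 U _ _ _ _ (pt_mu B h2 E c ht)
  obtain ⟨b1, -, b3⟩ := B.e16 p h2 U _ _ _ _ (pt_mu B h2 E c (ht.map h1))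
  rw [mu_t, ← h3] at b1 b3
  rw [mu_a] at a2
  have hp3 : p ≠ 3 := fun e => by
    have := a2 e
    omega
  obtain ⟨a4, a5, a6⟩ := a3 hp3
  rw [mu_a, mu_b] at a6
  have h4 := par3 hp3 (cube_of (E.ι.comp α) ht.o3) (cube_of (E.ι.comp β) ht.o3) (ι_comm E (co.ab t t))
  rw [mu_apply, map_inv, map_mul, map_inv] at a5
  rw [mu_apply, map_mul] at a4
  change E8A.Two.q3 (dd p (E.ι (α t) * E.ι (β t))) + E8A.Two.q3 (dd p (E.ι (α t) * (E.ι (β t))⁻¹)) =
    2 * E8A.Two.q3 (dd p (E.ι (α t))) + 2 * E8A.Two.q3 (dd p (E.ι (β t))) at h4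
  rw [a4, a5, (b3 hp3).1] at h4
  have h5 : dd p (E.ι (β t)) = 86 := by
    rcases dd3 hp3 (cube_of (E.ι.comp β) ht.o3) (map_ne E.inj (map_ne co.binj (ne_one_of ht.o3 (by norm_num)))) with
      h | h | h | h
    all_goals
      change dd p (E.ι (β t)) = _ at h
      rw [h] at h4
      first | exact h | exact absurd h4 (by decide)
  refine ⟨hp3, by rw [co.eq, map_mul, a4], (b3 hp3).1, h5, ?_⟩
  omega

theorem five_le (h2 : p ≠ 2) (h3 : p ≠ 3) : 5 ≤ p := by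
  have h := (Fact.out : p.Prime)
  have h4 := h.two_le
  by_contra h5
  have h6 : p = 4 := by omega
  exact absurd (h6 ▸ h) (by norm_num)

/-- a tetrahedral subgroup with a real element of order three -/
theorem exists_real (B : Boxes) (h2 : p ≠ 2) (E : Fr8 p L) (c : Core8 τ α β R R' D) :
    ∃ x₁ x₂ t g : U, Tet x₁ x₂ t ∧ g * t * g⁻¹ = t⁻¹ := by
  obtain ⟨x₁, x₂, t, ht, ⟨g, hg⟩ | ⟨P, h1, h3, h4⟩⟩ := B.tet U c.simple c.noncomm (rank2 B h2 E c)
  · exact ⟨x₁, x₂, t, g, ht, hg⟩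
  exfalso
  obtain ⟨hp3, h5, -⟩ := tet_dd B h2 E c ht
  have hi : Function.Injective (E.ι.comp τ) := E.inj.comp c.pair.inj
  have h6 : ∀ x ∈ P, x ≠ 1 → ∃ g s : U, x = g * s * g⁻¹ ∧ (s = t ∨ s = t⁻¹) := fun x hx h7 => by
    rcases h4 x hx h7 with h | h
    all_goals
      obtain ⟨g, hg⟩ := isConj_iff.1 h.symm
      exact ⟨g, _, hg.symm, by simp⟩
  have h7 := DS.Nt.pure_dvd tE8 (r := 3) (E := P.map (E.ι.comp τ)) ⟨Nat.prime_three, hp3.symm,
    Finite.of_surjective _ (MonoidHom.subgroupMap_surjective _ P), by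
      rintro _ ⟨x, hx, rfl⟩ _ ⟨y, hy, rfl⟩
      exact map_comm _ (h3 x hx y hy), by
      rintro _ ⟨x, hx, rfl⟩
      by_cases h8 : x = 1
      · rw [h8, map_one, one_pow]
      · obtain ⟨g, s, rfl, rfl | rfl⟩ := h6 x hx h8
        · exact cube_of _ (by rw [ord_conj, ht.o3])
        · exact cube_of _ (by rw [ord_conj, orderOf_inv, ht.o3])⟩ (d := 80) (by
      rintro _ ⟨x, hx, rfl⟩ h8
      obtain ⟨g, s, rfl, rfl | rfl⟩ := h6 x hx fun e => h8 (by rw [e, map_one])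
      · rw [map_conj', DS.Nt.dd_conj]
        exact h5
      · rw [map_conj', DS.Nt.dd_conj, map_inv, dd_inv]
        exact h5)
  rw [card_map_of_injective hi, show chevE8.nroots = 240 from rfl] at h7
  exact absurd ((Int.natCast_dvd_natCast.2 h1).trans h7) (by norm_num)

/-- one automorphism maps the pair `(T, R)` to the pair `(A, R')` -/
theorem pair_conj (B : Boxes) (h2 : p ≠ 2) (E : Fr8 p L) (c : Core8 τ α β R R' D) :
    ∃ θ : MulAut L, τ.range.map θ.toMonoidHom = α.range ∧ R.map θ.toMonoidHom = R' := by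
  refine c.two.resolve_right ?_
  rintro ⟨θ, hθ⟩
  obtain ⟨x₁, x₂, t, -, ht, -⟩ := exists_real B h2 E c
  obtain ⟨φ, h1, h3⟩ := c.cpy
  have h4 := pt_of B.j h2 E c.simple c.noncomm (b := θ.toMonoidHom.comp τ) c.pair.inj (θ.injective.comp c.pair.inj)
    (fun u v => c.pair.comm u _ (hθ v).1) (fun _ => tau2 B.j h2 E c)
    (fun u hu => ((ext8 E θ).1 _).trans (tau2 B.j h2 E c hu)) ht
  have h5 := pt_cent h2 h4 (range_perfect c.simple c.noncomm (E.ι.comp φ)) (by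
    rintro ⟨u, v⟩ _ ⟨w, rfl⟩
    refine ι_comm E ?_
    change φ w * (τ u * θ (τ v)) = τ u * θ (τ v) * φ w
    rw [← mul_assoc, ← c.pair.comm u _ (c.le (h3 w)), mul_assoc, (hθ v).2 _ (h3 w), mul_assoc])
  have h6 : (E.ι.comp φ) x₁ ∈ (E.ι.comp φ).range := ⟨x₁, rfl⟩
  rw [h5, mem_bot] at h6
  exact map_ne E.inj (map_ne h1 (ne_of ht.o1)) h6

/-- **O5, O6**: the component is `A₅`, `p ≥ 7` -/
theorem alt5 (B : Boxes) (h2 : p ≠ 2) (E : Fr8 p L) (c : Core8 τ α β R R' D) : 7 ≤ p ∧ Nonempty (U ≃* Al 5) := by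
  have co := c.toCore
  obtain ⟨x₁, x₂, t, g, ht, hg⟩ := exists_real B h2 E c
  obtain ⟨hp3, -, -, h3, h4⟩ := tet_dd B h2 E c ht
  have h5 := five_le h2 hp3
  obtain ⟨⟨f, hf⟩, h6⟩ := (B.a2 p h5 (E.ι (β t)) (E.ι (β g)) (cube_of (E.ι.comp β) ht.o3) h3
    (by rw [← map_conj', ← map_conj', hg, map_inv, map_inv]) U co.simple co.noncomm (E.ι.comp α)
    (fun u => ι_comm E (co.ab u t)) (fun u => ι_comm E (co.ab u g))).resolve_right fun h => by
      have h7 : 46 ≤ finrank (kb p) (Fx p {E.ι (α x₁), E.ι (β t)}) := h x₁ (sq_of ht.o1)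
      omega
  obtain ⟨θ, hT, hR⟩ := pair_conj B h2 E c
  obtain ⟨e⟩ := exists_equiv E
  have hp : ¬ p ∣ Nat.card U := by
    refine B.ml (GaloisField p E.e) p h5 U _ _ _ _ _ (co.map e) ?_
    rw [← map_centralizer_equiv]
    rintro _ ⟨s, hs, rfl⟩ hsp _ ⟨x, rfl⟩ hx1 hx2 hc
    have := Fact.mk Nat.prime_two
    have hs' : θ s ∈ centralizer (R' : Set L) := by
      rw [← hR, ← map_centralizer_equiv]
      exact ⟨s, hs, rfl⟩
    obtain ⟨x', hx'⟩ : θ (τ x) ∈ α.range := hT ▸ ⟨τ x, ⟨x, rfl⟩, rfl⟩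
    have ho : orderOf x' = 2 := by
      rw [← co.pair'.orderOf_eq, hx', MulEquiv.orderOf_eq, ← e.orderOf_eq]
      exact orderOf_eq_prime hx2 hx1
    have h7 := h6 (E.ι (θ s)) (ι_comm E (mem_centralizer_iff.1 hs' _ (co.bmem t)).symm)
      (ι_comm E (mem_centralizer_iff.1 hs' _ (co.bmem g)).symm) (by
        rw [← map_pow, ← map_pow, e.injective (show e (s ^ p) = e 1 by rw [map_pow, map_one]; exact hsp), map_one,
          map_one]) (fun u => by
        obtain ⟨v, hv⟩ := conj_mem_of_norm (co.pair'.cnorm hs') (⟨u, rfl⟩ : α u ∈ α.range)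
        exact ⟨v, by rw [MonoidHom.comp_apply, hv, map_conj']; rfl⟩) x' ho (ι_comm E (by
        rw [hx', ← map_mul, ← map_mul, e.injective (show e (s * τ x) = e (τ x * s) by rw [map_mul, map_mul]; exact hc)]))
    have h8 : θ s = 1 := co.pair'.cfaith _ hs' fun u => E.inj (by rw [map_mul, map_mul]; exact h7 u)
    rw [(map_eq_one_iff θ θ.injective).1 h8, map_one]
    exact one_mem _
  obtain ⟨F, _, _, _, H, ⟨e'⟩⟩ := Grp.descend p f hf
  have hs := co.simple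
  rcases Grp.dick p H e'.symm.isSimpleGroup (fun h => co.noncomm ⟨⟨fun a b => e'.injective (by
    rw [map_mul, map_mul]; exact h.is_comm.comm _ _)⟩⟩) with ⟨⟨e5⟩⟩ | ⟨K, _, _, _, ⟨eK⟩⟩
  · refine ⟨?_, ⟨e'.trans e5⟩⟩
    by_contra h7
    have h8 : p = 5 ∨ p = 6 := by omega
    rcases h8 with rfl | rfl
    · refine hp ?_
      rw [Nat.card_congr (e'.trans e5).toEquiv, Nat.card_eq_fintype_card]
      decide
    · exact absurd (Fact.out : Nat.Prime 6) (by norm_num)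
  · obtain ⟨u, -, -, hu, -⟩ := ((Grp.con_psl p h2).congr (e'.trans eK)).2.1 h5
    exact absurd (hu ▸ orderOf_dvd_natCard u) hp

theorem al5_conj3 : ∀ s t : Al 5, s ^ 3 = 1 → s ≠ 1 → t ^ 3 = 1 → t ≠ 1 → ∃ g : Al 5, g * s * g⁻¹ = t := by
  decide +kernel

theorem conj3 (h : Nonempty (U ≃* Al 5)) {s t : U} (hs : orderOf s = 3) (ht : orderOf t = 3) :
    ∃ g, g * s * g⁻¹ = t := by
  obtain ⟨e⟩ := h
  obtain ⟨g, hg⟩ := al5_conj3 (e s) (e t) (cube_of e.toMonoidHom hs) (map_ne (f := e.toMonoidHom) e.injective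
    (ne_one_of hs (by norm_num))) (cube_of e.toMonoidHom ht) (map_ne (f := e.toMonoidHom) e.injective
    (ne_one_of ht (by norm_num)))
  refine ⟨e.symm g, e.injective ?_⟩
  rw [map_mul, map_mul, map_inv, e.apply_symm_apply, hg]

theorem three_dd (B : Boxes) (h2 : p ≠ 2) (E : Fr8 p L) (c : Core8 τ α β R R' D) {s : U} (hs : orderOf s = 3) :
    dd p (E.ι (τ s)) = 80 ∧ dd p (E.ι (α s)) = 80 ∧ dd p (E.ι (β s)) = 86 := by
  obtain ⟨x₁, x₂, t, -, ht, -⟩ := exists_real B h2 E c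
  obtain ⟨-, h3, h4, h5, -⟩ := tet_dd B h2 E c ht
  obtain ⟨g, rfl⟩ := conj3 (alt5 B h2 E c).2 ht.o3 hs
  rw [map_conj' τ, map_conj' α, map_conj' β, dd_conjL, dd_conjL, dd_conjL]
  exact ⟨h3, h4, h5⟩

theorem fr248 : finrank (kb p) (chevE8.Idx → kb p) = 248 := DS.Nt.P8.fr248

theorem fx_l {V : Type} [Group V] (E : Fr8 p L) {a : U →* L} {b : V →* L} (h : ∀ u v, a u * b v = b v * a u) :
    fx ((ad chevE8 p).comp (E.ι.comp (pr a b h))) {g | g.2 = 1} = Fx p (E.ι '' Set.range a) := by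
  ext m
  rw [mem_fx, DS.Nt.mem_Fx]
  constructor
  · rintro h1 _ ⟨_, ⟨u, rfl⟩, rfl⟩
    rw [← pr_l h]
    exact h1 (u, 1) rfl
  · rintro h1 ⟨u, v⟩ (rfl : v = 1)
    change ad chevE8 p (E.ι (pr a b h (u, 1))) m = m
    rw [pr_l]
    exact h1 _ ⟨_, ⟨u, rfl⟩, rfl⟩

/-- **O7**: `A` has no fixed vector; `B` and an element of order five of `A` have one -/
theorem no_fix (B : Boxes) (h2 : p ≠ 2) (E : Fr8 p L) (c : Core8 τ α β R R' D) :
    Fx p (E.ι '' Set.range α) = ⊥ ∧ ∀ y, orderOf y = 5 → ∃ v, v ≠ 0 ∧ ad chevE8 p (E.ι (α y)) v = v ∧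
      ∀ u, ad chevE8 p (E.ι (β u)) v = v := by
  have co := c.toCore
  obtain ⟨h7, h5⟩ := alt5 B h2 E c
  have hp3 : p ≠ 3 := by omega
  have hp5 : p ≠ 5 := by omega
  have e0 : ∀ g, ev ((ad chevE8 p).comp (mu E co)) g 1 = dd p (mu E co g) := fun _ => rfl
  obtain ⟨h3, h4⟩ := B.a5 p h7 _ U h5 ((ad chevE8 p).comp (mu E co)) fr248 (fun x hx => by
      rw [e0, e0, e0, mu_a, mu_b, mu_t]
      exact ⟨alpha2 B.j h2 E c hx, beta2 B.j h2 E c hx, tau2 B.j h2 E c hx⟩) (fun t ht => by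
      rw [e0, e0, e0, mu_a, mu_b, mu_t]
      obtain ⟨k1, k2, k3⟩ := three_dd B h2 E c ht
      exact ⟨k2, k3, k1⟩) (fun x t hx ht => by
      obtain ⟨-, k2, k3⟩ := three_dd B h2 E c ht
      rw [e0, e0, mu_apply, mu_apply, co.ab t x, map_mul, map_mul]
      exact ⟨(dd6 h2 hp3 (map_sq _ (map_sq _ (sq_of hx))) (cube_of (E.ι.comp α) ht) (ι_comm E (co.ab t x).symm)
          (beta2 B.j h2 E c hx)).1 k2,
        (dd6 h2 hp3 (map_sq _ (map_sq _ (sq_of hx))) (cube_of (E.ι.comp β) ht) (ι_comm E (co.ab x t))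
          (alpha2 B.j h2 E c hx)).2 k3⟩) (fun y hy => by
      have k1 : y ^ 5 = 1 := by rw [← hy, pow_orderOf_eq_one]
      have k2 := ne_one_of hy (by norm_num)
      rw [e0, e0, mu_a, mu_b]
      exact ⟨dd5 hp5 (by rw [← map_pow, ← map_pow, k1, map_one, map_one]) (map_ne E.inj (map_ne co.pair'.inj k2)),
        dd5 hp5 (by rw [← map_pow, ← map_pow, k1, map_one, map_one]) (map_ne E.inj (map_ne co.binj k2))⟩) (by
      have k1 : fx ((ad chevE8 p).comp (mu E co)) {g | g.1 = g.2} = Fx p (E.ι '' Set.range τ) := by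
        ext m
        rw [mem_fx, DS.Nt.mem_Fx]
        constructor
        · rintro h _ ⟨_, ⟨u, rfl⟩, rfl⟩
          rw [← mu_t E co]
          exact h (u, u) rfl
        · rintro h ⟨u, v⟩ (rfl : u = v)
          rw [MonoidHom.comp_apply, mu_t]
          exact h _ ⟨_, ⟨u, rfl⟩, rfl⟩
      obtain ⟨θ, hθ⟩ := co.aconj
      have k2 : Set.range α = θ '' Set.range τ := congrArg (fun X : Subgroup L => (X : Set L)) hθ
      rw [k1, mu, fx_l, k2, (ext8 E θ).2])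
  rw [mu, fx_l] at h3
  refine ⟨h3, fun y hy => ?_⟩
  obtain ⟨v, hv, h0⟩ := (Submodule.ne_bot_iff _).1 (h4 y hy)
  refine ⟨v, h0, ?_, fun u => ?_⟩
  · rw [← mu_a E co]
    exact hv (y, 1) (Or.inr rfl)
  · rw [← mu_b E co]
    exact hv (1, u) (Or.inl rfl)

end Cfsg.Agent.Cam.E8O.Asm
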