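import Cfsg.Agent.Cam.E8.OIface
import Cfsg.Agent.Cam.E8.Mov

/-!
# S3690: `boxMov` (helper81)
-/

set_option autoImplicit false

namespace Cfsg.Agent.Cam.E8O.Mov

open Cfsg Cfsg.Lie

/-- no mover, in every characteristic -/
theorem noMov (big : Big) {G : Type} [Group G] [Finite G] {S H : Subgroup G} {g : G} {p : ℕ} [Fact p.Prime]
    (E : Fr8 p S) : NoMov S H g := by
  obtain ⟨e⟩ := exists_equiv E
  have := Fintype.ofFinite (GaloisField p E.e)
  exact fun 𝒯 c => E8.Mov.no_mover big c ⟨GaloisField p E.e, inferInstance, inferInstance, ⟨e⟩⟩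

theorem boxMov : BoxMov := fun big _ _ _ _ _ _ _ E => noMov big E

end Cfsg.Agent.Cam.E8O.Mov
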