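import Cfsg.Agent.Cam.E8.OAsmB
import Cfsg.Agent.Cam.E8.OMov
import Cfsg.Agent.S2119

/-!
# S3690, the row `E₈`, odd characteristic: the end, `oddE8 : Boxes → OddE8` (helper70)
-/

set_option autoImplicit false
set_option linter.unusedVariables false
set_option linter.unusedSectionVars false

namespace Cfsg.Agent.Cam.E8O.Asm

open Cfsg Cfsg.Lie Subgroup Module
open Cfsg.Agent.Cam.Spor Cfsg.Agent.Cam.Ex Cfsg.Agent.Cam.Ex.S2 Cfsg.Agent.Cam.Odd
open Cfsg.Agent.DS.NT (ev)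
open Cfsg.Agent.DS.Nt (dd ad Fx Tp)

variable {p : ℕ} [Fact p.Prime] {L : Type} [Group L] [Finite L] {U : Type} [Group U] [Finite U]
  {τ α β : U →* L} {R R' D : Subgroup L}

theorem iso_a (B : Boxes) (h2 : p ≠ 2) (E : Fr8 p L) (c : Core8 τ α β R R' D) : Iso p (E.ι.comp α).range := by
  refine B.iso p (alt5 B h2 E c).1 _ (range_perfect c.simple c.noncomm _) ?_
  rw [← (no_fix B h2 E c).1, MonoidHom.coe_range, MonoidHom.coe_comp, Set.range_comp]

theorem mem_cent (E : Fr8 p L) (c : Core τ α β R R') {z : L} (hz : z ∈ R') :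
    E.ι z ∈ centralizer ((E.ι.comp α).range : Set (Y8 p)) := by
  rw [mem_centralizer_iff]
  rintro _ ⟨u, rfl⟩
  exact ι_comm E (c.pair'.comm u z hz)

/-- a group of order `r ^ n` without elements of order `r ^ 2` -/
theorem exp_of {G : Type} [Group G] [Finite G] {r n : ℕ} (hr : r.Prime) (h : Nat.card G = r ^ n)
    (h1 : ∀ x : G, orderOf x ≠ r ^ 2) (x : G) : x ^ r = 1 := by
  obtain ⟨k, -, hk⟩ := (Nat.dvd_prime_pow hr).1 (h ▸ orderOf_dvd_natCard x)
  rcases k with _ | _ | k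
  · rw [pow_zero, orderOf_eq_one_iff] at hk
    rw [hk, one_pow]
  · rw [zero_add, pow_one] at hk
    rw [← hk, pow_orderOf_eq_one]
  · refine absurd ?_ (h1 (x ^ r ^ k))
    rw [orderOf_pow_of_dvd (pow_ne_zero _ hr.ne_zero) (by rw [hk]; exact pow_dvd_pow _ (by omega)), hk,
      Nat.pow_div (by omega) hr.pos]
    congr 1
    omega

theorem not_25 (B : Boxes) (h2 : p ≠ 2) (E : Fr8 p L) (c : Core8 τ α β R R' D) : ¬ 25 ∣ Nat.card R' := by
  intro h
  have := Fact.mk Nat.prime_five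
  have hI := iso_a B h2 E c
  obtain ⟨K, hK⟩ := Sylow.exists_subgroup_card_pow_prime 5 (n := 2) h
  have hi : Function.Injective (E.ι.comp R'.subtype) := E.inj.comp R'.subtype_injective
  refine hI.five (K.map (E.ι.comp R'.subtype)) ?_ ?_ (by rw [card_map_of_injective hi, hK]; rfl)
  · rintro _ ⟨x, -, rfl⟩
    exact mem_cent E c.toCore x.2
  · rintro _ ⟨x, hx, rfl⟩
    have h3 := exp_of Nat.prime_five hK (fun y => by
      rw [← orderOf_injective ((E.ι.comp R'.subtype).comp K.subtype) (hi.comp K.subtype_injective)]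
      exact (hI.nine _ (mem_cent E c.toCore y.1.2)).2) ⟨x, hx⟩
    rw [← map_pow, show x ^ 5 = 1 from congrArg Subtype.val h3, map_one]

theorem q80 {d : ℕ} (h : d = 80 ∨ d = 86 ∨ d = 92 ∨ d = 134)
    (k : E8A.Two.q3 d + E8A.Two.q3 d = 2 * E8A.Two.q3 80 + 2 * E8A.Two.q3 80) : d = 92 := by
  rcases h with rfl | rfl | rfl | rfl <;> first | rfl | exact absurd k (by decide)

theorem q86 {d : ℕ} (h : d = 80 ∨ d = 86 ∨ d = 92 ∨ d = 134)
    (k : E8A.Two.q3 d + E8A.Two.q3 d = 2 * E8A.Two.q3 80 + 2 * E8A.Two.q3 86) : d = 80 ∨ d = 134 := by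
  rcases h with rfl | rfl | rfl | rfl <;> first | exact absurd k (by decide) | decide

theorem not_81 (B : Boxes) (h2 : p ≠ 2) (E : Fr8 p L) (c : Core8 τ α β R R' D) : ¬ 81 ∣ Nat.card R' := by
  intro h
  have co := c.toCore
  have := Fact.mk Nat.prime_three
  have hI := iso_a B h2 E c
  obtain ⟨h7, h5⟩ := alt5 B h2 E c
  have hp3 : p ≠ 3 := by omega
  obtain ⟨K, hK⟩ := Sylow.exists_subgroup_card_pow_prime 3 (n := 4) h
  let b : K →* L := R'.subtype.comp K.subtype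
  have hb : Function.Injective b := R'.subtype_injective.comp K.subtype_injective
  have hbR : ∀ z, b z ∈ R' := fun z => z.1.2
  have hc : ∀ u z, α u * b z = b z * α u := fun u z => co.pair'.comm u _ (hbR z)
  have h3 := exp_of Nat.prime_three hK fun y => by
    rw [← orderOf_injective b hb, ← ord_ι E]
    exact (hI.nine _ (mem_cent E co (hbR y))).1
  have e0 : ∀ g, ev ((ad chevE8 p).comp (E.ι.comp (pr α b hc))) g 1 = dd p (E.ι (pr α b hc g)) := fun _ => rfl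
  refine B.p81 p h7 _ U h5 K hK h3 ((ad chevE8 p).comp (E.ι.comp (pr α b hc))) fr248
    (by rw [fx_l, (no_fix B h2 E c).1]) (fun x hx => by rw [e0, pr_l, alpha2 B.j h2 E c hx])
    (fun t ht => by rw [e0, pr_l, (three_dd B h2 E c ht).2.1]) fun x t z hx ht hz => ?_
  have hz3 : orderOf z = 3 := orderOf_eq_prime (h3 z) hz
  have k1 := cube_of (E.ι.comp α) ht
  have k2 := cube_of (E.ι.comp b) hz3
  have k3 := ι_comm E (hc t z)
  have k4 := par3 hp3 k1 k2 k3
  obtain ⟨g, hg⟩ := conj3 h5 ht (by rw [orderOf_inv, ht] : orderOf t⁻¹ = 3)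
  have k5 : dd p (E.ι (α t) * (E.ι (b z))⁻¹) = dd p (E.ι (α t) * E.ι (b z)) := by
    have e1 : α g * (α t * b z) * (α g)⁻¹ = (α t * (b z)⁻¹)⁻¹ := by
      calc _ = α g * α t * (b z * α g⁻¹) := by rw [map_inv]; group
        _ = α (g * t * g⁻¹) * b z := by rw [← hc, map_mul, map_mul]; group
        _ = _ := by rw [hg, hc, map_inv]; group
    rw [← map_inv, ← map_mul, ← map_mul, ← dd_conjL E (α g) (α t * b z), e1, map_inv, dd_inv]
  have k6 := dd3 hp3 (y := E.ι (α t) * E.ι (b z)) (by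
    rw [(show Commute _ _ from k3).mul_pow]
    exact (congrArg₂ (· * ·) k1 k2).trans (mul_one 1)) (by
    rw [← map_mul, ← pr_apply hc]
    exact map_ne E.inj (map_ne (pr_inj co.simple co.noncomm co.pair'.inj hb hc) fun e => hz (congrArg Prod.snd e)))
  have k7 := dd6 h2 hp3 (map_sq _ (map_sq _ (sq_of hx))) k2 (ι_comm E (hc x z)) (alpha2 B.j h2 E c hx)
  change E8A.Two.q3 (dd p (E.ι (α t) * E.ι (b z))) + E8A.Two.q3 (dd p (E.ι (α t) * (E.ι (b z))⁻¹)) =
    2 * E8A.Two.q3 (dd p (E.ι (α t))) + 2 * E8A.Two.q3 (dd p (E.ι (b z))) at k4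
  rw [k5, (three_dd B h2 E c ht).2.1] at k4
  rw [e0, e0, e0, pr_r, pr_apply, pr_apply, map_mul, map_mul]
  have k8 := hI.prime _ (mem_cent E co (hbR z)) (by rw [ord_ι, orderOf_injective b hb, hz3]; exact Nat.prime_three)
  rw [ord_ι, orderOf_injective b hb, hz3] at k8
  rcases k8 with k8 | ⟨-, k8 | k8⟩ | ⟨k8, -⟩
  · omega
  · exact Or.inl ⟨k8, q80 k6 (k8 ▸ k4), k7.1 k8⟩
  · exact Or.inr ⟨k8, q86 k6 (k8 ▸ k4), k7.2 k8⟩
  · omega

/-- multiplication by an involution of class 2A of `R'` changes the class -/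
theorem flip (B : Boxes) (h2 : p ≠ 2) (E : Fr8 p L) (c : Core8 τ α β R R' D) {z n : L} (hz : z ∈ R') (hn : n ∈ R')
    (oz : orderOf z = 2) (on : orderOf n = 2) (hd : dd p (E.ι z) = 136) (hne : n ≠ z) (hc : n * z = z * n) :
    dd p (E.ι (n * z)) ≠ dd p (E.ι n) := by
  obtain ⟨ψ, hj, -⟩ := B.j p h2 L E z oz hd
  rw [← q8L E hj on hne hc]
  refine czL E hj (range_perfect c.simple c.noncomm α) (by rintro _ ⟨u, rfl⟩; exact c.pair'.comm u z hz) (fun h => ?_) hc
    (by rintro _ ⟨u, rfl⟩; exact (c.pair'.comm u n hn).symm)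
  obtain ⟨v, h0, hv⟩ := hj.vec
  refine h0 ((Submodule.eq_bot_iff _).1 (no_fix B h2 E c).1 v ((DS.Nt.mem_Fx p).2 ?_))
  rintro _ ⟨_, ⟨u, rfl⟩, rfl⟩
  exact hv _ (h _ ⟨u, rfl⟩)

theorem fix16 (B : Boxes) (h2 : p ≠ 2) (E : Fr8 p L) (c : Core8 τ α β R R' D) (N : Subgroup R') (y : R')
    (hN : Nat.card N = 16) (h1 : ∀ n ∈ N, n ^ 2 = 1) (hy : orderOf y = 5) (h3 : ∀ n ∈ N, y * n * y⁻¹ ∈ N) :
    ∃ n ∈ N, n ≠ 1 ∧ y * n = n * y := by
  by_contra hcon
  push Not at hcon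
  have := Fact.mk Nat.prime_two
  have hi : Function.Injective (E.ι.comp R'.subtype) := E.inj.comp R'.subtype_injective
  have ho : ∀ n ∈ N, n ≠ 1 → orderOf (n : L) = 2 := fun n hn h => by
    rw [orderOf_coe]
    exact orderOf_eq_prime (h1 n hn) h
  obtain ⟨z, hz, hz1, hd⟩ : ∃ z ∈ N, z ≠ 1 ∧ dd p (E.ι (z : L)) = 136 := by
    by_contra h4
    push Not at h4
    refine (iso_a B h2 E c).sixteen (N.map (E.ι.comp R'.subtype)) ?_ ?_ ?_ (by rw [card_map_of_injective hi, hN])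
    · rintro _ ⟨x, -, rfl⟩
      exact mem_cent E c.toCore x.2
    · rintro _ ⟨x, hx, rfl⟩
      exact map_sq _ (h1 x hx)
    · rintro _ ⟨x, hx, rfl⟩ h5
      have h6 : x ≠ 1 := fun e => h5 (by rw [e, map_one])
      exact (dd2L E h2 (ho x hx h6)).resolve_right (h4 x hx h6)
  have hcm := comm_of_sq h1
  obtain ⟨f, hf⟩ : ∃ f : R' → R', ∀ n, f n = y * n * y⁻¹ := ⟨_, fun _ => rfl⟩
  have fm : ∀ a b, f (a * b) = f a * f b := fun a b => by rw [hf, hf, hf, conj_mul]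
  have fN : ∀ n ∈ N, f n ∈ N := fun n hn => hf n ▸ h3 n hn
  have fd : ∀ n, dd p (E.ι (f n : L)) = dd p (E.ι (n : L)) := fun n => by
    rw [hf]
    exact dd_conjL E _ _
  have f1 : ∀ n, n ≠ 1 → f n ≠ 1 := fun n h => hf n ▸ conj_ne_one _ h
  have fne : ∀ n ∈ N, n ≠ 1 → f n ≠ n := fun n hn h e => hcon n hn h (mul_inv_eq_iff_eq_mul.1 (hf n ▸ e))
  have f5 : f (f (f (f (f z)))) = z := by
    have h4 : y * y * y * y * y = 1 := by
      rw [← pow_orderOf_eq_one y, hy]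
      simp only [pow_succ, pow_zero, one_mul]
    calc f (f (f (f (f z)))) = y * y * y * y * y * z * (y * y * y * y * y)⁻¹ := by
          rw [hf, hf, hf, hf, hf]
          simp only [mul_inv_rev, mul_assoc]
      _ = z := by rw [h4]; group
  have z1 := fN _ hz
  have z2 := fN _ z1
  have z3 := fN _ z2
  have z4 := fN _ z3
  have key : ∀ a ∈ N, ∀ n ∈ N, a ≠ 1 → n ≠ 1 → dd p (E.ι (a : L)) = 136 → n ≠ a →
      dd p (E.ι ((n * a : R') : L)) ≠ dd p (E.ι (n : L)) := fun a ha n hn k1 k2 k3 k4 =>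
    flip B h2 E c a.2 n.2 (ho a ha k1) (ho n hn k2) k3 (fun e => k4 (Subtype.ext e))
      (congrArg Subtype.val (hcm n hn a ha))
  have hinv : ∀ n ∈ N, n⁻¹ = n := fun n hn => by rw [inv_eq_iff_mul_eq_one, ← pow_two, h1 n hn]
  have hne : ∀ a ∈ N, ∀ n ∈ N, n ≠ a → n * a ≠ 1 := fun a ha n hn k e =>
    k ((eq_inv_of_mul_eq_one_left e).trans (hinv a ha))
  have m1 := hne _ z1 z hz (fne z hz hz1).symm
  have d1 : dd p (E.ι ((z * f z : R') : L)) = 120 := (dd2L E h2 (ho _ (mul_mem hz z1) m1)).resolve_right fun e =>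
    key _ z1 z hz (f1 z hz1) hz1 (by rw [fd, hd]) (fne z hz hz1).symm (by rw [e, hd])
  have d2 : dd p (E.ι ((z * f z * f (f z) : R') : L)) ≠ 120 := by
    rw [← d1]
    refine key _ z2 _ (mul_mem hz z1) (f1 _ (f1 z hz1)) m1 (by rw [fd, fd, hd]) fun e => ?_
    rw [e, fd, fd, hd] at d1
    omega
  have hP : z * f z * f (f z) * (f (f (f z)) * f (f (f (f z)))) = 1 := by
    by_contra h4
    refine fne _ (mul_mem (mul_mem (mul_mem hz z1) z2) (mul_mem z3 z4)) h4 ?_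
    rw [fm, fm, fm, fm, f5, ← mul_assoc, ← hcm z hz _ (mul_mem (mul_mem (mul_mem z1 z2) z3) z4)]
    simp only [mul_assoc]
  refine d2 ?_
  rw [eq_inv_of_mul_eq_one_left hP, hinv _ (mul_mem z3 z4), ← fm, ← fm, ← fm, fd, fd, fd, d1]

theorem perm5 : ∀ s y : Equiv.Perm (Fin 5), y ^ 5 = 1 → y ≠ 1 → s * y = y * s → s ^ 5 = 1 := by decide +kernel

/-- an automorphism of `A₅` fixing an element of order five -/
theorem aut5 (h : Nonempty (U ≃* Al 5)) (σ : MulAut U) {y : U} (hy : orderOf y = 5) (h1 : σ y = y) : σ ^ 5 = 1 := by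
  obtain ⟨e⟩ := h
  obtain ⟨s, hs⟩ := (S2119.result 5 (by norm_num) (by norm_num)).2 (MulAut.congr e σ)
  have h3 : s * (e y : Equiv.Perm (Fin 5)) * s⁻¹ = e y := by
    rw [← MulAut.conjNormal_apply, hs, MulAut.congr_apply]
    simp [h1]
  have h4 := perm5 s (e y) (by rw [← coe_pow, ← map_pow, orderOf_dvd_iff_pow_eq_one.1 hy.dvd, map_one, coe_one])
    (fun k => ne_one_of hy (by norm_num) (e.injective (Subtype.ext (by rw [k, map_one, coe_one]))))
    (mul_inv_eq_iff_eq_mul.1 h3)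
  apply (MulAut.congr e).injective
  rw [map_pow, ← hs, ← map_pow, h4, map_one, map_one]

theorem not_alt5 (B : Boxes) (h2 : p ≠ 2) (E : Fr8 p L) (c : Core8 τ α β R R' D) : ¬ Nonempty (R' ≃* Al 5) := by
  rintro ⟨e'⟩
  have co := c.toCore
  obtain ⟨h7, ⟨e⟩⟩ := alt5 B h2 E c
  have h60 : Nat.card U = 60 := by
    rw [Nat.card_congr e.toEquiv, Nat.card_eq_fintype_card]
    decide
  have hB : β.range = R' := Subgroup.eq_of_le_of_card_ge (by rintro _ ⟨u, rfl⟩; exact co.bmem u) (by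
    rw [Nat.card_congr e'.toEquiv, ← Nat.card_congr (MonoidHom.ofInjective co.binj).toEquiv, Nat.card_congr e.toEquiv])
  have := Fact.mk Nat.prime_five
  obtain ⟨y, hy⟩ := exists_prime_orderOf_dvd_card' (G := U) 5 (by rw [h60]; norm_num)
  obtain ⟨v, h0, hv1, hv2⟩ := (no_fix B h2 E c).2 y hy
  obtain ⟨s, hs, hs5⟩ := B.vec p h7 L E (((zpowers y).prod ⊤).map (pr α β co.ab)) (fun h => by
      have h3 := (h.trans (card_map_dvd _ _)).trans (card_subgroup_dvd_card _)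
      rw [Nat.card_prod, h60] at h3
      have hp := (Fact.out : p.Prime)
      have h4 : p ∣ 2 ^ 4 * 3 ^ 2 * 5 ^ 2 := h3
      rcases (hp.dvd_mul).1 h4 with h5 | h5
      · rcases (hp.dvd_mul).1 h5 with h5 | h5
        all_goals
          have := Nat.le_of_dvd (by norm_num) (hp.dvd_of_dvd_pow h5)
          omega
      · have := Nat.le_of_dvd (by norm_num) (hp.dvd_of_dvd_pow h5)
        omega) (by
      refine (Submodule.ne_bot_iff _).2 ⟨v, (DS.Nt.mem_Fx p).2 ?_, h0⟩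
      rintro _ ⟨_, ⟨⟨a, b⟩, ⟨ha, -⟩, rfl⟩, rfl⟩
      obtain ⟨n, rfl⟩ := (Submonoid.mem_powers_iff _ _).1 (mem_powers_iff_mem_zpowers.2 ha)
      rw [pr_apply, map_mul, DS.Nt.ad_mul, hv2]
      induction n with
      | zero => rw [pow_zero, map_one, map_one, DS.Nt.ad_one]
      | succ n ih => rw [pow_succ, map_mul, map_mul, DS.Nt.ad_mul, hv1, ih (pow_mem (mem_zpowers y) n)])
  have hsR : s ∈ centralizer (R' : Set L) := by
    rw [← hB, mem_centralizer_iff]
    rintro _ ⟨u, rfl⟩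
    exact mem_centralizer_iff.1 hs _ ⟨(1, u), ⟨one_mem _, trivial⟩, pr_r _ u⟩
  have hsy : α y * s = s * α y := mem_centralizer_iff.1 hs _ ⟨(y, 1), ⟨mem_zpowers y, trivial⟩, pr_l _ y⟩
  let ε := MonoidHom.ofInjective co.pair'.inj
  let φ : centralizer (R' : Set L) →* MulAut U := ((MulAut.congr ε.symm).toMonoidHom.comp
    (normalizerMonoidHom α.range)).comp (inclusion co.pair'.cnorm)
  have hφ : ∀ (x : centralizer (R' : Set L)) (u : U), α (φ x u) = x * α u * (x : L)⁻¹ := fun x u => by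
    have h3 : ∀ w : α.range, α (ε.symm w) = w := fun w => MonoidHom.apply_ofInjective_symm co.pair'.inj w
    exact h3 _
  have h3 := aut5 ⟨e⟩ (φ ⟨s, hsR⟩) hy (co.pair'.inj (by rw [hφ, ← hsy, mul_inv_cancel_right]))
  refine hs5 (co.pair'.cfaith _ (pow_mem hsR 5) fun u => ?_)
  have h4 := hφ (⟨s, hsR⟩ ^ 5) u
  rw [map_pow, h3, MulAut.one_apply] at h4
  exact mul_inv_eq_iff_eq_mul.1 h4.symm

theorem alt6 (big : Big) (B : Boxes) (h2 : p ≠ 2) (E : Fr8 p L) (c : Core8 τ α β R R' D) : Nonempty (R' ≃* Al 6) := by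
  have co := c.toCore
  have hs := co.simple
  obtain ⟨u, hu⟩ := exists_ne (1 : U)
  refine (B.grp big R' ⟨⟨⟨β u, co.bmem u⟩, 1, fun e => map_ne co.binj hu (congrArg Subtype.val e)⟩⟩ ?_ ?_ ?_
    (not_25 B h2 E c) (not_81 B h2 E c) (fix16 B h2 E c)).resolve_left (not_alt5 B h2 E c)
  · apply map_injective R'.subtype_injective
    rw [map_commutator, ← MonoidHom.range_eq_map, range_subtype, co.pair'.perfect]
  · refine eq_bot_iff.2 fun z hz => Subtype.ext (co.pair'.cfaith _ (mem_centralizer_iff.2 fun r hr => ?_)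
      fun w => (co.pair'.comm w _ z.2).symm)
    exact congrArg Subtype.val (mem_center_iff.1 hz ⟨r, hr⟩)
  · intro r hr hd
    have := Fact.mk hr
    obtain ⟨z, hz⟩ := exists_prime_orderOf_dvd_card' r hd
    have h3 := (iso_a B h2 E c).prime _ (mem_cent E co z.2) (by rw [ord_ι, orderOf_coe, hz]; exact hr)
    rw [ord_ι, orderOf_coe, hz] at h3
    omega

/-- **The row `E₈` in odd characteristic.** -/
theorem oddE8 (B : Boxes) : OddE8 := by
  intro big red G _ _ S H g c p _ h2 E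
  obtain ⟨U, _, _, τ, α, β, R, R', D, h, hF⟩ := B.link big red G S H g c (Mov.noMov big E)
  exact hF (alt5 B h2 E h).2 (alt6 big B h2 E h)

end Cfsg.Agent.Cam.E8O.Asm
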