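import Cfsg.Agent.Cam.E8.OIface
import Cfsg.Agent.Cam.Odd.Ext
import Cfsg.Agent.Cam.Ex.Chi
import Cfsg.Agent.E8A.Two.Wcj
import Cfsg.Agent.E8A.Inf.Tab
import Cfsg.Agent.DS.Nt.P8
import Cfsg.Agent.DS.Nt.Cnt
import Cfsg.Agent.DS.Nt.Kac
import Cfsg.Agent.R2.T1.Inf.Art

/-!
# S3690, the row `E₈`, odd characteristic: tables and basic tools (helper70)

* `dd2`, `dd3`, `dd5`, `dd6`, `par3` : dimensions of fixed spaces on the adjoint module;
* `tp8`, `pu_of`, `pure16` : commuting elements of prime order are toral; pure `2`-groups;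
* `ext8` : automorphisms of the finite group keep the dimensions;
* `artinK` : Artin's formula over `kb p`.
-/

set_option autoImplicit false
set_option linter.unusedVariables false

namespace Cfsg.Agent.Cam.E8O

open Cfsg Cfsg.Lie Subgroup Module
open Cfsg.Agent.Cam.Spor Cfsg.Agent.Cam.Ex Cfsg.Agent.Cam.Ex.S2 Cfsg.Agent.Cam.Odd
open Cfsg.Agent.DS.Nt (dd ad Fx Tp)
open Cfsg.Agent.KFacts.RgdChevCoord (TT)

variable {p : ℕ} [Fact p.Prime]

theorem typ8 : DS.Ex.Typ chevE8 := Or.inr (Or.inr (Or.inr rfl))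

/-- the bridge to `E8A` -/
theorem ev_dd (y : Y8 p) : H952.F4.ev (E8A.LK (E8A.Kb (ZMod p)) y) 1 = dd p y := rfl

theorem cast_ne {N : ℕ} (h : ¬ p ∣ N) : (N : ZMod p) ≠ 0 := fun e => h ((ZMod.natCast_eq_zero_iff N p).1 e)

theorem tabK {N : ℕ} {ds : List ℕ} {T : List (List ℕ)} (h : E8A.Inf.chk N [] ds T = true) (hN : ¬ p ∣ N) {y : Y8 p}
    (hy : y ^ N = 1) : (ds.map fun d => dd p (y ^ d)) ∈ T := by
  have hN0 : N ≠ 0 := by
    rintro rfl
    exact hN (dvd_zero p)
  obtain ⟨ζ, hζ⟩ := E8A.Inf.exists_root (F := ZMod p) (cast_ne hN)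
  obtain ⟨n, h1, h2, -⟩ := E8A.Inf.exists_pk (F := ZMod p) (cast_ne hN) hζ (g := y) hy (P := E8A.Inf.ok N [] ds T) h
  rw [E8A.Inf.ok, List.all_nil, Bool.not_true, Bool.false_or, List.contains_iff_mem] at h1
  have h3 : ∀ d, dd p (y ^ d) = E8A.Inf.pw N n d 0 := fun d => by
    rw [← h2 d 0 (Nat.pos_of_ne_zero hN0), pow_zero]
    rfl
  simpa only [h3] using h1

theorem dd_one : dd p (1 : Y8 p) = 248 := E8A.Inf.ev_one (F := kb p)

theorem eq_one_of_dd {y : Y8 p} (h : dd p y = 248) : y = 1 := E8A.Inf.eq_one_of_ev (F := kb p) h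

theorem not_dvd_prime {r : ℕ} (hr : r.Prime) (h : p ≠ r) : ¬ p ∣ r := fun e =>
  h ((Nat.prime_dvd_prime_iff_eq Fact.out hr).1 e)

theorem dd2 (hp : p ≠ 2) {y : Y8 p} (hy : y ^ 2 = 1) (h1 : y ≠ 1) : dd p y = 120 ∨ dd p y = 136 := by
  have h := tabK E8A.Inf.chk_T2 (not_dvd_prime Nat.prime_two hp) hy
  have h' : dd p y ≠ 248 := fun e => h1 (eq_one_of_dd e)
  simp only [E8A.Inf.T2, List.map, pow_one, List.mem_cons, List.cons.injEq, and_true, List.not_mem_nil, or_false] at h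
  omega

theorem dd3 (hp : p ≠ 3) {y : Y8 p} (hy : y ^ 3 = 1) (h1 : y ≠ 1) :
    dd p y = 80 ∨ dd p y = 86 ∨ dd p y = 92 ∨ dd p y = 134 := by
  have h := tabK E8A.Inf.chk_T3 (not_dvd_prime Nat.prime_three hp) hy
  have h' : dd p y ≠ 248 := fun e => h1 (eq_one_of_dd e)
  simp only [E8A.Inf.T3, List.map, pow_one, List.mem_cons, List.cons.injEq, and_true, List.not_mem_nil, or_false] at h
  omega

theorem dd5 (hp : p ≠ 5) {y : Y8 p} (hy : y ^ 5 = 1) (h1 : y ≠ 1) : T5 (dd p y) := by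
  have h := tabK E8A.Inf.chk_T5 (not_dvd_prime Nat.prime_five hp) hy
  have h' : dd p y ≠ 248 := fun e => h1 (eq_one_of_dd e)
  simp only [E8A.Inf.T5, List.map, pow_one, List.mem_cons, List.cons.injEq, and_true, List.not_mem_nil, or_false] at h
  unfold T5
  omega

/-- the product of commuting elements of orders `2` and `3` -/
theorem dd6' (h2 : p ≠ 2) (h3 : p ≠ 3) {x t : Y8 p} (hx : x ^ 2 = 1) (ht : t ^ 3 = 1) (hc : x * t = t * x) :
    [dd p (x * t), dd p t⁻¹, dd p x] ∈ E8A.Inf.T6 := by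
  have hc' : Commute x t := hc
  have h6 : ¬ p ∣ 6 := fun e => by
    rcases (Nat.Prime.dvd_mul (Fact.out : p.Prime) (m := 2) (n := 3)).1 e with e | e
    exacts [not_dvd_prime Nat.prime_two h2 e, not_dvd_prime Nat.prime_three h3 e]
  have h := tabK E8A.Inf.chk_T6 h6 (y := x * t) (by
    rw [hc'.mul_pow, show 6 = 2 * 3 from rfl, pow_mul, hx, one_pow, one_mul, mul_comm, pow_mul, ht, one_pow])
  have e2 : (x * t) ^ 2 = t⁻¹ := by
    rw [hc'.mul_pow, hx, one_mul, eq_inv_iff_mul_eq_one, ← pow_succ, ht]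
  have e3 : (x * t) ^ 3 = x := by
    rw [hc'.mul_pow, ht, mul_one, pow_succ, hx, one_mul]
  simpa only [List.map, pow_one, e2, e3] using h

theorem dd_inv (y : Y8 p) : dd p y⁻¹ = dd p y := by
  have h : ∀ z : Y8 p, Module.End.eigenspace (ad chevE8 p z) 1 ≤ Module.End.eigenspace (ad chevE8 p z⁻¹) 1 := by
    intro z v hv
    rw [Module.End.mem_eigenspace_iff, one_smul] at hv ⊢
    conv_lhs => rw [← hv, ← DS.Nt.ad_mul, inv_mul_cancel, DS.Nt.ad_one]
  have h1 := h y⁻¹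
  rw [inv_inv] at h1
  exact congrArg (fun W : Submodule (kb p) (chevE8.Idx → kb p) => finrank (kb p) W) (le_antisymm h1 (h y))

/-- class 2B times class 3A or 3B -/
theorem dd6 (h2 : p ≠ 2) (h3 : p ≠ 3) {x t : Y8 p} (hx : x ^ 2 = 1) (ht : t ^ 3 = 1) (hc : x * t = t * x)
    (hd : dd p x = 120) : (dd p t = 80 → dd p (x * t) = 40 ∨ dd p (x * t) = 64) ∧
      (dd p t = 86 → dd p (x * t) = 42 ∨ dd p (x * t) = 54) := by
  have h := dd6' h2 h3 hx ht hc
  rw [dd_inv, hd] at h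
  simp only [E8A.Inf.T6, List.mem_cons, List.cons.injEq, and_true, List.not_mem_nil, or_false] at h
  omega

/-- the parallelogram law; `q3 80 = q3 134 = 2`, `q3 92 = 1`, `q3 86 = q3 248 = 0` -/
theorem par3 (hp : p ≠ 3) {x y : Y8 p} (hx : x ^ 3 = 1) (hy : y ^ 3 = 1) (hc : x * y = y * x) :
    E8A.Two.q3 (dd p (x * y)) + E8A.Two.q3 (dd p (x * y⁻¹)) = 2 * E8A.Two.q3 (dd p x) + 2 * E8A.Two.q3 (dd p y) :=
  E8A.Two.par3K (F := ZMod p) (by exact_mod_cast cast_ne (not_dvd_prime Nat.prime_three hp)) hx hy hc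

/-- the centralizers of the elements of prime order of the torus are connected -/
theorem mem_DZ8 {r : ℕ} (hr : r.Prime) (hrp : r ≠ p) {t c : Y8 p} (ht : t ∈ TT chevE8 (kb p)) (htr : t ^ r = 1)
    (hc : c * t = t * c) : c ∈ DS.Nt.DZ tE8 p {t} := by
  rcases (DS.Nt.DZ_one tE8 typ8 hr hrp ht htr).2 with h | ⟨h, -⟩ | ⟨h, -⟩
  · exact h c hc
  · exact absurd (congrArg ChevalleyDatum.rank h) (by decide)
  · exact absurd (congrArg ChevalleyDatum.rank h) (by decide)

/-- an element of prime order `r ≠ p` and a commuting `r`-element are toral -/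
theorem tp8 {r : ℕ} (hr : r.Prime) (hrp : r ≠ p) {x y : Y8 p} (hx : x ^ r = 1) (hy : ∃ n : ℕ, y ^ r ^ n = 1)
    (hc : x * y = y * x) : Tp p x y := by
  obtain ⟨g, hg⟩ := DS.Nt.exists_conj_T tE8 hr hrp (x := x) (n := 1) (by rw [pow_one, hx])
  obtain ⟨n, hn⟩ := hy
  have h1 : (g * x * g⁻¹) ^ r = 1 := by rw [conj_pow, hx, mul_one, mul_inv_cancel]
  refine DS.Nt.Tp.of_conj (c := g) (DS.Nt.tp_of_mem_DZ (hp := tE8) hr hrp hg ⟨1, by rw [pow_one, h1]⟩
    (mem_DZ8 hr hrp hg h1 ?_) ⟨n, by rw [conj_pow, hn, mul_one, mul_inv_cancel]⟩)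
  rw [conj_mul, conj_mul, hc]

theorem comm_of_sq {G : Type*} [Group G] {P : Subgroup G} (h : ∀ x ∈ P, x ^ 2 = 1) : ∀ x ∈ P, ∀ y ∈ P, x * y = y * x := by
  intro x hx y hy
  have h1 : ∀ z ∈ P, z⁻¹ = z := fun z hz => by rw [inv_eq_iff_mul_eq_one, ← pow_two, h z hz]
  rw [← h1 _ (mul_mem hx hy), mul_inv_rev, h1 x hx, h1 y hy]

/-- elementary abelian groups -/
theorem ea_of {r : ℕ} (hr : r.Prime) (hrp : r ≠ p) {P : Subgroup (Y8 p)} (hf : Finite P) (h1 : ∀ x ∈ P, x ^ r = 1)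
    (h2 : ∀ x ∈ P, ∀ y ∈ P, x * y = y * x) : DS.Nt.EA p r P :=
  ⟨hr, hrp, hf, h2, h1, fun x hx y hy => tp8 hr hrp (h1 x hx) ⟨1, by rw [pow_one, h1 y hy]⟩ (h2 x hx y hy)⟩

/-- pure groups of involutions of class 2B -/
theorem pu_of (hp : p ≠ 2) {P : Subgroup (Y8 p)} (hf : Finite P) (h1 : ∀ x ∈ P, x ^ 2 = 1)
    (h2 : ∀ x ∈ P, x ≠ 1 → dd p x = 120) : DS.Nt.P8.Pu P :=
  ⟨ea_of Nat.prime_two hp.symm hf h1 (comm_of_sq h1), h2⟩

/-- a toral `r`-group with a fixed space of dimension `8` is centralized by no perfect group -/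
theorem perf_eq_bot {r : ℕ} (hr : r.Prime) {Q : Subgroup (Y8 p)} (hQ : ∀ x ∈ Q, ∃ n : ℕ, x ^ r ^ n = 1)
    (hT : DS.Ex.Toral p Q) (h8 : finrank (kb p) (Fx p (Q : Set (Y8 p))) = 8) {J : Subgroup (Y8 p)} (hJ : ⁅J, J⁆ = J)
    (hc : Q ≤ centralizer (J : Set (Y8 p))) : J = ⊥ := by
  obtain ⟨g, hg⟩ := hT
  have h1 := DS.Nt.Ps_empty tE8 hg h8
  have h2 := chi_perf tE8 hr (Q := DS.Nt.cS g Q) (fun t ht => ⟨DS.Nt.cS_sub hg ht, by
      obtain ⟨a, ha, rfl⟩ := ht
      obtain ⟨n, hn⟩ := hQ a ha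
      exact ⟨n, by rw [conj_pow, hn, mul_one, mul_inv_cancel]⟩⟩) (J := J.map (MulAut.conj g).toMonoidHom)
    (by rw [← map_commutator, hJ]) (by
      rintro _ ⟨j, hj, rfl⟩
      exact mem_centralizer_iff.2 fun t ht =>
        (DS.Nt.cS_comm (fun a ha => mem_centralizer_iff.1 (hc ha) j hj) t ht).symm)
  have h3 : DS.Nt.Mz tE8 p (DS.Nt.cS g Q) ≤ ⊥ := DS.Nt.Mz_le fun a ha => (h1 a ha).elim
  exact (map_eq_bot_iff_of_injective _ (MulAut.conj g).injective).1 (eq_bot_iff.2 (le_trans h2 h3))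

/-- no perfect group centralizes a pure group of order `16` -/
theorem pure16 (hp : p ≠ 2) {Q : Subgroup (Y8 p)} (hc : Nat.card Q = 16) (h1 : ∀ x ∈ Q, x ^ 2 = 1)
    (h2 : ∀ x ∈ Q, x ≠ 1 → dd p x = 120) {J : Subgroup (Y8 p)} (hJ : ⁅J, J⁆ = J)
    (hQ : Q ≤ centralizer (J : Set (Y8 p))) : J = ⊥ := by
  have h := pu_of hp (Nat.finite_of_card_ne_zero (by omega)) h1 h2
  have h3 := h.fx
  rw [hc] at h3
  exact perf_eq_bot Nat.prime_two (fun x hx => ⟨1, by rw [pow_one, h1 x hx]⟩) (DS.Nt.P8.toral16 h hc)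
    (by change finrank (H469.Exc.KK p) _ = 8; omega) hJ hQ

/-- automorphisms of the finite group are semilinear -/
theorem ext8 {L : Type} [Group L] (E : Fr8 p L) (θ : MulAut L) : (∀ x : L, dd p (E.ι (θ x)) = dd p (E.ι x)) ∧
    ∀ S : Set L, finrank (kb p) (Fx p (E.ι '' (θ '' S))) = finrank (kb p) (Fx p (E.ι '' S)) := by
  obtain ⟨y, m, h⟩ := FExt.exists_ext E H129.TorusChar.invC_E8 BpExc.FamInst.inv_E8 one_ne_zero (Or.inl rfl)
    (fun F _ => S1054.result _ (by simp)) (fun _ => H79.DiagSymm.eq_one_E8) θ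
  exact ⟨(Ext.of_ext h).1, (Ext.of_ext h).2.2⟩

section artin

open Cfsg.Agent.R2.T1.Art Cfsg.Agent.H657 IsLocalRing
open Cfsg.Agent.H952.F4 (ev)

/-- **Artin's formula** over `kb p`; values of `om`: `R2.T1.Art.om_one`, `om_prime`, `om_six`, `om_fifteen`, `om_comp`;
`H952.F4.ev (σ x) c` is `DS.NT.ev σ x c` by `rfl` -/
theorem artinK {W : Type} [AddCommGroup W] [Module (kb p) W] [FiniteDimensional (kb p) W] {T : Type} [Group T]
    [Fintype T] (hcard : ¬ p ∣ Nat.card T) (σ : T →* Module.End (kb p) W) :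
    (Fintype.card T : ℚ) * (finrank (kb p) (fx σ Set.univ) : ℚ) = ∑ x : T, om σ x := by
  classical
  have hfx : fx σ Set.univ = Representation.invariants σ := by
    ext v
    rw [Representation.mem_invariants]
    exact ⟨fun h g => h g trivial, fun h g _ => h g⟩
  rw [hfx]
  obtain ⟨M, hM⟩ := Blocks.ExistsModular.exists_isPModular (Fact.out : p.Prime)
  obtain ⟨V, hV⟩ := exists_above hM
  have hch : CharP (ResidueField V) p := hV.charP hM
  have hac : IsAlgClosed (ResidueField V) := Above.isAlgClosed V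
  obtain ⟨f⟩ : Nonempty (kb p →+* ResidueField V) := by
    let _ : Algebra (ZMod p) (ResidueField V) := ZMod.algebra _ p
    exact ⟨(IsAlgClosed.lift (R := ZMod p) (S := kb p) (M := ResidueField V)).toRingHom⟩
  have hT : (Fintype.card T : kb p) ≠ 0 := by
    intro h
    rw [CharP.cast_eq_zero_iff (kb p) p, ← Nat.card_eq_fintype_card] at h
    exact hcard h
  have hT' : (Fintype.card T : ResidueField V) ≠ 0 := by
    intro h
    rw [CharP.cast_eq_zero_iff (ResidueField V) p, ← Nat.card_eq_fintype_card] at h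
    exact hcard h
  let b := Module.finBasis (kb p) W
  let m := finrank (kb p) W
  let R : T →* Matrix (Fin m) (Fin m) (kb p) :=
    ((LinearMap.toMatrixAlgEquiv b : (W →ₗ[kb p] W) ≃ₐ[kb p] Matrix (Fin m) (Fin m) (kb p)) :
      (W →ₗ[kb p] W) →* _).comp σ
  let R' : T →* Matrix (Fin m) (Fin m) (ResidueField V) :=
    MonoidHom.comp (RingHom.toMonoidHom (f.mapMatrix (m := Fin m))) R
  let σ1 : Representation (kb p) T (Fin m → kb p) :=
    ((Matrix.toLinAlgEquiv' : Matrix (Fin m) (Fin m) (kb p) ≃ₐ[kb p] _) : Matrix (Fin m) (Fin m) (kb p) →* _).comp R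
  let σ2 : Representation (ResidueField V) T (Fin m → ResidueField V) :=
    ((Matrix.toLinAlgEquiv' : Matrix (Fin m) (Fin m) (ResidueField V) ≃ₐ[ResidueField V] _) :
      Matrix (Fin m) (Fin m) (ResidueField V) →* _).comp R'
  have e1 : ∀ g, σ1 g = b.equivFun.conj (σ g) := by
    intro g
    show Matrix.toLin' (LinearMap.toMatrix b b (σ g)) = _
    refine LinearMap.ext fun v => ?_
    rw [Matrix.toLin'_apply, LinearEquiv.conj_apply_apply]
    have h1 := LinearMap.toMatrix_mulVec_repr b b (σ g) (b.equivFun.symm v)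
    have h2 : (b.repr (b.equivFun.symm v) : Fin m → kb p) = v := b.equivFun.apply_symm_apply v
    rw [h2] at h1
    exact h1
  have hev1 : ∀ g μ, ev (σ1 g) μ = ev (σ g) μ := by
    intro g μ
    rw [e1]
    have h1 : Module.End.eigenspace (b.equivFun.conj (σ g)) μ =
        (Module.End.eigenspace (σ g) μ).map (b.equivFun : W →ₗ[kb p] _) := by
      ext v
      rw [Module.End.mem_eigenspace_iff, Submodule.mem_map]
      constructor
      · intro h
        refine ⟨b.equivFun.symm v, ?_, b.equivFun.apply_symm_apply v⟩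
        rw [Module.End.mem_eigenspace_iff]
        apply b.equivFun.injective
        rw [map_smul, b.equivFun.apply_symm_apply, ← h, LinearEquiv.conj_apply_apply]
      · rintro ⟨w, hw, rfl⟩
        rw [Module.End.mem_eigenspace_iff] at hw
        show b.equivFun.conj (σ g) (b.equivFun w) = μ • b.equivFun w
        rw [LinearEquiv.conj_apply_apply, b.equivFun.symm_apply_apply, hw, map_smul]
    rw [ev, h1, LinearEquiv.finrank_map_eq]
    rfl
  have hinv1 : finrank (kb p) ↥σ1.invariants = finrank (kb p) ↥(Representation.invariants σ) := by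
    have h1 : σ1.invariants = (Representation.invariants σ).map (b.equivFun : W →ₗ[kb p] _) := by
      ext v
      rw [Representation.mem_invariants, Submodule.mem_map]
      constructor
      · intro h
        refine ⟨b.equivFun.symm v, ?_, b.equivFun.apply_symm_apply v⟩
        rw [Representation.mem_invariants]
        intro g
        apply b.equivFun.injective
        rw [b.equivFun.apply_symm_apply]
        have h2 := h g
        rwa [e1, LinearEquiv.conj_apply_apply] at h2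
      · rintro ⟨w, hw, rfl⟩ g
        rw [Representation.mem_invariants] at hw
        rw [e1]
        show b.equivFun.conj (σ g) (b.equivFun w) = b.equivFun w
        rw [LinearEquiv.conj_apply_apply, b.equivFun.symm_apply_apply, hw g]
    rw [h1, LinearEquiv.finrank_map_eq]
  have hσ1 : ∀ g, σ1 g = Matrix.toLin' (R g) := fun g => rfl
  have hσ2 : ∀ g, σ2 g = Matrix.toLin' (R' g) := fun g => rfl
  have hinv2 : finrank (ResidueField V) ↥σ2.invariants = finrank (kb p) ↥σ1.invariants := by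
    rw [finrank_inv_rank hT R σ1 hσ1, finrank_inv_rank hT' R' σ2 hσ2]
    have h1 : ∑ g, R' g = (∑ g, R g).map f := by
      have h2 : (∑ g, R g).map f = f.mapMatrix (∑ g, R g) := rfl
      rw [h2, map_sum]
      rfl
    rw [h1, H593.RobinsonRank.rank_map]
  have hev2 : ∀ g, ev (σ2 g) 1 = ev (σ1 g) 1 := by
    intro g
    have h1 := H815.F4Chg.ev_map f (R g) 1
    rw [map_one] at h1
    exact h1
  have hom : ∀ x, om σ x = om σ2 x := by
    intro x
    unfold om
    congr 1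
    refine Finset.sum_congr rfl fun a _ => ?_
    rw [hev2, hev1]
  rw [Finset.sum_congr rfl fun x _ => hom x, ← artin_res hM hV hcard σ2, hinv2, hinv1]

end artin

end Cfsg.Agent.Cam.E8O
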