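import Cfsg.Agent.Cam.E8.OE16b

/-!
# S3690, the row `E₈`, the box E16 (helper75)
-/

set_option autoImplicit false
set_option linter.unusedSectionVars false

namespace Cfsg.Agent.Cam.E8O.E16

open Cfsg Cfsg.Lie Module
open Cfsg.Agent.KFacts.RgdChevCoord (TT)
open Cfsg.Agent.DS.Nt Cfsg.Agent.Cam.Odd Cfsg.Agent.Cam.Odd.Lin
open Cfsg.Agent.Cam.Ex (kb tE8)

namespace TG

variable {G G' : Type*} [Group G] [Group G'] {a b s : G} (h : TG a b s)
include h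

theorem map (f : G →* G') : TG (f a) (f b) (f s) where
  aa := by rw [← map_mul, h.aa, map_one]
  bb := by rw [← map_mul, h.bb, map_one]
  ab := by rw [← map_mul, h.ab, map_mul]
  sa := by rw [← map_mul, h.sa, map_mul]
  sb := by rw [← map_mul, h.sb, map_mul, map_mul]
  sss := by rw [← map_mul, ← map_mul, h.sss, map_one]

theorem swap : TG b a s⁻¹ where
  aa := h.bb
  bb := h.aa
  ab := h.ab.symm
  sa := by rw [← h.inv_b]; group
  sb := by rw [← h.ab, ← h.inv_a]; group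
  sss := by rw [← mul_inv_rev, ← mul_inv_rev, ← mul_assoc, h.sss, inv_one]

theorem left {u : G'} (hu : u * u * u = 1) : TG ((a, 1) : G × G') (b, 1) (s, u) where
  aa := Prod.ext h.aa (one_mul _)
  bb := Prod.ext h.bb (one_mul _)
  ab := Prod.ext h.ab rfl
  sa := Prod.ext h.sa ((mul_one _).trans (one_mul _).symm)
  sb := Prod.ext h.sb (show u * 1 = 1 * 1 * u by rw [mul_one, one_mul, one_mul])
  sss := Prod.ext h.sss hu

theorem right {u : G'} (hu : u * u * u = 1) : TG ((1, a) : G' × G) (1, b) (u, s) where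
  aa := Prod.ext (one_mul _) h.aa
  bb := Prod.ext (one_mul _) h.bb
  ab := Prod.ext rfl h.ab
  sa := Prod.ext ((mul_one _).trans (one_mul _).symm) h.sa
  sb := Prod.ext (show u * 1 = 1 * 1 * u by rw [mul_one, one_mul, one_mul]) h.sb
  sss := Prod.ext hu h.sss

/-- the four-group -/
def four : Subgroup G where
  carrier := {1, a, b, a * b}
  one_mem' := Or.inl rfl
  mul_mem' := by
    have h1 : a * (a * b) = b := by rw [← mul_assoc, h.aa, one_mul]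
    have h2 : b * (a * b) = a := by rw [h.ab, ← mul_assoc, h.bb, one_mul]
    have h3 : a * b * a = b := by rw [mul_assoc, ← h.ab, h1]
    have h4 : a * b * b = a := by rw [mul_assoc, h.bb, mul_one]
    have h5 : a * b * (a * b) = 1 := by rw [mul_assoc, h2, h.aa]
    rintro x y (rfl | rfl | rfl | rfl) (rfl | rfl | rfl | rfl) <;>
      simp [h.aa, h.bb, ← h.ab, h1, h2, h3, h4, h5]
  inv_mem' := by
    rintro x (rfl | rfl | rfl | rfl)
    · simp
    · simp [inv_eq_of_mul_eq_one_left h.aa]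
    · simp [inv_eq_of_mul_eq_one_left h.bb]
    · simp [inv_eq_of_mul_eq_one_left h.aa, inv_eq_of_mul_eq_one_left h.bb, h.ab]

end TG

variable {U : Type} [Group U] {x₁ x₂ t : U}

theorem tg_of (h : Tet x₁ x₂ t) : TG x₁ x₂ t := by
  have h1 : x₁ * x₁ = 1 := by rw [← pow_two, ← h.o1, pow_orderOf_eq_one]
  refine ⟨h1, ?_, h.comm, mul_inv_eq_iff_eq_mul.1 h.c1, mul_inv_eq_iff_eq_mul.1 h.c2, ?_⟩
  · rw [← h.c1, conj_mul, h1, mul_one, mul_inv_cancel]
  · rw [← pow_three', ← h.o3, pow_orderOf_eq_one]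

theorem card_four (h : Tet x₁ x₂ t) : Nat.card (tg_of h).four = 4 := by
  have h1 : x₁ ≠ 1 := fun e => by simpa [e] using h.o1
  have h2 : x₂ ≠ 1 := fun e => h1 (conj_eq_one_iff.1 (h.c1.trans e))
  have h3 : x₁ * x₂ ≠ 1 := fun e => h2 (conj_eq_one_iff.1 (h.c2.trans e))
  exact Set.ncard_eq_four.2 ⟨1, x₁, x₂, x₁ * x₂, h1.symm, h2.symm, h3.symm, h.ne, fun e => h2 (left_eq_mul.1 e),
    fun e => h1 (right_eq_mul.1 e), rfl⟩

variable {p : ℕ} [Fact p.Prime] {μ : U × U →* Y8 p}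

/-- conjugation -/
noncomputable def cm (g : Y8 p) (μ : U × U →* Y8 p) : U × U →* Y8 p := (MulAut.conj g).toMonoidHom.comp μ

theorem cm_apply (g : Y8 p) (μ : U × U →* Y8 p) (x : U × U) : cm g μ x = g * μ x * g⁻¹ := rfl

theorem dd_cm (g : Y8 p) (μ : U × U →* Y8 p) (x : U × U) : dd p (cm g μ x) = dd p (μ x) := by
  rw [cm_apply, dd_conj]

theorem conj_pt (h : PT p μ x₁ x₂ t) (g : Y8 p) : PT p (cm g μ) x₁ x₂ t :=
  ⟨(MulAut.conj g).injective.comp h.inj, h.tet, fun a ha b hb e => (dd_cm g μ _).trans (h.pure a ha b hb e)⟩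

theorem comm_mu (μ : U × U →* Y8 p) (a b : U) : μ (a, 1) * μ (1, b) = μ (1, b) * μ (a, 1) := by
  rw [← map_mul, ← map_mul, Prod.mk_mul_mk, Prod.mk_mul_mk, mul_one, one_mul, one_mul, mul_one]

variable (hp : p ≠ 2) (h : PT p μ x₁ x₂ t)
include hp h

theorem card_E : Nat.card (((tg_of h.tet).four.prod (tg_of h.tet).four).map μ) = 16 := by
  rw [Subgroup.card_map_of_injective h.inj, Nat.card_congr (Subgroup.prodEquiv _ _).toEquiv, Nat.card_prod,
    card_four h.tet]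

theorem pu_E : P8.Pu (((tg_of h.tet).four.prod (tg_of h.tet).four).map μ) := by
  have h1 : ∀ a ∈ (tg_of h.tet).four, a ^ 2 = 1 := by
    rintro a (rfl | rfl | rfl | rfl)
    · exact one_pow _
    · exact (pow_two _).trans (tg_of h.tet).aa
    · exact (pow_two _).trans (tg_of h.tet).bb
    · rw [(show Commute _ _ from h.tet.comm).mul_pow, pow_two, pow_two, (tg_of h.tet).aa, (tg_of h.tet).bb, one_mul]
  refine pu_of hp (Nat.finite_of_card_ne_zero (by rw [card_E hp h]; norm_num)) ?_ ?_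
  · rintro _ ⟨⟨a, b⟩, ⟨ha, hb⟩, rfl⟩
    rw [← map_pow, Prod.pow_mk, h1 a ha, h1 b hb]
    exact map_one μ
  · rintro _ ⟨⟨a, b⟩, ⟨ha, hb⟩, rfl⟩ e
    exact h.pure a ha b hb fun e' => e (by rw [e', map_one])

theorem qq : QQ (ad chevE8 p (μ (x₁, 1))) (ad chevE8 p (μ (x₂, 1))) (ad chevE8 p (μ (1, x₁)))
    (ad chevE8 p (μ (1, x₂))) := by
  have h1 := (pu_E hp h).fx
  have m0 : (1 : U) ∈ (tg_of h.tet).four := one_mem _
  have m1 : x₁ ∈ (tg_of h.tet).four := Or.inr (Or.inl rfl)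
  have m2 : x₂ ∈ (tg_of h.tet).four := Or.inr (Or.inr (Or.inl rfl))
  refine ⟨cm_of (comm_mu μ _ _), cm_of (comm_mu μ _ _), cm_of (comm_mu μ _ _), cm_of (comm_mu μ _ _),
    (pu_E hp h).two, P8.fr248, h.pure _ m1 _ m0 fun e => ?_, ?_⟩
  · have h2 := h.tet.o1
    rw [show x₁ = 1 from congrArg Prod.fst e, orderOf_one] at h2
    exact absurd h2 (by norm_num)
  · have h2 : Fx p ((((tg_of h.tet).four.prod (tg_of h.tet).four).map μ : Subgroup (Y8 p)) : Set (Y8 p)) =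
        ⊤ ⊓ E (ad chevE8 p (μ (x₁, 1))) 1 ⊓ E (ad chevE8 p (μ (x₂, 1))) 1 ⊓ E (ad chevE8 p (μ (1, x₁))) 1 ⊓
          E (ad chevE8 p (μ (1, x₂))) 1 := by
      refine le_antisymm (fun v hv => ⟨⟨⟨⟨trivial, mem_E1.2 (hv _ ⟨_, ⟨m1, m0⟩, rfl⟩)⟩, mem_E1.2 (hv _ ⟨_, ⟨m2, m0⟩, rfl⟩)⟩,
        mem_E1.2 (hv _ ⟨_, ⟨m0, m1⟩, rfl⟩)⟩, mem_E1.2 (hv _ ⟨_, ⟨m0, m2⟩, rfl⟩)⟩) ?_
      have key : ∀ (f : U →* Y8 p) v, ad chevE8 p (f x₁) v = v → ad chevE8 p (f x₂) v = v →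
          ∀ a ∈ (tg_of h.tet).four, ad chevE8 p (f a) v = v := by
        rintro f v e1 e2 a (rfl | rfl | rfl | rfl)
        · rw [map_one, ad_one]
        · exact e1
        · exact e2
        · rw [map_mul, ad_mul, e2, e1]
      rintro v ⟨⟨⟨⟨-, e1⟩, e2⟩, e3⟩, e4⟩ _ ⟨⟨a, b⟩, ⟨ha, hb⟩, rfl⟩
      have e5 : ad chevE8 p (μ (a, 1)) v = v := key (μ.comp (MonoidHom.inl U U)) v (mem_E1.1 e1) (mem_E1.1 e2) a ha
      have e6 : ad chevE8 p (μ (1, b)) v = v := key (μ.comp (MonoidHom.inr U U)) v (mem_E1.1 e3) (mem_E1.1 e4) b hb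
      rw [show ((a, b) : U × U) = (a, 1) * (1, b) by simp, map_mul, ad_mul, e6, e5]
    rw [card_E hp h, h2] at h1
    omega

theorem exists_tc : ∃ g : Y8 p, TC (cm g μ (x₁, 1)) (cm g μ (x₂, 1)) (cm g μ (1, x₁)) (cm g μ (1, x₂)) := by
  obtain ⟨g, hg⟩ := P8.toral16 (pu_E hp h) (card_E hp h)
  have m0 : (1 : U) ∈ (tg_of h.tet).four := one_mem _
  have m1 : x₁ ∈ (tg_of h.tet).four := Or.inr (Or.inl rfl)
  have m2 : x₂ ∈ (tg_of h.tet).four := Or.inr (Or.inr (Or.inl rfl))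
  have key : ∀ a ∈ (tg_of h.tet).four, ∀ b ∈ (tg_of h.tet).four, cm g μ (a, b) ∈ TT chevE8 (kb p) := fun a ha b hb => by
    rw [cm_apply]
    exact hg _ ⟨(a, b), ⟨ha, hb⟩, rfl⟩
  exact ⟨g, hp, key _ m1 _ m0, key _ m2 _ m0, key _ m0 _ m1, key _ m0 _ m2, qq hp (conj_pt h g)⟩

omit hp h in
theorem TC.swap {a₁ a₂ b₁ b₂ : Y8 p} (H : TC a₁ a₂ b₁ b₂) : TC a₁ a₂ b₂ b₁ :=
  ⟨H.ne, H.m1, H.m2, H.m4, H.m3, H.qq.c12, H.qq.c11, H.qq.c22, H.qq.c21, H.qq.two, H.qq.dim, H.qq.d1, by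
    rw [inf_right_comm]
    exact H.qq.d0⟩

omit hp h in
theorem boxE16 : BoxE16 := by
  intro p _ hp U _ μ x₁ x₂ t h
  have T := tg_of h.tet
  have o : (1 : U) * 1 * 1 = 1 := by simp
  have Q := qq hp h
  obtain ⟨g, H⟩ := exists_tc hp h
  let ν := cm g μ
  refine ⟨Q.diag_le ((T.left T.sss).map μ).to ((T.right T.sss).map μ).to, fun h3 => ?_, fun h3 => ⟨?_, ?_, ?_⟩⟩
  · have e : (3 : kb p) = 0 := by
      subst h3
      exact_mod_cast CharP.cast_eq_zero (kb 3) 3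
    have hA := (T.left o).map ν
    have hB := (T.right o).map ν
    have t1 := cm_of (comm_mu ν x₁ t)
    have t2 := cm_of (comm_mu ν x₂ t)
    rw [← dd_cm g]
    exact H.qq.three hA.to hB.to (cm_of (comm_mu ν t x₁)) (cm_of (comm_mu ν t x₂)) t1.symm t2.symm
      (cm_of (comm_mu ν t t)) e (H.eight e hA (comm_mu ν t x₁) (comm_mu ν t x₂)
        (H.qq.d16 hA.to hB.to (((Inv.top _).inf (t1.inv 1)).inf (t2.inv 1))))
  · rw [← dd_cm g]
    exact H.diag h3 ((T.left T.sss).map ν) ((T.right T.sss).map ν)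
  · rw [← dd_cm g]
    exact H.swap.diag h3 ((T.left T.swap.sss).map ν) ((T.swap.right T.sss).map ν)
  · have h1 := Q.last ((T.left o).map μ).to ((T.right o).map μ).to (cm_of (comm_mu μ x₁ t)).symm
      (cm_of (comm_mu μ x₂ t)).symm (cm_of (comm_mu μ t t))
    have h2 : Fx p {μ (x₁, 1), μ (1, t)} = E (ad chevE8 p (μ (1, t))) 1 ⊓ E (ad chevE8 p (μ (x₁, 1))) 1 :=
      le_antisymm (fun v hv => ⟨mem_E1.2 (hv _ (Or.inr rfl)), mem_E1.2 (hv _ (Or.inl rfl))⟩) (by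
        rintro v hv _ (rfl | rfl)
        exacts [mem_E1.1 hv.2, mem_E1.1 hv.1])
    rw [h2]
    exact h1

end Cfsg.Agent.Cam.E8O.E16
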