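import Cfsg.Agent.Cam.Odd.LinA

/-!
# S3690, the row `E₈`, the box E16: linear algebra (helper75)

Two commuting four-groups `⟨a₁, a₂⟩`, `⟨b₁, b₂⟩` on a space of dimension `248`.
-/

set_option autoImplicit false
set_option linter.unusedSectionVars false

namespace Cfsg.Agent.Cam.E8O.E16

open Module Cfsg.Agent.Cam.Odd.Lin

variable {K V : Type} [Field K] [AddCommGroup V] [Module K V] [FiniteDimensional K V]

/-- commuting operators -/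
def Cm (f g : Module.End K V) : Prop := ∀ v, f (g v) = g (f v)

theorem Cm.symm {f g : Module.End K V} (h : Cm f g) : Cm g f := fun v => (h v).symm

theorem Cm.inv {f g : Module.End K V} (h : Cm f g) (c : K) : Inv g (E f c) := inv_E h c

theorem inv_fix {a b s : Module.End K V} (h : TO a b s) {N : Submodule K V} (hN : Inv s N) :
    Inv s (N ⊓ E a 1 ⊓ E b 1) := fun v hv => by
  have h1 := h.wt (mem_E.1 hv.1.2) (mem_E.1 hv.2)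
  rw [one_mul] at h1
  exact ⟨⟨hN v hv.1.1, mem_E.2 h1.1⟩, mem_E.2 h1.2⟩

/-- a unipotent operator with `(s - 1) ^ 3 = 0` -/
theorem uni3 {n : Module.End K V} (hn : ∀ v, n (n (n v)) = 0) {N : Submodule K V} (hN : Inv n N) :
    finrank K N ≤ 3 * finrank K ↥(N ⊓ LinearMap.ker n) := by
  have l1 : N.map n ≤ N := by
    rintro _ ⟨v, hv, rfl⟩
    exact hN v hv
  have l2 : (N.map n).map n ≤ N.map n := Submodule.map_mono l1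
  have l3 : ((N.map n).map n).map n = ⊥ := by
    rw [eq_bot_iff]
    rintro _ ⟨_, ⟨_, ⟨v, _, rfl⟩, rfl⟩, rfl⟩
    exact (Submodule.mem_bot K).2 (hn v)
  have k1 := ker_map N n
  have k2 := ker_map (N.map n) n
  have k3 := ker_map ((N.map n).map n) n
  have k4 := Submodule.finrank_mono (inf_le_inf_right (LinearMap.ker n) l1)
  have k5 := Submodule.finrank_mono (inf_le_inf_right (LinearMap.ker n) (l2.trans l1))
  rw [l3, finrank_bot] at k3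
  omega

theorem ker_sub_one (s : Module.End K V) : LinearMap.ker (s - 1) = E s 1 := by
  ext v
  rw [LinearMap.mem_ker, mem_E1, LinearMap.sub_apply, Module.End.one_apply, sub_eq_zero]

theorem nil_of_three (h3 : (3 : K) = 0) {s : Module.End K V} (hs : ∀ v, s (s (s v)) = v) (v : V) :
    (s - 1) ((s - 1) ((s - 1) v)) = 0 := by
  simp only [LinearMap.sub_apply, Module.End.one_apply, map_sub, hs]
  linear_combination (norm := module) h3 • (s v - s (s v))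

theorem inv_sub_one {s : Module.End K V} {N : Submodule K V} (hN : Inv s N) : Inv (s - 1) N :=
  fun v hv => sub_mem (hN v hv) hv

theorem fix3 (h3 : (3 : K) = 0) {s : Module.End K V} (hs : ∀ v, s (s (s v)) = v) {N : Submodule K V} (hN : Inv s N) :
    finrank K N ≤ 3 * finrank K ↥(N ⊓ E s 1) := by
  rw [← ker_sub_one]
  exact uni3 (nil_of_three h3 hs) (inv_sub_one hN)

/-- a space spanned by fixed vectors and a small invariant subspace -/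
theorem fix_ge (h3 : (3 : K) = 0) {s : Module.End K V} (hs : ∀ v, s (s (s v)) = v) {M U : Submodule K V}
    (hU : Inv s U) (h : M ≤ E s 1 ⊔ U) : 3 * finrank K M ≤ 3 * finrank K ↥(M ⊓ E s 1) + 2 * finrank K U := by
  have h1 := map_le_add (s - 1) h
  have h2 : (E s 1).map (s - 1) = ⊥ := by
    rw [← ker_sub_one, eq_bot_iff]
    rintro _ ⟨v, hv, rfl⟩
    exact hv
  have h4 := ker_map M (s - 1)
  have h5 := ker_map U (s - 1)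
  have h6 := fix3 h3 hs hU
  rw [ker_sub_one] at h4 h5
  rw [h2, finrank_bot] at h1
  omega

/-- two commuting four-groups -/
structure QQ (a₁ a₂ b₁ b₂ : Module.End K V) : Prop where
  c11 : Cm a₁ b₁
  c12 : Cm a₁ b₂
  c21 : Cm a₂ b₁
  c22 : Cm a₂ b₂
  two : (2 : K) ≠ 0
  dim : finrank K V = 248
  d1 : finrank K (E a₁ 1) = 120
  d0 : finrank K ↥(⊤ ⊓ E a₁ 1 ⊓ E a₂ 1 ⊓ E b₁ 1 ⊓ E b₂ 1) = 8

namespace QQ

variable {a₁ a₂ b₁ b₂ s t k h : Module.End K V} (H : QQ a₁ a₂ b₁ b₂)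
include H

theorem i1 {N : Submodule K V} (hN : Inv b₁ N) : Inv b₁ (N ⊓ E a₁ 1 ⊓ E a₂ 1) :=
  (hN.inf (H.c11.inv 1)).inf (H.c21.inv 1)

theorem i2 {N : Submodule K V} (hN : Inv b₂ N) : Inv b₂ (N ⊓ E a₁ 1 ⊓ E a₂ 1) :=
  (hN.inf (H.c12.inv 1)).inf (H.c22.inv 1)

theorem d64 (hA : TO a₁ a₂ s) :
    finrank K ↥(⊤ ⊓ E a₁ 1 ⊓ E a₂ 1) = 56 ∧ finrank K ↥(⊤ ⊓ E a₁ 1 ⊓ E a₂ (-1)) = 64 := by
  obtain ⟨h1, h2, -⟩ := hA.dims (Inv.top _) H.two (Inv.top _) (Inv.top _)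
  have h3 := H.d1
  rw [← top_inf_eq (E a₁ 1)] at h3
  rw [finrank_top, H.dim] at h1
  omega

theorem d16 (hA : TO a₁ a₂ s) (hB : TO b₁ b₂ t) (ht : Inv t (⊤ ⊓ E a₁ 1 ⊓ E a₂ 1)) :
    finrank K ↥(⊤ ⊓ E a₁ 1 ⊓ E a₂ 1 ⊓ E b₁ 1 ⊓ E b₂ (-1)) = 16 := by
  have h1 := (hB.dims ht H.two (H.i1 (Inv.top _)) (H.i2 (Inv.top _))).1
  have h2 := (H.d64 hA).1
  have h3 := H.d0
  omega

/-- the diagonal elements -/
theorem diag (hA : TO a₁ a₂ k) (hB : TO b₁ b₂ k) :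
    finrank K (E k 1) = 80 + finrank K ↥(⊤ ⊓ E a₁ 1 ⊓ E a₂ 1 ⊓ E b₁ 1 ⊓ E b₂ 1 ⊓ E k 1) := by
  have ht := inv_fix hA (Inv.top _)
  have h1 := hA.fix (Inv.top _) H.two (Inv.top _) (Inv.top _)
  have h2 := hB.fix ht H.two (H.i1 (Inv.top _)) (H.i2 (Inv.top _))
  have h3 := (H.d64 hA).2
  have h4 := H.d16 hA hB ht
  rw [top_inf_eq (E k 1)] at h1
  omega

theorem diag_le (hA : TO a₁ a₂ k) (hB : TO b₁ b₂ k) : finrank K (E k 1) ≤ 88 := by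
  have h1 := H.diag hA hB
  have h2 := Submodule.finrank_mono (inf_le_left (a := ⊤ ⊓ E a₁ 1 ⊓ E a₂ 1 ⊓ E b₁ 1 ⊓ E b₂ 1) (b := E k 1))
  have h3 := H.d0
  omega

/-- the operators that commute with everything -/
theorem mod3 (hA : TO a₁ a₂ k) (hB : TO b₁ b₂ k) (h1 : Cm h a₁) (h2 : Cm h a₂) (h3 : Cm h b₁) (h4 : Cm h b₂)
    (h5 : Cm h k) (hF : ⊤ ⊓ E a₁ 1 ⊓ E a₂ 1 ⊓ E b₁ 1 ⊓ E b₂ 1 ≤ E h 1) : finrank K (E h 1) % 3 = 2 := by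
  have k1 := (hA.dims (h5.inv 1) H.two (h1.inv 1) (h2.inv 1)).1
  have k2 := (hB.dims (inv_fix hA (h5.inv 1)) H.two (H.i1 (h3.inv 1)) (H.i2 (h4.inv 1))).1
  have k3 : E h 1 ⊓ E a₁ 1 ⊓ E a₂ 1 ⊓ E b₁ 1 ⊓ E b₂ 1 = ⊤ ⊓ E a₁ 1 ⊓ E a₂ 1 ⊓ E b₁ 1 ⊓ E b₂ 1 :=
    le_antisymm (fun v hv => ⟨⟨⟨⟨trivial, hv.1.1.1.2⟩, hv.1.1.2⟩, hv.1.2⟩, hv.2⟩)
      fun v hv => ⟨⟨⟨⟨hF hv, hv.1.1.1.2⟩, hv.1.1.2⟩, hv.1.2⟩, hv.2⟩
  have k4 := H.d0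
  rw [k3] at k2
  omega

variable (hA : TO a₁ a₂ s) (hB : TO b₁ b₂ t) (s1 : Cm s b₁) (s2 : Cm s b₂) (t1 : Cm t a₁) (t2 : Cm t a₂) (st : Cm s t)
include hA hB t1 t2 st

/-- the last inequality -/
theorem last : 3 * finrank K ↥(E t 1 ⊓ E a₁ 1) ≤ finrank K (E t 1) + 48 := by
  have ht : Inv t (⊤ ⊓ E a₁ 1 ⊓ E a₂ 1) := ((Inv.top _).inf (t1.symm.inv 1)).inf (t2.symm.inv 1)
  obtain ⟨k1, k2, -⟩ := hA.dims (st.symm.inv 1) H.two (t1.inv 1) (t2.inv 1)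
  have k3 := hB.fix ht H.two (H.i1 (Inv.top _)) (H.i2 (Inv.top _))
  have k4 := H.d16 hA hB ht
  have k5 := Submodule.finrank_mono (inf_le_left (a := ⊤ ⊓ E a₁ 1 ⊓ E a₂ 1 ⊓ E b₁ 1 ⊓ E b₂ 1) (b := E t 1))
  have k6 := H.d0
  have k7 : ⊤ ⊓ E a₁ 1 ⊓ E a₂ 1 ⊓ E t 1 = E t 1 ⊓ E a₁ 1 ⊓ E a₂ 1 :=
    le_antisymm (fun v hv => ⟨⟨hv.2, hv.1.1.2⟩, hv.1.2⟩) fun v hv => ⟨⟨⟨trivial, hv.1.2⟩, hv.2⟩, hv.1.1⟩
  rw [k7] at k3
  omega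

include s1 s2

/-- characteristic three -/
theorem three (h3 : (3 : K) = 0)
    (h8 : 8 ≤ finrank K ↥(⊤ ⊓ E a₁ 1 ⊓ E a₂ 1 ⊓ E b₁ 1 ⊓ E b₂ (-1) ⊓ E s 1)) : 89 ≤ finrank K (E s 1) := by
  have ht : Inv t (⊤ ⊓ E a₁ 1 ⊓ E a₂ 1) := ((Inv.top _).inf (t1.symm.inv 1)).inf (t2.symm.inv 1)
  have k1 := hA.fix (Inv.top _) H.two (Inv.top _) (Inv.top _)
  have k2 := (hB.dims (ht.inf (st.inv 1)) H.two ((H.i1 (Inv.top _)).inf (s1.inv 1))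
    ((H.i2 (Inv.top _)).inf (s2.inv 1))).1
  have k3 := (H.d64 hA).2
  have k4 := fix3 h3 hA.sss (((inv_fix hA (Inv.top _)).inf (s1.symm.inv 1)).inf (s2.symm.inv 1))
  have k5 := H.d0
  have k6 : ∀ c : K, ⊤ ⊓ E a₁ 1 ⊓ E a₂ 1 ⊓ E s 1 ⊓ E b₁ 1 ⊓ E b₂ c = ⊤ ⊓ E a₁ 1 ⊓ E a₂ 1 ⊓ E b₁ 1 ⊓ E b₂ c ⊓ E s 1 :=
    fun c => le_antisymm (fun v hv => ⟨⟨⟨hv.1.1.1, hv.1.2⟩, hv.2⟩, hv.1.1.2⟩)
      fun v hv => ⟨⟨⟨hv.1.1.1, hv.2⟩, hv.1.1.2⟩, hv.1.2⟩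
  rw [k6, k6] at k2
  rw [top_inf_eq (E s 1)] at k1
  omega

end QQ

end Cfsg.Agent.Cam.E8O.E16
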