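import Cfsg.Agent.Cam.E8.OBasic
import Cfsg.Agent.Cam.E8.OE16a

/-!
# S3690, the row `E₈`, the box E16: a pure group of order `16` inside the torus (helper75)
-/

set_option autoImplicit false
set_option linter.unusedSectionVars false

namespace Cfsg.Agent.Cam.E8O.E16

open CoxeterSystem Cfsg Cfsg.Lie Cfsg.Lie.ChevalleyDatum Module
open Cfsg.Agent.ChevalleyStructure Cfsg.Agent.ChevalleyStructure.CoxeterGeom
  Cfsg.Agent.ChevalleyStructure.CoxeterGeomTypes
open Cfsg.Agent.Tits.Roots Cfsg.Agent.Tits.Core Cfsg.Agent.Nodes Cfsg.Agent.Nodes.RGDChev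
open Cfsg.Agent.KFacts.RgdChevCoord Cfsg.Agent.H469.Exc Cfsg.Agent.H129.TorusChar Cfsg.Agent.H582.KKL
open Cfsg.Agent.DS.Nt Cfsg.Agent.Cam.Odd.Lin
open Cfsg.Agent.Cam.Ex (kb tE8)
open Cfsg.Agent.BpExc.TorChev (TT_comm)

/-- the Coxeter system -/
local notation "cs₈" => CoxeterMatrix.toCoxeterSystem CoxeterMatrix.E₈

/-- the relations of `A₄` in a group -/
structure TG {G : Type*} [Group G] (a b s : G) : Prop where
  aa : a * a = 1
  bb : b * b = 1
  ab : a * b = b * a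
  sa : s * a = b * s
  sb : s * b = a * b * s
  sss : s * s * s = 1

theorem TG.inv_a {G : Type*} [Group G] {a b s : G} (h : TG a b s) : s⁻¹ * a * s = a * b := by
  have h1 : a = a * b * b := by rw [mul_assoc, h.bb, mul_one]
  have h2 : s * (a * b) = a * s := by
    rw [← mul_assoc, h.sa, mul_assoc, h.sb, h.ab, ← mul_assoc, ← mul_assoc, h.bb, one_mul]
  rw [mul_assoc, ← h2, inv_mul_cancel_left]

theorem TG.inv_b {G : Type*} [Group G] {a b s : G} (h : TG a b s) : s⁻¹ * b * s = a := by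
  rw [mul_assoc, ← h.sa, inv_mul_cancel_left]

variable {p : ℕ} [Fact p.Prime]

theorem cm_of {x y : Y8 p} (h : x * y = y * x) : Cm (ad chevE8 p x) (ad chevE8 p y) := fun v => by
  rw [← ad_mul, h, ad_mul]

theorem TG.to {a b s : Y8 p} (h : TG a b s) : TO (ad chevE8 p a) (ad chevE8 p b) (ad chevE8 p s) where
  aa v := by rw [← ad_mul, h.aa, ad_one]
  bb v := by rw [← ad_mul, h.bb, ad_one]
  ab := cm_of h.ab
  sa v := by rw [← ad_mul, h.sa, ad_mul]
  sb v := by rw [← ad_mul, h.sb, ad_mul, ad_mul]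
  sss v := by rw [← ad_mul, ← ad_mul, h.sss, ad_one]

theorem mem_E_tor {t : Y8 p} (ht : t ∈ TT chevE8 (kb p)) {c : kb p} {v : chevE8.Idx → kb p} :
    v ∈ E (ad chevE8 p t) c ↔ ∀ j, wtc tE8 t j ≠ c → v j = 0 := by
  rw [mem_E]
  constructor
  · intro h j hj
    have h2 := congrFun h j
    rw [ad_tor (hp := tE8) ht, Pi.smul_apply, smul_eq_mul] at h2
    by_contra h3
    exact hj (mul_right_cancel₀ h3 h2)
  · intro h
    funext j
    rw [ad_tor (hp := tE8) ht, Pi.smul_apply, smul_eq_mul]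
    by_cases hj : wtc tE8 t j = c
    · rw [hj]
    · rw [h j hj, mul_zero, mul_zero]

/-- the Cartan coordinates of a fixed vector -/
theorem inl_of_fix {w : CoxeterMatrix.E₈.Group} {k : Y8 p} (hk : RP tE8 p w k) {v : chevE8.Idx → kb p}
    (hv : ad chevE8 p k v = v) (i : Fin chevE8.rank) :
    v (Sum.inl i) = ∑ j, ((rep cs₈ tE8.isCartan w (sr (f8 j)) (f8 i) : ℤ) : kb p) * v (Sum.inl j) := by
  have hm := mono_of_rp tE8 p (locFin p) hk
  have h1 : ∑ y, ((k : GL chevE8.Idx (kb p)) : Matrix chevE8.Idx chevE8.Idx (kb p)) (Sum.inl i) y * v y =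
      v (Sum.inl i) := congrFun hv (Sum.inl i)
  rw [← h1, Fintype.sum_sum_type, Finset.sum_eq_zero (f := fun s => _ * v (Sum.inr s)) fun s _ => by
    rw [hm.lr, zero_mul], add_zero]
  exact Finset.sum_congr rfl fun j _ => by rw [hm.ll]

/-- the root vectors are permuted up to scalars -/
theorem ad_single {w : CoxeterMatrix.E₈.Group} {k : Y8 p} (hk : RP tE8 p w k) {s s' : Fin chevE8.nroots}
    (h : vec chevE8 8 s' = rep cs₈ tE8.isCartan w (vec chevE8 8 s)) :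
    ∃ c : kb p, ad chevE8 p k (Pi.single (Sum.inr s) 1) = c • Pi.single (Sum.inr s') 1 := by
  have hm := mono_of_rp tE8 p (locFin p) hk
  refine ⟨((k : GL chevE8.Idx (kb p)) : Matrix chevE8.Idx chevE8.Idx (kb p)) (Sum.inr s') (Sum.inr s), funext fun x => ?_⟩
  rw [ad_apply, Matrix.mulVec_single_one, Matrix.col_apply, Pi.smul_apply, smul_eq_mul]
  by_cases hx : x = Sum.inr s'
  · rw [hx, Pi.single_eq_same, mul_one]
  · rw [Pi.single_eq_of_ne hx, mul_zero]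
    rcases x with x | x
    · exact hm.lr x s
    · exact hm.rr x s fun e => hx (congrArg Sum.inr (Fin.ext (vec_inj tE8 x.2 s'.2 (e.trans h.symm))))

/-- an integral operator with `N ^ 2 = 3 N` that vanishes modulo two -/
theorem descent {N : (Fin 8 → ℤ) →+ (Fin 8 → ℤ)} (h1 : ∀ x, N (N x) = 3 • N x) (h2 : ∀ x j, 2 ∣ N x j)
    (x : Fin 8 → ℤ) : N x = 0 := by
  have key : ∀ n : ℕ, ∀ x j, (2 : ℤ) ^ n ∣ N x j := by
    intro n
    induction n with
    | zero => exact fun x j => by rw [pow_zero]; exact one_dvd _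
    | succ n ih =>
      intro x j
      choose y hy using h2 x
      have h3 : N x = 2 • y := funext fun i => by rw [hy, Pi.smul_apply, nsmul_eq_mul, Nat.cast_ofNat]
      have h4 := congrFun (h1 x) j
      rw [h3, map_nsmul, ← h3, Pi.smul_apply, Pi.smul_apply, nsmul_eq_mul, nsmul_eq_mul, Nat.cast_ofNat,
        Nat.cast_ofNat] at h4
      refine IsCoprime.dvd_of_dvd_mul_left (y := 3) (IsCoprime.pow_left ⟨-1, 1, by norm_num⟩) ?_
      rw [← h4, pow_succ']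
      exact mul_dvd_mul_left _ (ih y j)
  funext j
  refine Int.eq_zero_of_abs_lt_dvd (key (N x j).natAbs x j) ?_
  rw [← Int.natCast_natAbs]
  exact_mod_cast Nat.lt_two_pow_self

/-- the configuration inside the torus -/
structure TC (a₁ a₂ b₁ b₂ : Y8 p) : Prop where
  ne : p ≠ 2
  m1 : a₁ ∈ TT chevE8 (kb p)
  m2 : a₂ ∈ TT chevE8 (kb p)
  m3 : b₁ ∈ TT chevE8 (kb p)
  m4 : b₂ ∈ TT chevE8 (kb p)
  qq : QQ (ad chevE8 p a₁) (ad chevE8 p a₂) (ad chevE8 p b₁) (ad chevE8 p b₂)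

/-- the weights -/
def Wt (a₁ a₂ b₁ b₂ : Y8 p) (c : kb p) (j : chevE8.Idx) : Prop :=
  wtc tE8 a₁ j = 1 ∧ wtc tE8 a₂ j = 1 ∧ wtc tE8 b₁ j = 1 ∧ wtc tE8 b₂ j = c

namespace TC

variable {a₁ a₂ b₁ b₂ k s t : Y8 p} (H : TC a₁ a₂ b₁ b₂)
include H

theorem mem_wt {c : kb p} {v : chevE8.Idx → kb p} :
    v ∈ ⊤ ⊓ E (ad chevE8 p a₁) 1 ⊓ E (ad chevE8 p a₂) 1 ⊓ E (ad chevE8 p b₁) 1 ⊓ E (ad chevE8 p b₂) c ↔
      ∀ j, ¬ Wt a₁ a₂ b₁ b₂ c j → v j = 0 := by
  rw [top_inf_eq, Submodule.mem_inf, Submodule.mem_inf, Submodule.mem_inf, mem_E_tor H.m1, mem_E_tor H.m2,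
    mem_E_tor H.m3, mem_E_tor H.m4]
  constructor
  · rintro ⟨⟨⟨h1, h2⟩, h3⟩, h4⟩ j hj
    by_contra e
    exact hj ⟨not_not.1 fun h => e (h1 j h), not_not.1 fun h => e (h2 j h), not_not.1 fun h => e (h3 j h),
      not_not.1 fun h => e (h4 j h)⟩
  · exact fun h => ⟨⟨⟨fun j e => h j fun q => e q.1, fun j e => h j fun q => e q.2.1⟩,
      fun j e => h j fun q => e q.2.2.1⟩, fun j e => h j fun q => e q.2.2.2⟩

theorem no_root (r : Fin chevE8.nroots) : ¬ Wt a₁ a₂ b₁ b₂ 1 (Sum.inr r) := by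
  classical
  have h1 := finrank_of_coord (Wt a₁ a₂ b₁ b₂ 1) _ fun v => H.mem_wt (v := v)
  rw [H.qq.d0, card_sum_filter, Finset.filter_true_of_mem fun _ _ => ⟨rfl, rfl, rfl, rfl⟩, Finset.card_univ,
    Fintype.card_fin] at h1
  have h2 := tE8.rank_eq
  have h3 : (Finset.univ.filter fun b : Fin chevE8.nroots => Wt a₁ a₂ b₁ b₂ 1 (Sum.inr b)).card = 0 := by omega
  exact Finset.filter_eq_empty_iff.1 (Finset.card_eq_zero.1 h3) (Finset.mem_univ r)

theorem exists_rp (h1 : k⁻¹ * a₁ * k ∈ TT chevE8 (kb p)) (h2 : k⁻¹ * a₂ * k ∈ TT chevE8 (kb p))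
    (h3 : k⁻¹ * b₁ * k ∈ TT chevE8 (kb p)) (h4 : k⁻¹ * b₂ * k ∈ TT chevE8 (kb p)) : ∃ w, RP tE8 p w k := by
  have ht : ∀ i : Fin 4, ![a₁, a₂, b₁, b₂] i ∈ TT chevE8 (kb p) := fun i => by
    fin_cases i
    exacts [H.m1, H.m2, H.m3, H.m4]
  obtain ⟨m, hm, w, k', hk, -, e⟩ := form₂ tE8 (s := fun i : Fin 4 => k⁻¹ * ![a₁, a₂, b₁, b₂] i * k)
    (t := ![a₁, a₂, b₁, b₂]) (fun i => by
      fin_cases i
      exacts [h1, h2, h3, h4]) ht (c := k) fun i => by group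
  have h5 : Mz tE8 p (Set.range ![a₁, a₂, b₁, b₂]) ≤ ⊥ := Mz_le fun a ha => by
    obtain ⟨h6, h7⟩ := (mem_Ps (by rintro _ ⟨i, rfl⟩; exact ht i)).1 ha
    obtain ⟨r, hr, rfl⟩ := (isRoot_iff tE8 cs₈ a).1 h6
    exact (H.no_root ⟨r, hr⟩ ⟨h7 _ ⟨0, rfl⟩, h7 _ ⟨1, rfl⟩, h7 _ ⟨2, rfl⟩, h7 _ ⟨3, rfl⟩⟩).elim
  rw [Subgroup.mem_bot.1 (h5 hm), one_mul] at e
  exact ⟨w, e ▸ hk⟩

theorem eq_one (hA : TG a₁ a₂ k) (hB : TG b₁ b₂ k) {h : Y8 p} (hh : h ∈ TT chevE8 (kb p)) (h2 : h ^ 2 = 1)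
    (hk : k * h = h * k) : h = 1 := by
  by_contra e
  have h1 : dd p h % 3 = 2 := H.qq.mod3 hA.to hB.to (cm_of (TT_comm tE8 _ hh _ H.m1)) (cm_of (TT_comm tE8 _ hh _ H.m2))
    (cm_of (TT_comm tE8 _ hh _ H.m3)) (cm_of (TT_comm tE8 _ hh _ H.m4)) (cm_of hk.symm) fun v hv =>
      (mem_E_tor hh).2 fun j hj => by
        rcases j with j | j
        · exact absurd rfl hj
        · exact H.mem_wt.1 hv _ (H.no_root j)
  rcases dd2 H.ne h2 e with h3 | h3 <;> omega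

/-- the diagonal elements of order three, `p ≠ 3` -/
theorem diag (hp : p ≠ 3) (hA : TG a₁ a₂ k) (hB : TG b₁ b₂ k) : dd p k = 80 := by
  obtain ⟨w, hw⟩ := H.exists_rp (k := k) (by rw [hA.inv_a]; exact mul_mem H.m1 H.m2) (by rw [hA.inv_b]; exact H.m1)
    (by rw [hB.inv_a]; exact mul_mem H.m3 H.m4) (by rw [hB.inv_b]; exact H.m3)
  have h1 : w * w * w = 1 := ((hw.mul hw).mul hw).unique (RP.of_mem (by rw [hA.sss]; exact one_mem _))
  let W := rep cs₈ tE8.isCartan w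
  have h2 : ∀ x, W (W (W x)) = x := fun x => by
    rw [← rep_mul_apply, ← rep_mul_apply, h1, map_one, Module.End.one_apply]
  let N : (Fin 8 → ℤ) →+ (Fin 8 → ℤ) := AddMonoidHom.id _ + W.toAddMonoidHom + (W * W).toAddMonoidHom
  have hN : ∀ x, N x = x + W x + W (W x) := fun x => rfl
  have h3 : ∀ x, N (W x) = N x := fun x => by
    rw [hN, hN, h2]
    abel
  have h4 : ∀ x, N x = 0 := descent (fun x => by
    conv_lhs => rw [hN x, map_add, map_add, h3, h3, h3]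
    abel) fun x j => by
      obtain ⟨h, hh, e⟩ := exists_tor_zpow tE8 typ8 (c := (-1 : kb p)) (by norm_num)
        ((Pi.evalAddMonoidHom (fun _ : Fin 8 => ℤ) j).comp N)
      have h5 : h = 1 := H.eq_one hA hB hh (pow_eq_one_of_cX (hp := tE8) hh fun y => by
        rw [e, ← zpow_natCast, ← zpow_mul, mul_comm, zpow_mul]
        norm_num) (hw.comm hh fun y => by
          rw [e, e]
          exact congrArg (fun z : Fin 8 → ℤ => (-1 : kb p) ^ z j) (h3 y))
      have h6 : (-1 : kb p) ^ N x j = 1 := (e x).symm.trans (by rw [h5, cX_one])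
      by_contra h7
      rw [Odd.neg_one_zpow (Int.not_even_iff_odd.1 fun h8 => h7 h8.two_dvd)] at h6
      exact H.qq.two (by linear_combination -h6)
  have h5 := H.qq.diag hA.to hB.to
  refine h5.trans (congrArg (80 + ·) (Submodule.finrank_eq_zero.2 ((Submodule.eq_bot_iff _).2 fun v hv => ?_)))
  · have h6 := mem_E1.1 hv.2
    funext j
    rcases j with i | r
    · have e1 := inl_of_fix (RP.of_mem (one_mem _)) (ad_one v) i
      have e2 := inl_of_fix hw h6 i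
      have e3 := inl_of_fix (hw.mul hw) (by rw [ad_mul, h6, h6]) i
      have e4 : (3 : kb p) * v (Sum.inl i) = ∑ j, ((N (sr (f8 j)) (f8 i) : ℤ) : kb p) * v (Sum.inl j) := by
        refine (show (3 : kb p) * v (Sum.inl i) = v (Sum.inl i) + v (Sum.inl i) + v (Sum.inl i) by ring).trans
          ((congrArg₂ (· + ·) (congrArg₂ (· + ·) e1 e2) e3).trans ?_)
        rw [← Finset.sum_add_distrib, ← Finset.sum_add_distrib]
        refine Finset.sum_congr rfl fun j _ => ?_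
        rw [hN, map_one, rep_mul_apply, Pi.add_apply, Pi.add_apply, Int.cast_add, Int.cast_add, add_mul, add_mul]
        rfl
      rw [Finset.sum_eq_zero fun j _ => by rw [h4, Pi.zero_apply, Int.cast_zero, zero_mul]] at e4
      refine (mul_eq_zero.1 e4).resolve_left fun e => hp ?_
      exact (Nat.prime_dvd_prime_iff_eq Fact.out Nat.prime_three).1
        ((CharP.cast_eq_zero_iff (kb p) p 3).1 (by exact_mod_cast e))
    · exact H.mem_wt.1 hv.1 _ (H.no_root r)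

/-- characteristic three: the fixed vectors in a weight space of dimension `16` -/
theorem eight (h3 : (3 : kb p) = 0) (hA : TG a₁ a₂ s) (s1 : s * b₁ = b₁ * s) (s2 : s * b₂ = b₂ * s)
    (h16 : finrank (kb p) ↥(⊤ ⊓ E (ad chevE8 p a₁) 1 ⊓ E (ad chevE8 p a₂) 1 ⊓ E (ad chevE8 p b₁) 1 ⊓
      E (ad chevE8 p b₂) (-1)) = 16) :
    8 ≤ finrank (kb p) ↥(⊤ ⊓ E (ad chevE8 p a₁) 1 ⊓ E (ad chevE8 p a₂) 1 ⊓ E (ad chevE8 p b₁) 1 ⊓
      E (ad chevE8 p b₂) (-1) ⊓ E (ad chevE8 p s) 1) := by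
  classical
  have c1 : s⁻¹ * b₁ * s = b₁ := by rw [mul_assoc, ← s1, inv_mul_cancel_left]
  have c2 : s⁻¹ * b₂ * s = b₂ := by rw [mul_assoc, ← s2, inv_mul_cancel_left]
  obtain ⟨w, hw⟩ := H.exists_rp (k := s) (by rw [hA.inv_a]; exact mul_mem H.m1 H.m2) (by rw [hA.inv_b]; exact H.m1)
    (by rw [c1]; exact H.m3) (by rw [c2]; exact H.m4)
  have h1 : w * w * w = 1 := ((hw.mul hw).mul hw).unique (RP.of_mem (by rw [hA.sss]; exact one_mem _))
  choose σ hσ using fun r : Fin chevE8.nroots => (show ∃ r' : Fin chevE8.nroots,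
    vec chevE8 8 r' = rep cs₈ tE8.isCartan w (vec chevE8 8 r) from
      let ⟨r', hr, e⟩ := (isRoot_iff tE8 cs₈ _).1 ((isRoot_vec tE8 cs₈ r.2).act w); ⟨⟨r', hr⟩, e⟩)
  have hinj : ∀ r r' : Fin chevE8.nroots, vec chevE8 8 r = vec chevE8 8 r' → r = r' := fun r r' h =>
    Fin.ext (vec_inj tE8 r.2 r'.2 h)
  have hσ3 : ∀ r, σ (σ (σ r)) = r := fun r => hinj _ _ (by
    rw [hσ, hσ, hσ, ← rep_mul_apply, ← rep_mul_apply, h1, map_one, Module.End.one_apply])
  have hc : ∀ a b : Y8 p, s⁻¹ * a * s = b → b ∈ TT chevE8 (kb p) → ∀ r,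
      wtc tE8 a (Sum.inr (σ r)) = wtc tE8 b (Sum.inr r) := fun a b e hb r => by
    have h2 := hw.cX hb (vec chevE8 8 r)
    rw [← hσ, show s * b * s⁻¹ = a by rw [← e]; group] at h2
    exact h2
  have hR : ∀ r, Wt a₁ a₂ b₁ b₂ (-1) (Sum.inr r) → Wt a₁ a₂ b₁ b₂ (-1) (Sum.inr (σ r)) := fun r h =>
    ⟨(hc _ _ hA.inv_a (mul_mem H.m1 H.m2) r).trans ((cX_mul tE8 H.m1 H.m2 _).trans
      (by rw [show cX tE8 a₁ _ = 1 from h.1, one_mul]; exact h.2.1)), (hc _ _ hA.inv_b H.m1 r).trans h.1,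
      (hc _ _ c1 H.m3 r).trans h.2.2.1, (hc _ _ c2 H.m4 r).trans h.2.2.2⟩
  have hl : ∀ i, ¬ Wt a₁ a₂ b₁ b₂ (-1) (Sum.inl i) := fun i h => H.qq.two (by
    have h2 : (1 : kb p) = -1 := h.2.2.2
    linear_combination h2)
  set R := Finset.univ.filter fun r : Fin chevE8.nroots => Wt a₁ a₂ b₁ b₂ (-1) (Sum.inr r) with hRd
  have h2 : R.card = 16 := by
    have h2 := finrank_of_coord (Wt a₁ a₂ b₁ b₂ (-1)) _ fun v => H.mem_wt (v := v)
    rw [h16, card_sum_filter, Finset.filter_false_of_mem fun i _ => hl i, Finset.card_empty, zero_add] at h2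
    exact h2.symm
  have h4 : (R.filter fun r => σ r = r).card % 3 = 1 := by
    let f : Function.End {r : Fin chevE8.nroots // Wt a₁ a₂ b₁ b₂ (-1) (Sum.inr r)} := fun r => ⟨σ r, hR r r.2⟩
    have h4 := Equiv.Perm.card_fixedPoints_modEq (f := f) (p := 3) (n := 1) (funext fun r => Subtype.ext (hσ3 r))
    rw [Fintype.card_subtype, ← hRd, h2, ← Fintype.card_coe (R.filter fun r => σ r = r)] at *
    rw [← Fintype.card_congr (show f.fixedPoints ≃ (R.filter fun r => σ r = r) from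
      ⟨fun r => ⟨r.1.1, Finset.mem_filter.2 ⟨Finset.mem_filter.2 ⟨Finset.mem_univ _, r.1.2⟩, congrArg Subtype.val r.2⟩⟩,
        fun r => ⟨⟨r.1, (Finset.mem_filter.1 (Finset.mem_filter.1 r.2).1).2⟩, Subtype.ext (Finset.mem_filter.1 r.2).2⟩,
        fun _ => rfl, fun _ => rfl⟩)]
    exact h4.symm
  have h5 : (R.filter fun r => σ r = r).card ≠ 1 := fun e => by
    obtain ⟨r, hr⟩ := Finset.card_eq_one.1 e
    obtain ⟨h5, h6⟩ := Finset.mem_filter.1 (hr.ge (Finset.mem_singleton_self r))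
    have h7 := (Finset.mem_filter.1 h5).2
    obtain ⟨r', h8⟩ : ∃ r' : Fin chevE8.nroots, vec chevE8 8 r' = -vec chevE8 8 r :=
      let ⟨r', hr, e⟩ := (isRoot_iff tE8 cs₈ _).1 (isRoot_vec tE8 cs₈ r.2).neg; ⟨⟨r', hr⟩, e⟩
    have h9 : ∀ a ∈ TT chevE8 (kb p), wtc tE8 a (Sum.inr r') = (wtc tE8 a (Sum.inr r))⁻¹ := fun a ha => by
      show cX tE8 a (vec chevE8 8 r') = (cX tE8 a (vec chevE8 8 r))⁻¹
      rw [h8, (isMC_cX tE8 ha).neg]
    have h10 : r' = r := Finset.mem_singleton.1 (hr.le (Finset.mem_filter.2 ⟨Finset.mem_filter.2 ⟨Finset.mem_univ _,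
      by rw [h9 _ H.m1, h7.1, inv_one], by rw [h9 _ H.m2, h7.2.1, inv_one], by rw [h9 _ H.m3, h7.2.2.1, inv_one],
      by rw [h9 _ H.m4, h7.2.2.2, inv_neg_one]⟩, hinj _ _ (by rw [hσ, h8, map_neg, ← hσ, h6])⟩))
    rw [h10] at h8
    exact (isRoot_vec tE8 cs₈ r.2).ne_zero (self_eq_neg.1 h8)
  have h6 := Finset.card_filter_add_card_filter_not (s := R) fun r => σ r = r
  let e : Fin chevE8.nroots → chevE8.Idx → kb p := fun r => Pi.single (Sum.inr r) 1
  let U := Submodule.span (kb p) (((R.filter fun r => ¬ σ r = r).image e : Finset _) : Set (chevE8.Idx → kb p))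
  have h7 : finrank (kb p) U ≤ 12 :=
    ((finrank_span_finset_le_card _).trans Finset.card_image_le).trans (by omega)
  have hU : ∀ r, Wt a₁ a₂ b₁ b₂ (-1) (Sum.inr r) → σ r ≠ r → e r ∈ U := fun r h h' =>
    Submodule.subset_span (Finset.mem_coe.2 (Finset.mem_image_of_mem e
      (Finset.mem_filter.2 ⟨Finset.mem_filter.2 ⟨Finset.mem_univ _, h⟩, h'⟩)))
  have h8 := fix_ge h3 hA.to.sss (U := U) (M := ⊤ ⊓ E (ad chevE8 p a₁) 1 ⊓ E (ad chevE8 p a₂) 1 ⊓
    E (ad chevE8 p b₁) 1 ⊓ E (ad chevE8 p b₂) (-1))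
    (fun v hv => (show U ≤ U.comap (ad chevE8 p s) from Submodule.span_le.2 fun x hx => by
      obtain ⟨r, hr, rfl⟩ := Finset.mem_image.1 (Finset.mem_coe.1 hx)
      obtain ⟨h8, h9⟩ := Finset.mem_filter.1 hr
      obtain ⟨c, hc⟩ := ad_single hw (hσ r)
      show ad chevE8 p s (Pi.single (Sum.inr r) 1) ∈ U
      rw [hc]
      refine U.smul_mem c (hU _ (hR r (Finset.mem_filter.1 h8).2) fun h => h9 ?_)
      have h10 := hσ3 r
      rwa [h, h] at h10) hv)
    fun v hv => by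
      rw [pi_eq_sum_univ' v]
      refine Submodule.sum_mem _ fun j _ => ?_
      by_cases hj : Wt a₁ a₂ b₁ b₂ (-1) j
      · refine Submodule.smul_mem _ _ ?_
        rcases j with i | r
        · exact (hl i hj).elim
        · by_cases h : σ r = r
          · refine Submodule.mem_sup_left (mem_E1.2 ?_)
            obtain ⟨c, hc⟩ := ad_single hw (hσ r)
            rw [h] at hc
            have h9 := congrFun (hA.to.sss (Pi.single (Sum.inr r) 1)) (Sum.inr r)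
            rw [hc, map_smul, hc, map_smul, map_smul, hc] at h9
            simp only [Pi.smul_apply, Pi.single_eq_same, smul_eq_mul, mul_one] at h9
            have h10 : c = 1 := sub_eq_zero.1 (pow_eq_zero_iff three_ne_zero |>.1 (by
              linear_combination h9 + (c - c * c) * h3))
            rw [hc, h10, one_smul]
          · exact Submodule.mem_sup_right (hU r hj h)
      · rw [H.mem_wt.1 hv j hj, zero_smul]
        exact zero_mem _
  have h9 := h8.trans (Nat.add_le_add_left (Nat.mul_le_mul_left 2 h7) _)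
  omega

end TC

end Cfsg.Agent.Cam.E8O.E16
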