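import Cfsg.Agent.Cam.E8.OIface
import Cfsg.Agent.Cam.Ex.Grp5
import Cfsg.Agent.H692.NSyl
import Cfsg.Agent.H93.ThreeNine
import Cfsg.Agent.SignalizersComponents.ComponentExists

/-!
# S3690, the row `E₈`, odd characteristic: `BoxGrp8` (helper93, task 517)

A perfect `{2, 3, 5}`-group with trivial centre, of order not divisible by `25`, `81`, in which no element of order five acts
without fixed points on a group `2 ^ 4`, is `A₅` or `A₆`.
-/

set_option autoImplicit false

namespace Cfsg.Agent.Cam.E8O.Grp8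

open Cfsg Subgroup
open scoped commutatorElement

/-- the number of the fixed points of an automorphism of order five -/
theorem card_mod {M : Type} [Group M] [Finite M] (σ : MulAut M) (h5 : σ ^ 5 = 1) (W F : Subgroup M)
    (hW : ∀ x ∈ W, σ x ∈ W) (hF : ∀ x, x ∈ F ↔ x ∈ W ∧ σ x = x) : Nat.card W ≡ Nat.card F [MOD 5] := by
  classical
  have : Fact (Nat.Prime 5) := ⟨by norm_num⟩
  have := Fintype.ofFinite W
  let f : Function.End W := fun x => ⟨σ x, hW x x.2⟩
  have hf : ∀ (n : ℕ) (x : W), ((f ^ n) x : M) = (σ ^ n) x := by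
    intro n
    induction n with
    | zero => intro x; rfl
    | succ n ih =>
      intro x
      rw [pow_succ, pow_succ, MulAut.mul_apply, ← ih ⟨σ x, hW x x.2⟩]
      rfl
  have h1 : f ^ 5 ^ 1 = 1 := by
    funext x
    refine Subtype.ext ?_
    rw [pow_one, hf, h5]
    rfl
  have h2 := Equiv.Perm.card_fixedPoints_modEq (p := 5) (n := 1) h1
  rw [← Nat.card_eq_fintype_card, ← Nat.card_eq_fintype_card] at h2
  have e : Function.fixedPoints f ≃ F :=
    { toFun := fun x => ⟨x.1.1, (hF _).2 ⟨x.1.2, congrArg Subtype.val x.2⟩⟩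
      invFun := fun y => ⟨⟨y.1, ((hF _).1 y.2).1⟩, Subtype.ext ((hF _).1 y.2).2⟩
      left_inv := fun _ => rfl
      right_inv := fun _ => rfl }
  rwa [Nat.card_congr e] at h2

/-- an automorphism of order five of an elementary abelian `2`-group acts freely on a subgroup of order `16` -/
theorem exists_sixteen {M : Type} [CommGroup M] [Finite M] (h2 : ∀ x : M, x ^ 2 = 1) (σ : MulAut M) (h5 : σ ^ 5 = 1)
    {n : M} (hn : σ n ≠ n) :
    ∃ W : Subgroup M, Nat.card W = 16 ∧ (∀ x ∈ W, σ x ∈ W) ∧ ∀ x ∈ W, σ x = x → x = 1 := by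
  have hs : ∀ x, σ (σ (σ (σ (σ x)))) = x := fun x => by
    have h := DFunLike.congr_fun h5 x
    simpa only [pow_succ, pow_zero, one_mul, MulAut.mul_apply, MulAut.one_apply] using h
  obtain ⟨a, ha⟩ : ∃ a, a = n⁻¹ * σ n := ⟨_, rfl⟩
  have ha1 : a ≠ 1 := fun h => hn (by rw [ha, inv_mul_eq_one] at h; exact h.symm)
  let K : Subgroup M :=
    { carrier := {x | x * σ x * σ (σ x) * σ (σ (σ x)) * σ (σ (σ (σ x))) = 1}
      one_mem' := by simp
      mul_mem' := by
        intro x y hx hy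
        simp only [Set.mem_ofPred_eq, map_mul] at hx hy ⊢
        calc _ = (x * σ x * σ (σ x) * σ (σ (σ x)) * σ (σ (σ (σ x)))) *
            (y * σ y * σ (σ y) * σ (σ (σ y)) * σ (σ (σ (σ y)))) := by ac_rfl
          _ = 1 := by rw [hx, hy, one_mul]
      inv_mem' := by
        intro x hx
        simp only [Set.mem_ofPred_eq, map_inv] at hx ⊢
        rw [← mul_inv, ← mul_inv, ← mul_inv, ← mul_inv, hx, inv_one] }
  have hK : ∀ x, x ∈ K ↔ x * σ x * σ (σ x) * σ (σ (σ x)) * σ (σ (σ (σ x))) = 1 := fun x => Iff.rfl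
  have hKs : ∀ x ∈ K, σ x ∈ K := by
    intro x hx
    rw [hK] at hx ⊢
    rw [← map_mul, ← map_mul, ← map_mul, ← map_mul, hx, map_one]
  have haK : a ∈ K := by
    rw [hK, ha]
    simp only [map_mul, map_inv]
    rw [hs]
    group
  let φ : (zpowers a × zpowers (σ a)) × (zpowers (σ (σ a)) × zpowers (σ (σ (σ a)))) →* M :=
    ((zpowers a).subtype.coprod (zpowers (σ a)).subtype).coprod
      ((zpowers (σ (σ a))).subtype.coprod (zpowers (σ (σ (σ a)))).subtype)
  have hφ : ∀ u, φ u = (u.1.1 * u.1.2) * (u.2.1 * u.2.2) := fun u => rfl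
  have m0 : a ∈ φ.range := ⟨((⟨a, mem_zpowers _⟩, 1), (1, 1)), by simp [hφ]⟩
  have m1 : σ a ∈ φ.range := ⟨((1, ⟨_, mem_zpowers _⟩), (1, 1)), by simp [hφ]⟩
  have m2 : σ (σ a) ∈ φ.range := ⟨((1, 1), (⟨_, mem_zpowers _⟩, 1)), by simp [hφ]⟩
  have m3 : σ (σ (σ a)) ∈ φ.range := ⟨((1, 1), (1, ⟨_, mem_zpowers _⟩)), by simp [hφ]⟩
  have m4 : σ (σ (σ (σ a))) ∈ φ.range := by
    have h := (hK a).1 haK
    rw [eq_inv_of_mul_eq_one_right h]
    exact inv_mem (mul_mem (mul_mem (mul_mem m0 m1) m2) m3)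
  have hle : ∀ T : Subgroup M, a ∈ T → σ a ∈ T → σ (σ a) ∈ T → σ (σ (σ a)) ∈ T → φ.range ≤ T := by
    rintro T h0 h1 h2 h3 _ ⟨u, rfl⟩
    rw [hφ]
    exact mul_mem (mul_mem (zpowers_le.2 h0 u.1.1.2) (zpowers_le.2 h1 u.1.2.2))
      (mul_mem (zpowers_le.2 h2 u.2.1.2) (zpowers_le.2 h3 u.2.2.2))
  have hinv : ∀ x ∈ φ.range, σ x ∈ φ.range := fun x hx =>
    hle (φ.range.comap σ.toMonoidHom) m1 m2 m3 m4 hx
  have hfix : ∀ x ∈ φ.range, σ x = x → x = 1 := by
    intro x hx h
    have h1 := (hK x).1 (hle K haK (hKs _ haK) (hKs _ (hKs _ haK)) (hKs _ (hKs _ (hKs _ haK))) hx)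
    rw [h, h, h, h] at h1
    calc x = x * (x ^ 2 * x ^ 2) := by rw [h2, one_mul, mul_one]
      _ = x * x * x * x * x := by simp only [pow_two, mul_assoc]
      _ = 1 := h1
  refine ⟨φ.range, ?_, hinv, hfix⟩
  have hz : ∀ x : M, Nat.card (zpowers x) ∣ 2 := fun x => by
    rw [Nat.card_zpowers]
    exact orderOf_dvd_of_pow_eq_one (h2 x)
  have hd : Nat.card φ.range ∣ 2 ^ 4 := by
    refine (Subgroup.card_dvd_of_surjective φ.rangeRestrict φ.rangeRestrict_surjective).trans ?_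
    rw [Nat.card_prod, Nat.card_prod, Nat.card_prod]
    exact (mul_dvd_mul (mul_dvd_mul (hz _) (hz _)) (mul_dvd_mul (hz _) (hz _))).trans (by norm_num)
  have hm := card_mod σ h5 φ.range ⊥ hinv fun x =>
    ⟨fun h => by rw [mem_bot.1 h]; exact ⟨one_mem _, map_one σ⟩, fun h => mem_bot.2 (hfix x h.1 h.2)⟩
  rw [card_bot] at hm
  have hne : Nat.card φ.range ≠ 1 := fun h => ha1 (mem_bot.1 (Subgroup.card_eq_one.1 h ▸ m0))
  obtain ⟨k, hk, hc⟩ := (Nat.dvd_prime_pow Nat.prime_two).1 hd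
  rw [hc] at hm hne ⊢
  interval_cases k
  · exact absurd rfl hne
  · exact absurd hm (by decide)
  · exact absurd hm (by decide)
  · exact absurd hm (by decide)
  · rfl

/-- an automorphism of order five of a `3`-group of order at most `27` is trivial -/
theorem fix_three {M : Type} [Group M] [Finite M] (h3 : ∀ x : M, x ^ 3 = 1) (h81 : ¬ 81 ∣ Nat.card M) (σ : MulAut M)
    (h5 : σ ^ 5 = 1) (n : M) : σ n = n := by
  have : Fact (Nat.Prime 3) := ⟨Nat.prime_three⟩
  let F : Subgroup M := σ.toMonoidHom.eqLocus (MonoidHom.id M)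
  have hm := card_mod σ h5 ⊤ F (fun _ _ => trivial) fun x => ⟨fun h => ⟨trivial, h⟩, fun h => h.2⟩
  have hp : IsPGroup 3 M := fun x => ⟨1, by rw [pow_one, h3]⟩
  obtain ⟨a, ha⟩ := hp.exists_card_eq
  have hd : Nat.card F ∣ 3 ^ a := ha ▸ card_subgroup_dvd_card F
  obtain ⟨b, hb, hc⟩ := (Nat.dvd_prime_pow Nat.prime_three).1 hd
  have ha3 : a ≤ 3 := by
    by_contra h
    exact h81 (ha ▸ (pow_dvd_pow 3 (by omega : 4 ≤ a)))
  rw [card_top, ha, hc] at hm
  have hab : b = a := by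
    interval_cases a <;> interval_cases b <;> first | rfl | exact absurd hm (by decide)
  have hF : F = ⊤ := eq_top_of_card_eq F (by rw [hc, ha, hab])
  have hn : n ∈ F := hF ▸ mem_top n
  exact hn

theorem solv_of {X : Type} [Group X] [Finite X] (h : ∀ r : ℕ, r.Prime → r ∣ Nat.card X → r = 2 ∨ r = 3 ∨ r = 5)
    (h5 : ¬ 5 ∣ Nat.card X) : Group.IsSolvable X := by
  refine SolvableStructure.HallConverse.isSolvable_of_no_three_primes ?_
  have hle : (Nat.card X).primeFactors ⊆ {2, 3} := by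
    intro r hr
    have hd := Nat.dvd_of_mem_primeFactors hr
    rcases h r (Nat.prime_of_mem_primeFactors hr) hd with rfl | rfl | rfl
    · simp
    · simp
    · exact absurd hd h5
  exact (Finset.card_le_card hle).trans (by decide)

/-- a homomorphism from a perfect group to a solvable group is trivial -/
theorem hom_eq_one {X Y : Type} [Group X] [Group Y] (hX : ⁅(⊤ : Subgroup X), (⊤ : Subgroup X)⁆ = ⊤)
    (hY : Group.IsSolvable Y) (f : X →* Y) (x : X) : f x = 1 := by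
  obtain ⟨n, hn⟩ := hY.solvable
  have h1 : ∀ k, derivedSeries X k = ⊤ := by
    intro k
    induction k with
    | zero => rfl
    | succ k ih => rw [derivedSeries_succ, ih, hX]
  have h2 := map_derivedSeries_le_derivedSeries f n
  rw [hn, h1] at h2
  exact mem_bot.1 (h2 ⟨x, trivial, rfl⟩)

theorem five_dvd_index {X : Type} [Group X] [Finite X] (hX : ⁅(⊤ : Subgroup X), (⊤ : Subgroup X)⁆ = ⊤)
    (h : ∀ r : ℕ, r.Prime → r ∣ Nat.card X → r = 2 ∨ r = 3 ∨ r = 5) (C : Subgroup X) [C.Normal] (hC : C ≠ ⊤) :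
    5 ∣ C.index := by
  by_contra h5
  have hs : Group.IsSolvable (X ⧸ C) :=
    solv_of (fun r hr hd => h r hr (hd.trans (card_quotient_dvd_card C))) h5
  refine hC (eq_top_iff.2 fun x _ => ?_)
  exact (QuotientGroup.eq_one_iff x).1 (hom_eq_one hX hs (QuotientGroup.mk' C) x)

section main

variable {R : Type} [Group R] [Finite R]

/-- there is no normal elementary abelian subgroup -/
theorem no_abelian (hX : ⁅(⊤ : Subgroup R), (⊤ : Subgroup R)⁆ = ⊤) (hZ : center R = ⊥)
    (h : ∀ r : ℕ, r.Prime → r ∣ Nat.card R → r = 2 ∨ r = 3 ∨ r = 5) (h25 : ¬ 25 ∣ Nat.card R) (h81 : ¬ 81 ∣ Nat.card R)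
    (h16 : ∀ (N : Subgroup R) (y : R), Nat.card N = 16 → (∀ n ∈ N, n ^ 2 = 1) → orderOf y = 5 →
      (∀ n ∈ N, y * n * y⁻¹ ∈ N) → ∃ n ∈ N, n ≠ 1 ∧ y * n = n * y)
    (N : Subgroup R) [N.Normal] (hN : N ≠ ⊥) (hc : ∀ a ∈ N, ∀ b ∈ N, a * b = b * a) {r : ℕ} (hr : r.Prime)
    (he : ∀ a ∈ N, a ^ r = 1) : False := by
  have : Fact (Nat.Prime 5) := ⟨by norm_num⟩
  have hC : centralizer (N : Set R) ≠ ⊤ := by
    intro hC
    refine hN (eq_bot_iff.2 fun x hx => ?_)
    rw [← hZ, mem_center_iff]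
    intro g
    have hg : g ∈ centralizer (N : Set R) := hC ▸ mem_top g
    exact (mem_centralizer_iff.1 hg x hx).symm
  have h5 := five_dvd_index hX h (centralizer (N : Set R)) hC
  have h5C : ¬ 5 ∣ Nat.card (centralizer (N : Set R)) := fun hd =>
    h25 ((centralizer (N : Set R)).card_mul_index ▸ mul_dvd_mul hd h5)
  obtain ⟨y, hy⟩ := exists_prime_orderOf_dvd_card' (G := R) 5 (h5.trans (index_dvd_card _))
  have hyC : y ∉ centralizer (N : Set R) := fun hm => h5C (hy ▸ orderOf_dvd_natCard _ hm)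
  obtain ⟨n, hn, hyn⟩ : ∃ n ∈ N, ¬ n * y = y * n := by
    by_contra hcon
    refine hyC (mem_centralizer_iff.2 fun n hn => ?_)
    by_contra h1
    exact hcon ⟨n, hn, h1⟩
  have hσ5 : (MulAut.conjNormal y : MulAut N) ^ 5 = 1 := by rw [← map_pow, ← hy, pow_orderOf_eq_one, map_one]
  have hσn : (MulAut.conjNormal y : MulAut N) ⟨n, hn⟩ ≠ ⟨n, hn⟩ := by
    intro h1
    have h2 : y * n * y⁻¹ = n := congrArg Subtype.val h1
    exact hyn (by rw [← h2, inv_mul_cancel_right, h2])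
  obtain ⟨⟨x, hx⟩, hx1⟩ := ne_bot_iff_exists_ne_one.1 hN
  have hx1' : x ≠ 1 := fun h1 => hx1 (Subtype.ext h1)
  have : Fact r.Prime := ⟨hr⟩
  have hox : orderOf x = r := orderOf_eq_prime (he x hx) hx1'
  rcases h r hr (hox ▸ _root_.orderOf_dvd_natCard x) with rfl | rfl | rfl
  · let _ : CommGroup N := { (inferInstance : Group N) with mul_comm := fun a b => Subtype.ext (hc _ a.2 _ b.2) }
    obtain ⟨W, h1, h2, h3⟩ := exists_sixteen (M := N) (fun a => Subtype.ext (he _ a.2)) _ hσ5 hσn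
    obtain ⟨_, ⟨m, hm, rfl⟩, h4, h6⟩ := h16 (W.map N.subtype) y (by rw [card_map_of_injective N.subtype_injective, h1])
      (by rintro _ ⟨m, -, rfl⟩; exact he _ m.2) hy (by rintro _ ⟨m, hm, rfl⟩; exact ⟨_, h2 m hm, rfl⟩)
    refine h4 ?_
    rw [h3 m hm (Subtype.ext ?_), map_one]
    show y * m * y⁻¹ = m
    have h7 : y * (m : R) = m * y := h6
    rw [h7, mul_inv_cancel_right]
  · exact hσn (fix_three (fun a => Subtype.ext (he _ a.2)) (fun hd => h81 (hd.trans (card_subgroup_dvd_card N))) _ hσ5 _)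
  · have hxC : x ∈ centralizer (N : Set R) := mem_centralizer_iff.2 fun a ha => hc a ha x hx
    exact h5C (hox ▸ orderOf_dvd_natCard _ hxC)

theorem exists_min [Nontrivial R] (K : Subgroup R) [K.Normal] (hK : K ≠ ⊥) : ∃ N : Subgroup R, N ≤ K ∧ N.Normal ∧ N ≠ ⊥ ∧
    ∀ M : Subgroup R, M.Normal → M ≤ N → M = ⊥ ∨ M = N := by
  obtain ⟨N, ⟨h1, h2, h3⟩, h4⟩ := exists_minimal_of_wellFoundedLT
    (fun N : Subgroup R => N ≤ K ∧ N.Normal ∧ N ≠ ⊥) ⟨K, le_rfl, inferInstance, hK⟩
  refine ⟨N, h1, h2, h3, fun M hM hle => ?_⟩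
  by_cases hb : M = ⊥
  · exact Or.inl hb
  · exact Or.inr (le_antisymm hle (h4 ⟨hle.trans h1, hM, hb⟩ hle))

end main

/-- **Task 517.** -/
theorem boxGrp8 : BoxGrp8 := by
  intro big R _ _ hnt hX hZ h h25 h81 h16
  have nos : ∀ K : Subgroup R, K.Normal → Group.IsSolvable K → K = ⊥ := by
    intro K _ hs
    by_contra hK
    obtain ⟨N, h1, h2, h3, h4⟩ := exists_min K hK
    obtain ⟨h5, r, hr, h6⟩ := H692.NSyl.elementary_of_minimal N h2 h3 h4
      (SignalizersComponents.ComponentExists.isSolvable_of_le h1 hs)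
    exact no_abelian hX hZ h h25 h81 h16 N h3 h5 hr h6
  obtain ⟨N, -, hNn, hN, hmin⟩ := exists_min (⊤ : Subgroup R) top_ne_bot
  have hNs : ¬ Group.IsSolvable N := fun hs => hN (nos N hNn hs)
  have hdN : Nat.card N ∣ Nat.card R := card_subgroup_dvd_card N
  have hN3 : ∀ r : ℕ, r.Prime → r ∣ Nat.card N → r = 2 ∨ r = 3 ∨ r = 5 := fun r hr hd => h r hr (hd.trans hdN)
  have chr : ∀ K : Subgroup N, K.Characteristic → K = ⊥ ∨ K = ⊤ := by
    intro K _
    rcases hmin (K.map N.subtype) inferInstance (map_subtype_le K) with h1 | h1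
    · exact Or.inl ((map_eq_bot_iff_of_injective K N.subtype_injective).1 h1)
    · refine Or.inr (map_injective N.subtype_injective ?_)
      rw [h1, ← MonoidHom.range_eq_map, range_subtype]
  have hNc : ¬ IsMulCommutative N := fun hc => hNs (Group.isSolvable_of_comm fun a b => hc.is_comm.comm a b)
  have hper : ⁅(⊤ : Subgroup N), (⊤ : Subgroup N)⁆ = ⊤ := by
    rcases chr (commutator N) inferInstance with h1 | h1
    · refine absurd ⟨⟨fun a b => ?_⟩⟩ hNc
      have h2 : ⁅a, b⁆ ∈ commutator N := commutator_mem_commutator (mem_top a) (mem_top b)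
      rw [h1, mem_bot, commutatorElement_eq_one_iff_mul_comm] at h2
      exact h2
    · exact h1
  have : Nontrivial N := (Subgroup.nontrivial_iff_ne_bot N).2 hN
  have hsim : IsSimpleGroup N := by
    refine ⟨fun K hK => ?_⟩
    by_contra hcon
    rw [not_or] at hcon
    have h5 := five_dvd_index hper hN3 K hcon.2
    have h5K : ¬ 5 ∣ Nat.card K := fun hd => h25 ((K.card_mul_index ▸ mul_dvd_mul hd h5 : 25 ∣ Nat.card N).trans hdN)
    have hKs : Group.IsSolvable K := solv_of (fun r hr hd => hN3 r hr (hd.trans (card_subgroup_dvd_card K))) h5K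
    obtain ⟨O, h1, h2, h3⟩ := SignalizersComponents.ComponentExists.exists_solvableRadical N
    rcases chr O h1 with h4 | h4
    · exact hcon.1 (le_bot_iff.1 (h4 ▸ h3 K hK hKs))
    · rw [h4] at h2
      exact hNs (Group.isSolvable_of_surjective (f := (⊤ : Subgroup N).subtype) fun x => ⟨⟨x, trivial⟩, rfl⟩)
  have h5N : 5 ∣ Nat.card N := by
    by_contra h5
    exact hNs (solv_of hN3 h5)
  have hCb : centralizer (N : Set R) = ⊥ := by
    refine nos _ inferInstance (solv_of (fun r hr hd => h r hr (hd.trans (card_subgroup_dvd_card _))) fun hd => h25 ?_)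
    have hZN : center N = ⊥ := by
      rcases hsim.eq_bot_or_eq_top_of_normal (center N) inferInstance with h1 | h1
      · exact h1
      · refine absurd ⟨⟨fun a b => ?_⟩⟩ hNc
        have h2 : b ∈ center N := h1 ▸ mem_top b
        exact mem_center_iff.1 h2 a
    have hi : Function.Injective ((QuotientGroup.mk' N).comp (centralizer (N : Set R)).subtype) := by
      rw [injective_iff_map_eq_one]
      intro c hc
      have h1 : (c : R) ∈ N := (QuotientGroup.eq_one_iff _).1 hc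
      have h2 : (⟨c, h1⟩ : N) ∈ center N :=
        mem_center_iff.2 fun g => Subtype.ext (mem_centralizer_iff.1 c.2 g g.2)
      rw [hZN, mem_bot] at h2
      exact Subtype.ext (congrArg (fun z : N => (z : R)) h2)
    have h3 : 5 ∣ N.index := hd.trans (card_dvd_of_injective _ hi)
    exact N.card_mul_index ▸ mul_dvd_mul h5N h3
  have htop : N = ⊤ := by
    refine eq_top_iff.2 fun g _ => ?_
    have h1 := hom_eq_one hX (big.sch N) ((QuotientGroup.mk' (Cfsg.Inn N)).comp MulAut.conjNormal) g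
    obtain ⟨t, ht⟩ := (QuotientGroup.eq_one_iff _).1 h1
    have h2 : (t : R)⁻¹ * g ∈ centralizer (N : Set R) := by
      refine mem_centralizer_iff.2 fun n hn => ?_
      have h3 : (t : R) * n * (t : R)⁻¹ = g * n * g⁻¹ := by
        have h4 : MulAut.conj t (⟨n, hn⟩ : N) = MulAut.conjNormal g (⟨n, hn⟩ : N) := DFunLike.congr_fun ht _
        exact congrArg (fun z : N => (z : R)) h4
      calc n * ((t : R)⁻¹ * g) = (t : R)⁻¹ * ((t : R) * n * (t : R)⁻¹) * g := by group
        _ = (t : R)⁻¹ * g * n := by rw [h3]; group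
    rw [hCb, mem_bot, inv_mul_eq_one] at h2
    exact h2 ▸ t.2
  have e : R ≃* N := (topEquiv.symm.trans (MulEquiv.subgroupCongr htop.symm))
  rcases Ex.Grp5.list5 big hNc (fun r hr hd => by rcases hN3 r hr hd with rfl | rfl | rfl <;> norm_num) with
    ⟨⟨f⟩⟩ | ⟨⟨f⟩⟩ | ⟨F, _, _, hF, ⟨f⟩⟩
  · exact Or.inl ⟨e.trans f⟩
  · exact Or.inr ⟨e.trans f⟩
  · refine absurd (Dvd.dvd.trans ?_ hdN) h81
    rw [Nat.card_congr f.toEquiv, H93.ThreeNine.card_psu_four_two hF]
    norm_num

end Cfsg.Agent.Cam.E8O.Grp8
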