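import Cfsg.Agent.Cam.E8.OIface
import Cfsg.Agent.Cam.Ex.Chi
import Cfsg.Agent.Cam.Odd.NTAbs
import Cfsg.Agent.DS.Nt.P8
import Cfsg.Agent.DS.Nt.Cnt
import Cfsg.Agent.E8A.Reg5.Kil
import Cfsg.Agent.E8A.Fix.FrmTor
import Cfsg.Agent.E8A.Inf.Form
import Cfsg.Agent.H378.UnipCent
import Cfsg.Agent.H384.KC.BZero

/-!
# S3690, the box `BoxIso` (helper42)

* `unip` : an element of order `p` of the centralizer gives a fixed vector; `kac` : the functional of an element which is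
  not isolated; `semi` : the elements of prime power order; `noroot` : toral subgroups without roots; `boxIso`.
-/

set_option autoImplicit false
set_option maxRecDepth 100000

namespace Cfsg.Agent.Cam.E8O.Iso

open Cfsg Cfsg.Lie Subgroup Module CoxeterSystem Matrix
open Cfsg.Agent.ChevalleyStructure Cfsg.Agent.ChevalleyStructure.LieAbs Cfsg.Agent.ChevalleyStructure.LieAut
  Cfsg.Agent.ChevalleyStructure.CoxeterGeom Cfsg.Agent.ChevalleyStructure.CoxeterGeomTypes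
open Cfsg.Agent.Tits.Roots Cfsg.Agent.Nodes.BNOf Cfsg.Agent.Nodes.RGDChev Cfsg.Agent.KFacts.RgdChevCoord
open Cfsg.Agent.H469.Exc Cfsg.Agent.H129.TorusChar Cfsg.Agent.H931.KC
open Cfsg.Agent.Cam.Ex Cfsg.Agent.DS.Nt
open Cfsg.Agent.E8A (G8 L8 mx act adm)
open Cfsg.Agent.H288.E8L (wt)
open Cfsg.Agent.Cam.Odd.NT (Fl Gr unip_eq_one)

/-! ### elements of order `p` -/

section Lie

variable {K : Type} [Field K]

/-- the linear form attached to `g` -/
noncomputable def lam (g : G8 K) : L8 K →ₗ[K] K where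
  toFun y := (mx g * adm y).trace
  map_add' x y := by rw [E8A.adm_add, Matrix.mul_add, Matrix.trace_add]
  map_smul' c y := by rw [E8A.adm_smul, Matrix.mul_smul, Matrix.trace_smul, RingHom.id_apply]

theorem lam_apply (g : G8 K) (y : L8 K) : lam g y = (mx g * adm y).trace := rfl

theorem lam_conj (c g : G8 K) (y : L8 K) : lam (c * g * c⁻¹) (act c y) = lam g y := by
  have e : mx (c * g * c⁻¹) = mx c * mx g * mx c⁻¹ := rfl
  rw [lam_apply, lam_apply, e, Matrix.mul_assoc, Matrix.mul_assoc, Matrix.trace_mul_comm, Matrix.mul_assoc,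
    Matrix.mul_assoc, ← E8A.adm_conj, ← Matrix.mul_assoc (mx c⁻¹), E8A.mx_inv_mul, Matrix.one_mul]

/-- from forms to vectors -/
theorem lam_zero {J : Set (G8 K)} (hJ : ∀ v : L8 K, (∀ y ∈ J, act y v = v) → v = 0) {z : G8 K}
    (hz : ∀ y ∈ J, y * z = z * y) : lam z = 0 := by
  have hi : Function.Injective (E8A.Inf.kf K) := by
    rw [injective_iff_map_eq_zero]
    exact fun x hx => E8A.Inf.kf_nd fun y => by rw [hx]; rfl
  have hs : Function.Surjective (E8A.Inf.kf K) :=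
    (LinearMap.injective_iff_surjective_of_finrank_eq_finrank (Subspace.dual_finrank_eq (K := K)).symm).1 hi
  obtain ⟨m, hm⟩ := hs (lam z)
  rw [← hm, hJ m fun c hc => hi (LinearMap.ext fun y => ?_), map_zero]
  have h1 := lam_conj c z (act c⁻¹ y)
  rw [hz c hc, mul_inv_cancel_right, E8A.act_inv'] at h1
  rw [E8A.Inf.kf_act', hm, h1]

/-- the height -/
def lvl (i : chevE8.Idx) : ℤ := psi (fun _ : Fin 8 => (1 : ℤ)) (wt i)

theorem gr8 : Gr (adR chevE8 K) lvl := fun j i k h => by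
  have h1 := H288.E8L.adA_wt j i k fun h0 => h (by
    show ((JacMain.adA chevE8 j i k : ℤ) : K) = 0
    rw [h0, Int.cast_zero])
  unfold lvl
  rw [h1, map_add]

theorem fl_xr {r : Fin chevE8.nroots} (h0 : 0 ≤ vec chevE8 8 r) (c : K) : Fl lvl 1 (mx (E8A.xr r c) - 1) := by
  intro i k h
  obtain ⟨m, hm, e⟩ := E8A.xr_sub_entry r c h
  have h1 := H384.KC.ht_pos tE8 (H288.E8L.rt_vec r) h0
  unfold lvl
  rw [e, map_add, map_zsmul, smul_eq_mul]
  nlinarith

end Lie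

variable {p : ℕ} [Fact p.Prime] {J : Subgroup (Y8 p)}

theorem cast_ne {n : ℤ} (h0 : 0 < n) (hn : n < p) : (n : KK p) ≠ 0 := fun h =>
  absurd (Int.le_of_dvd h0 ((CharP.intCast_eq_zero_iff (KK p) p n).1 h)) (by omega)

theorem nofix (hF : Fx p (J : Set (Y8 p)) = ⊥) (v : L8 (KK p)) (h : ∀ y ∈ (J : Set (Y8 p)), act y v = v) : v = 0 :=
  (Submodule.eq_bot_iff _).1 hF v h

theorem unip (h7 : 7 ≤ p) (hF : Fx p (J : Set (Y8 p)) = ⊥) {z : Y8 p} (hz : z ∈ centralizer (J : Set (Y8 p)))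
    (hp : z ^ p = 1) : z = 1 := by
  have h0 : lam z = 0 := lam_zero (nofix hF) (mem_centralizer_iff.1 hz)
  have h00 : lam (1 : Y8 p) = 0 := lam_zero (nofix hF) fun y _ => by rw [mul_one, one_mul]
  obtain ⟨g, -, hg⟩ := H378.UnipCent.exists_conj tE8 CoxeterMatrix.E₈.toCoxeterSystem (locFin p) (p := p)
    (one_mem (TT chevE8 (KK p))) (u := z) (by rw [mul_one, one_mul]) (j := 1) (by rwa [pow_one])
  have h1 : Fl lvl 1 (mx (g * z * g⁻¹) - 1) := by
    refine Subgroup.iSup_induction _ (C := fun y => Fl lvl 1 (mx y - 1)) hg (fun a y hy => ?_) ?_ fun x y hx hy => ?_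
    · obtain ⟨r, hr⟩ := H288.E8L.exists_idx a.2.1.1
      have h2 : 0 ≤ vec chevE8 8 r := hr ▸ a.2.2
      rw [← hr] at hy
      obtain ⟨c, rfl⟩ := E8A.mem_XX_iff.1 hy
      exact fl_xr h2 c
    · show Fl lvl 1 ((1 : Matrix chevE8.Idx chevE8.Idx (KK p)) - 1)
      rw [sub_self]
      exact Fl.zero _
    · show Fl lvl 1 (mx x * mx y - 1)
      have e : mx x * mx y - 1 = (mx x - 1) * (mx y - 1) + (mx x - 1) + (mx y - 1) := by noncomm_ring
      rw [e]
      exact (((hx.mul hy).mono (by norm_num)).add hx).add hy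
  have h6 : mx (g * z * g⁻¹) = 1 := unip_eq_one (JacAll.jacR_all chevE8 H942.E8Tab.e8T.inList (KK p)) gr8
    (fun v hv => E8A.Reg5.Aut.kf_nondeg (E8A.Reg5.Aut.sixty_ne p h7) fun x => (E8A.Reg5.Aut.kf_comm x v).trans (hv x))
    (E8A.adm_conj _) h1 (k := 0) (by rw [Nat.cast_zero]; exact zero_ne_one) fun y => by
      have h2 := lam_conj g z (act g⁻¹ y)
      rw [E8A.act_inv', h0] at h2
      have h3 := LinearMap.congr_fun h00 y
      rw [pow_zero]
      exact h3.trans h2.symm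
  exact conj_eq_one_iff.1 (Subtype.ext (Units.ext h6))

/-! ### semisimple elements -/

theorem typ8 : DS.Ex.Typ chevE8 := Or.inr (Or.inr (Or.inr rfl))

/-- the functional of an element which is not isolated -/
theorem kac {n : ℕ} {c : Fin 8 → ℕ} {c0 : ℕ} (Kc : Kac chevE8 8 n c c0) (hex : ∃ i, c i ≠ 0) :
    (∃ i, hr chevE8 8 i * c i = n ∧ ∀ x, bb c x = x i * c i) ∨
      ∃ f : (Fin 8 → ℤ) →+ ℤ, (∀ a, Rt tE8 a → (n : ℤ) ∣ bb c a → f a = 0) ∧ ∃ x, 0 < f x ∧ f x ≤ 6 := by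
  have hpos : ∀ f : (Fin 8 → ℤ) →+ ℤ, (∀ a, Rt tE8 a → 0 ≤ a → (n : ℤ) ∣ bb c a → f a = 0) →
      ∀ a, Rt tE8 a → (n : ℤ) ∣ bb c a → f a = 0 := by
    intro f hf a ha hd
    rcases ha.pos_or_neg with h0 | h0
    · exact hf a ha h0 hd
    · have h1 := hf (-a) ha.neg (neg_nonneg.2 h0) (by rw [map_neg]; exact hd.neg_right)
      rwa [map_neg, neg_eq_zero] at h1
  obtain ⟨i, hi⟩ := hex
  by_cases h0 : c0 = 0
  · by_cases h1 : ∀ j, j ≠ i → c j = 0
    · left
      have hb : ∀ x, bb c x = x i * c i := fun x => by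
        show ∑ j, x j * (c j : ℤ) = _
        rw [Finset.sum_eq_single i]
        · intro j _ hj
          rw [h1 j hj, Nat.cast_zero, mul_zero]
        · intro h
          exact absurd (Finset.mem_univ i) h
      have h3 := bb_hr Kc
      rw [hb, h0] at h3
      exact ⟨i, by simpa using h3, hb⟩
    · right
      push Not at h1
      obtain ⟨j, hji, hj⟩ := h1
      refine ⟨hr chevE8 8 j • psi (sr i) - hr chevE8 8 i • psi (sr j), hpos _ fun a ha ha0 hd => ?_, sr i, ?_⟩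
      · show hr chevE8 8 j * psi (sr i) a - hr chevE8 8 i * psi (sr j) a = 0
        rw [psi_sr_left, psi_sr_left]
        rcases (dvd_iff tE8 Kc ha ha0).1 hd with h2 | ⟨-, h2⟩
        · rw [not_not.1 fun h => hi (h2 i h), not_not.1 fun h => hj (h2 j h)]
          ring
        · rw [not_not.1 fun h => hi (h2 i h), not_not.1 fun h => hj (h2 j h)]
          ring
      · have e : (hr chevE8 8 j • psi (sr i) - hr chevE8 8 i • psi (sr j)) (sr i) = hr chevE8 8 j := by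
          show hr chevE8 8 j * psi (sr i) (sr i) - hr chevE8 8 i * psi (sr j) (sr i) = _
          rw [psi_sr_left, psi_sr_left, sr_self, sr_ne hji]
          ring
        rw [e]
        exact ⟨hr_pos tE8 j, hr_le tE8 typ8 j⟩
  · right
    refine ⟨psi (sr i), hpos _ fun a ha ha0 hd => ?_, sr i, ?_⟩
    · rw [psi_sr_left]
      rcases (dvd_iff tE8 Kc ha ha0).1 hd with h2 | ⟨h2, -⟩
      · exact not_not.1 fun h => hi (h2 i h)
      · exact absurd h2 h0
    · rw [psi_sr_left, sr_self]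
      norm_num

/-- the conjugate of `J` lies in the group of the roots killed by `Q` -/
theorem conj_le (hJ : ⁅J, J⁆ = J) {r : ℕ} (hr' : r.Prime) (g : Y8 p) {Q : Set (Y8 p)}
    (hQ : ∀ t ∈ Q, t ∈ TT chevE8 (KK p) ∧ ∃ n : ℕ, t ^ r ^ n = 1)
    (hc : ∀ y ∈ J, ∀ t ∈ Q, t * (g * y * g⁻¹) = (g * y * g⁻¹) * t) {y : Y8 p} (hy : y ∈ J) :
    g * y * g⁻¹ ∈ MS chevE8 8 p (PsiS tE8 Q) :=
  chi_perf tE8 hr' hQ (J := J.map (MulAut.conj g).toMonoidHom) (by rw [← map_commutator, hJ])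
    (by rintro _ ⟨x, hx, rfl⟩; exact mem_centralizer_iff.2 (hc x hx)) ⟨y, hy, rfl⟩

theorem semi (h7 : 7 ≤ p) (hJ : ⁅J, J⁆ = J) (hF : Fx p (J : Set (Y8 p)) = ⊥) {z : Y8 p}
    (hz : z ∈ centralizer (J : Set (Y8 p))) {r n : ℕ} (hr' : r.Prime) (hrp : r ≠ p) (ho : orderOf z = r ^ (n + 1)) :
    ∃ i, hr chevE8 8 i = (r ^ (n + 1) : ℕ) ∧ z ∈ Om tE8 p (r ^ (n + 1)) i := by
  have hz1 : z ^ r ^ (n + 1) = 1 := by rw [← ho, pow_orderOf_eq_one]
  have hN : 0 < r ^ (n + 1) := pow_pos hr'.pos _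
  obtain ⟨g, hg⟩ := exists_conj_T tE8 hr' hrp hz1
  have : NeZero ((r ^ (n + 1) : ℕ) : KK p) := ⟨by rw [Nat.cast_pow]; exact pow_ne_zero _ (cast_ne_zero hr' hrp)⟩
  obtain ⟨ζ, hζ⟩ := HasEnoughRootsOfUnity.exists_primitiveRoot (KK p) (r ^ (n + 1))
  obtain ⟨w, c, c0, Kc, h2, -⟩ := exists_kac' tE8 hN hζ hg (by rw [conj_pow, hz1, mul_one, mul_inv_cancel])
  obtain ⟨k, h3, h4⟩ := exists_move (hp := tE8) hg w
  have e1 : k * g * z * (k * g)⁻¹ = k * (g * z * g⁻¹) * k⁻¹ := by group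
  rw [← e1] at h3 h4
  generalize k * g = g' at h3 h4
  have h5 : ∀ x, cX tE8 (g' * z * g'⁻¹) x = ζ ^ bb c x := fun x => by rw [h4, h2]; rfl
  have hord : ∀ m : ℕ, (∀ x, ((r ^ (n + 1) : ℕ) : ℤ) ∣ bb c x * m) → r ^ (n + 1) ∣ m := fun m hm => by
    have h6 := pow_eq_one_of_cX (hp := tE8) h3 (n := m) fun x => by
      rw [h5, ← zpow_natCast, ← _root_.zpow_mul, hζ.zpow_eq_one_iff_dvd]
      exact hm x
    rw [conj_pow, conj_eq_one_iff] at h6
    rw [← ho]
    exact orderOf_dvd_of_pow_eq_one h6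
  have hex : ∃ i, c i ≠ 0 := by
    by_contra h
    push Not at h
    have h6 := hord 1 fun x => by
      show _ ∣ (∑ i, x i * (c i : ℤ)) * _
      rw [Finset.sum_eq_zero fun i _ => by rw [h i, Nat.cast_zero, mul_zero], zero_mul]
      exact dvd_zero _
    exact absurd (Nat.dvd_one.1 h6) (Nat.one_lt_pow (Nat.succ_ne_zero n) hr'.one_lt).ne'
  rcases kac Kc hex with ⟨i, h6, h8⟩ | ⟨f, hf, x, hx0, hx6⟩
  · obtain ⟨m, hm⟩ := Int.eq_ofNat_of_zero_le (hr_pos tE8 i).le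
    have h9 := hord m fun x => ⟨x i, by rw [h8, ← h6, hm]; ring⟩
    have h10 : m * c i = r ^ (n + 1) := by rw [hm] at h6; exact_mod_cast h6
    have h11 : m = r ^ (n + 1) := Nat.dvd_antisymm ⟨_, h10.symm⟩ h9
    have h12 : c i = 1 := Nat.eq_of_mul_eq_mul_left hN (by rw [mul_one, ← h11, h10, h11])
    exact ⟨i, by rw [hm, h11], g', ζ, hζ, h3, fun x => by rw [h5, h8, h12, Nat.cast_one, mul_one]⟩
  · exfalso
    obtain ⟨h, hT, hl⟩ := E8A.Frm.exists_inT ((Int.castAddHom (KK p)).comp f)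
    have h6 : ∀ y ∈ (J : Set (Y8 p)), act y (act g'⁻¹ h) = act g'⁻¹ h := fun y hy => by
      have h8 := E8A.Frm.Sup_le_stab hT (S := PsiS tE8 {g' * z * g'⁻¹}) (fun a ha => ⟨ha.1, by
          have h9 := ha.2 _ rfl
          rw [← cX_rt h3 ha.1, h5, hζ.zpow_eq_one_iff_dvd] at h9
          rw [hl]
          show ((f a : ℤ) : KK p) = 0
          rw [hf a ha.1 h9, Int.cast_zero]⟩)
        (conj_le hJ hr' g' (fun t ht => by
          rw [ht]
          exact ⟨h3, n + 1, by rw [conj_pow, hz1, mul_one, mul_inv_cancel]⟩)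
          (fun y hy t ht => by rw [ht]; exact conj_comm (mem_centralizer_iff.1 hz y hy).symm) hy)
      have h9 := congrArg (act g'⁻¹) (E8A.mem_stab.1 h8)
      rwa [E8A.act_mul, E8A.act_mul, E8A.act_inv] at h9
    have h8 := congrArg (act g') (nofix hF _ h6)
    rw [E8A.act_inv', E8A.act_zero] at h8
    have h9 := hl x
    rw [h8] at h9
    refine cast_ne (p := p) hx0 (by omega) (h9.symm.trans ?_)
    exact Finset.sum_eq_zero fun i _ => mul_zero _

/-- toral subgroups without roots -/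
theorem noroot (hJ : ⁅J, J⁆ = J) (hF : Fx p (J : Set (Y8 p)) = ⊥) {r : ℕ} {Q : Subgroup (Y8 p)} (h : EL p r Q)
    (hQ : Q ≤ centralizer (J : Set (Y8 p))) (hT : DS.Ex.Toral p Q) (h8 : finrank (KK p) (Fx p (Q : Set (Y8 p))) = 8) :
    False := by
  obtain ⟨g, hg⟩ := hT
  have h1 := Ps_empty tE8 hg h8
  have h2 : ∀ y ∈ (J : Set (Y8 p)), y = 1 := fun y hy => by
    have h3 := conj_le hJ h.prime g (Q := cS g Q) (fun t ht => ⟨cS_sub hg ht, cS_pow h.pow t ht⟩)
      (fun y hy t ht => (cS_comm (fun a ha => mem_centralizer_iff.1 (hQ ha) y hy) t ht).symm) hy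
    have h4 : Mz tE8 p (cS g Q) ≤ ⊥ := Mz_le fun a ha => absurd ha (h1 a)
    exact conj_eq_one_iff.1 (mem_bot.1 (h4 h3))
  exact E8A.ee_ne_zero (Sum.inr ⟨0, by decide⟩) (nofix hF _ fun y hy => by rw [h2 y hy, E8A.act_one])

theorem ea_of {r : ℕ} {Q : Subgroup (Y8 p)} (h : EL p r Q) : EA p r Q :=
  ⟨h.prime, h.ne, h.fin, h.comm, h.pow, fun x hx y hy => by
    obtain ⟨K, h1, -, h2 | ⟨h2, -⟩ | ⟨h2, -⟩⟩ := exists_DD tE8 typ8 h.prime h.ne (h.pow x hx)
    · exact (h1 y (h.comm y hy x hx) ⟨1, by rw [pow_one, h.pow y hy]⟩).2 (h2 y (h.comm y hy x hx))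
    · exact absurd (congrArg ChevalleyDatum.rank h2) (by decide)
    · exact absurd (congrArg ChevalleyDatum.rank h2) (by decide)⟩

theorem prime_ord (h7 : 7 ≤ p) (hJ : ⁅J, J⁆ = J) (hF : Fx p (J : Set (Y8 p)) = ⊥) (z : Y8 p)
    (hz : z ∈ centralizer (J : Set (Y8 p))) (ho : (orderOf z).Prime) :
    orderOf z = 2 ∨ (orderOf z = 3 ∧ (dd p z = 80 ∨ dd p z = 86)) ∨ (orderOf z = 5 ∧ dd p z = 48) := by
  by_cases hp : orderOf z = p
  · have h1 := unip h7 hF hz (orderOf_dvd_iff_pow_eq_one.1 hp.dvd)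
    rw [h1, orderOf_one] at ho
    exact absurd ho Nat.not_prime_one
  have h1 := semi h7 hJ hF hz (n := 0) ho hp (by rw [zero_add, pow_one])
  rw [zero_add, pow_one] at h1
  rcases iso_E8 ho h1 with ⟨h2, -⟩ | ⟨h2, h3⟩ | h2
  · exact Or.inl h2
  · exact Or.inr (Or.inl ⟨h2, h3.imp id fun h4 => h4.1⟩)
  · exact Or.inr (Or.inr h2)

/-- **`BoxIso`** -/
theorem boxIso : BoxIso := by
  intro p _ h7 J hJ hF
  refine ⟨prime_ord h7 hJ hF, fun z hz => ⟨fun h => ?_, fun h => ?_⟩, fun Q hQ h5 hc => ?_, fun Q hQ h2 hd hc => ?_⟩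
  · obtain ⟨i, h1, -⟩ := semi h7 hJ hF hz (n := 1) Nat.prime_three (by omega) h
    have h2 := hr_le tE8 typ8 i
    rw [h1] at h2
    norm_num at h2
  · obtain ⟨i, h1, -⟩ := semi h7 hJ hF hz (n := 1) Nat.prime_five (by omega) h
    have h2 := hr_le tE8 typ8 i
    rw [h1] at h2
    norm_num at h2
  · have := Fact.mk Nat.prime_five
    have hE : EL p 5 Q := ⟨Nat.prime_five, by omega, Nat.finite_of_card_ne_zero (by rw [hc]; norm_num), fun x hx y hy =>
      congrArg Subtype.val ((IsPGroup.isMulCommutative_of_card_eq_prime_sq (p := 5) (G := Q) hc).is_comm.comm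
        ⟨x, hx⟩ ⟨y, hy⟩), h5⟩
    have h1 := pure_eq tE8 hE (d := 48) fun e he h1 => by
      have h2 : orderOf e = 5 := orderOf_eq_prime (h5 e he) h1
      rcases prime_ord h7 hJ hF e (hQ he) (h2 ▸ Nat.prime_five) with h3 | h3 | h3
      · omega
      · omega
      · exact h3.2
    rw [hc, show 8 + chevE8.nroots = 248 by decide +kernel] at h1
    exact noroot hJ hF hE hQ ((ea_of hE).toral_of_card hc.le) (by push_cast at h1; omega)
  · have hE : EL p 2 Q := ⟨Nat.prime_two, by omega, Nat.finite_of_card_ne_zero (by rw [hc]; norm_num), fun x hx y hy => by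
      have h3 : ∀ a ∈ Q, a⁻¹ = a := fun a ha => inv_eq_of_mul_eq_one_left (by rw [← pow_two, h2 a ha])
      rw [← h3 _ (mul_mem hx hy), _root_.mul_inv_rev, h3 x hx, h3 y hy], h2⟩
    have h1 := pure_eq tE8 hE hd
    rw [hc, show 8 + chevE8.nroots = 248 by decide +kernel] at h1
    exact noroot hJ hF hE hQ (P8.toral16 ⟨ea_of hE, hd⟩ hc) (by push_cast at h1; omega)

end Cfsg.Agent.Cam.E8O.Iso
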