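import Cfsg.Agent.Cam.E8.OIface
import Cfsg.Agent.Cam.Spor.Core
import Cfsg.Agent.Cam.Red.Comp

/-!
# S3690, the row `E₈`: the core of a configuration and the way back (helper82)

`boxLink : BoxLink`.  The first part is the proof of `Cam.Spor.exists_core` (helper67) with the additional fields.
-/

set_option autoImplicit false
set_option linter.unusedSectionVars false

namespace Cfsg.Agent.Cam.E8O.Link

open Cfsg Subgroup Cfsg.Agent.TwoFusion.PerfCore Cfsg.Agent.Cam Cfsg.Agent.Cam.Spor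

section back

theorem quasi {A : Type*} [Group A] (hs : IsSimpleGroup A) (hn : ¬ IsMulCommutative A) : IsQuasisimple A := by
  have hc : center A = ⊥ := eq_bot_iff.2 fun z hz => eq_one_of_comm hs hn fun v => (mem_center_iff.1 hz v).symm
  exact ⟨⟨commutator_top hs hn⟩,
    ((QuotientGroup.quotientMulEquivOfEq hc).trans QuotientGroup.quotientBot).isSimpleGroup⟩

variable {G : Type} [Group G] [Finite G]

/-- the generalized Fitting subgroup from two normal simple subgroups -/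
theorem fstar_eq {H A B : Subgroup G} (hA : IsSimpleGroup A) (hA' : ¬ IsMulCommutative A) (hB : IsSimpleGroup B)
    (hB' : ¬ IsMulCommutative B) (lA : A ≤ H) (lB : B ≤ H) (nA : H ≤ normalizer (A : Set G))
    (nB : H ≤ normalizer (B : Set G)) (hP : ∀ P : Subgroup G, ⁅P, P⁆ = P → P ≤ H → P ≤ A ⊔ B)
    (hC : ∀ h ∈ H, (∀ a ∈ A, h * a = a * h) → (∀ b ∈ B, h * b = b * h) → h = 1) :
    generalizedFittingSubgroup H = (A ⊔ B).subgroupOf H := by
  have cmp : ∀ {X : Subgroup G}, IsSimpleGroup X → ¬ IsMulCommutative X → X ≤ H → H ≤ normalizer (X : Set G) →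
      X.subgroupOf H ≤ generalizedFittingSubgroup H := by
    intro X h1 h2 h3 h4
    have h5 : (X.subgroupOf H).Normal := (normal_subgroupOf_iff_le_normalizer h3).2 h4
    have h6 : X.subgroupOf H ≤ layer H :=
      le_sSup (s := {K : Subgroup H | IsComponent K}) (Rd.Cmp.of h3 h5.isSubnormal (quasi h1 h2)).2
    exact h6.trans le_sup_left
  have nil : ∀ {X : Subgroup G}, IsSimpleGroup X → ¬ IsMulCommutative X → X ≤ H → H ≤ normalizer (X : Set G) →
      ∀ N : Subgroup H, N.Normal → Group.IsNilpotent N → ∀ n ∈ N, ∀ x ∈ X, (n : G) * x = x * n := by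
    intro X h1 h2 h3 h4 N hN hnil n hn x hx
    have h5 := eq_bot_or_eq (N := X ⊓ N.map H.subtype) h1 inf_le_left fun t ht y hy => by
      obtain ⟨hy1, y, hy2, rfl⟩ := hy
      exact ⟨X.mul_mem (X.mul_mem ht hy1) (X.inv_mem ht), ⟨t, h3 ht⟩ * y * ⟨t, h3 ht⟩⁻¹, hN.conj_mem y hy2 _, rfl⟩
    rcases h5 with h5 | h5
    · have h6 : (n : G) * x * (n : G)⁻¹ * x⁻¹ ∈ X ⊓ N.map H.subtype := by
        refine ⟨X.mul_mem (conj_mem_of_norm (h4 n.2) hx) (X.inv_mem hx),
          n * (⟨x, h3 hx⟩ * n⁻¹ * ⟨x, h3 hx⟩⁻¹), N.mul_mem hn (hN.conj_mem _ (N.inv_mem hn) _), ?_⟩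
        simp [mul_assoc]
      rw [h5, mem_bot] at h6
      calc (n : G) * x = n * x * (n : G)⁻¹ * x⁻¹ * (x * n) := by group
        _ = _ := by rw [h6, one_mul]
    · exfalso
      have h6 : X ≤ N.map H.subtype := h5.ge.trans inf_le_right
      have h7 : Group.IsSolvable (N.map H.subtype) :=
        Group.isSolvable_of_surjective (MonoidHom.subgroupMap_surjective H.subtype N)
      have h8 : Group.IsSolvable X := Group.isSolvable_of_isSolvable_injective (inclusion_injective h6)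
      exact h2 ⟨⟨IsSimpleGroup.comm_iff_isSolvable.2 h8⟩⟩
  apply le_antisymm
  · refine sup_le (sSup_le fun L hL y hy => ?_) (sSup_le fun N hN n hn => ?_)
    · have h1 := hL.2.1
      exact hP (L.map H.subtype) (map_perfect commutator_eq_self _) (map_subtype_le L) ⟨y, hy, rfl⟩
    · have h1 := hC n n.2 (nil hA hA' lA nA N hN.1 hN.2 n hn) (nil hB hB' lB nB N hN.1 hN.2 n hn)
      rw [mem_subgroupOf, h1]
      exact one_mem _
  · rw [subgroupOf_sup lA lB]
    exact sup_le (cmp hA hA' lA nA) (cmp hB hB' lB nB)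

omit [Finite G] in
theorem sup_equiv {A B : Subgroup G} (hA : IsSimpleGroup A) (hA' : ¬ IsMulCommutative A)
    (hc : ∀ a ∈ A, ∀ b ∈ B, a * b = b * a) : Nonempty (↥(A ⊔ B) ≃* A × B) := by
  let f : A × B →* G := A.subtype.noncommCoprod B.subtype fun a b => hc a a.2 b b.2
  have h1 : Function.Injective f := by
    rw [injective_iff_map_eq_one]
    rintro ⟨a, b⟩ h
    have h2 : (a : G) * b = 1 := h
    have h3 : (a : G) = 1 := eq_one_of_comm' hA hA' a.2 fun v hv => by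
      rw [eq_inv_of_mul_eq_one_left h2]
      exact (hc v hv _ (inv_mem b.2)).symm
    rw [h3, one_mul] at h2
    exact Prod.ext (Subtype.ext h3) (Subtype.ext h2)
  have h2 : f.range = A ⊔ B := by
    apply le_antisymm
    · rintro _ ⟨⟨a, b⟩, rfl⟩
      exact mul_mem (mem_sup_left a.2) (mem_sup_right b.2)
    · intro y hy
      obtain ⟨a, ha, b, hb, rfl⟩ := mem_sup_of_comm hc hy
      exact ⟨(⟨a, ha⟩, ⟨b, hb⟩), rfl⟩
  exact ⟨(MulEquiv.subgroupCongr h2.symm).trans (MonoidHom.ofInjective h1).symm⟩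

variable {S H : Subgroup G} {g : G} {𝒯 : Set (Subgroup G)}

/-- **the way back** -/
theorem fstar (big : Big) (red : Red) (c : Cls S H g 𝒯) {T : Subgroup G} (hT : T ∈ 𝒯)
    (hR : IsSimpleGroup (RR S 𝒯 T)) : Nonempty (generalizedFittingSubgroup H ≃* T × RR S 𝒯 T) := by
  have hRH : RR S 𝒯 T ≤ H := sup_le (K_le_H red c) (sSup_le fun A hA => (c.le_N0 A hA.1).trans N0_le)
  have hK : KK S 𝒯 = RR S 𝒯 T :=
    (eq_bot_or_eq hR le_sup_left fun t ht n hn => conj_mem_of_norm (H_norm_K c (hRH ht)) hn).resolve_left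
      (K_ne_bot big red c)
  have hX : sSup 𝒯 = T := by
    refine le_antisymm (sSup_le fun A hA => ?_) (le_sSup hT)
    by_contra h
    have h1 : A ≤ KK S 𝒯 := by
      rw [hK]
      exact (le_sSup (show A ∈ 𝒯 \ {T} from ⟨hA, fun e => h (le_of_eq e)⟩)).trans le_sup_right
    exact c.tnoncomm A hA ⟨⟨fun a b => Subtype.ext (KK_comm (h1 b.2) (le_sSup hA a.2))⟩⟩
  have hR' : ¬ IsMulCommutative (RR S 𝒯 T) := by
    have := isPerfect_iff.2 (RR_perfect c T)
    exact Group.IsPerfect.not_isMulCommutative _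
  have hc : ∀ a ∈ T, ∀ b ∈ RR S 𝒯 T, a * b = b * a := fun a ha b hb => RR_comm c hT ha hb
  have nT : H ≤ normalizer (T : Set G) := hX ▸ H_norm_X c
  have hP : ∀ P : Subgroup G, ⁅P, P⁆ = P → P ≤ H → P ≤ T ⊔ RR S 𝒯 T := by
    intro P h1 h2
    have h3 := le_XK c h1 (Rd.perfect_le_S big c.toSetup h1) fun y hy => by
      rw [hX]
      obtain ⟨t, ht, h4⟩ := Rd.inner_of_perfect big (c.tsimple T hT) h1 (h2.trans nT) hy
      have h5 := mul_mem (mem_sup_left ht) (mem_sup_right h4 : _ ∈ T ⊔ centralizer (T : Set G))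
      rwa [mul_inv_cancel_left] at h5
    rwa [hX, hK] at h3
  have h1 := fstar_eq (c.tsimple T hT) (c.tnoncomm T hT) hR hR' ((c.le_N0 T hT).trans N0_le) hRH nT
    (hK ▸ H_norm_K c) hP fun h hh h1 h2 => red.cent G S H g c.toConf h hh fun A hA hA' => by
      have h3 := (Rd.Cmp.quasi ⟨hA, hA'⟩).1
      have h4 := hP _ (cj_perfect (Y := A) commutator_eq_self g) ((Rd.cj_mono g hA).trans (Rd.cj_N0_le H g))
      refine mem_centralizer_iff.2 fun y hy => ?_
      obtain ⟨a, ha, b, hb, rfl⟩ := mem_sup_of_comm hc (h4 hy)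
      rw [mul_assoc, ← h2 b hb, ← mul_assoc, ← h1 a ha, mul_assoc]
  obtain ⟨e⟩ := sup_equiv (c.tsimple T hT) (c.tnoncomm T hT) hc
  exact ⟨((MulEquiv.subgroupCongr h1).trans
    (subgroupOfEquivOfLe (sup_le ((c.le_N0 T hT).trans N0_le) hRH))).trans e⟩

end back

/-- **[Link]** -/
theorem boxLink : BoxLink := by
  intro big red G _ _ S H g c hm
  obtain ⟨𝒯, c⟩ := red.cls big G S H g c
  obtain ⟨hle, -, T₁, h₁, T₂, h₂, ψ, hD, hψ⟩ := red.diag big G S H g 𝒯 c (hm 𝒯 c)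
  have hS := c.normal
  let θ : MulAut S := MulAut.conjNormal g
  have hθ : ∀ s : S, ((θ s : S) : G) = g * s * g⁻¹ := fun s => rfl
  let ι : T₁ →* S := inclusion (c.le_S T₁ h₁)
  let ψ' : T₁ →* S := ψ.codRestrict S fun t => (hψ t).2
  have hc : ∀ a b : T₁, ι a * ψ' b = ψ' b * ι a := fun a b => Subtype.ext (hD.comm a a.2 b)
  let δ : T₁ →* S :=
    { toFun := fun t => ι t * ψ' t
      map_one' := by simp
      map_mul' := fun a b => by
        rw [map_mul, map_mul]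
        calc ι a * ι b * (ψ' a * ψ' b) = ι a * (ι b * ψ' a) * ψ' b := by group
          _ = _ := by rw [hc b a]; group }
  have hδ : ∀ t : T₁, ((δ t : S) : G) = t * ψ t := fun t => rfl
  have hs := c.tsimple T₁ h₁
  have hn := c.tnoncomm T₁ h₁
  have hδinj : Function.Injective δ := by
    rw [injective_iff_map_eq_one]
    intro t ht
    have h1 : (t : G) = ψ t⁻¹ := by
      rw [map_inv, eq_inv_iff_mul_eq_one, ← hδ, ht, coe_one]
    exact eq_one_of_comm hs hn fun v => Subtype.ext (by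
      rw [coe_mul, coe_mul, h1]
      exact (hD.comm _ v.2 _).symm)
  have hτr : (θ.toMonoidHom.comp δ).range = T₂.subgroupOf S := by
    ext s
    rw [mem_subgroupOf]
    constructor
    · rintro ⟨t, rfl⟩
      exact mem_cj.1 ((hD.mem _).2 ⟨t, rfl⟩)
    · intro hs'
      have h1 : g⁻¹ * s * g ∈ cj g T₂ := by
        rw [mem_cj]
        simpa [mul_assoc] using hs'
      obtain ⟨t, ht⟩ := (hD.mem _).1 h1
      refine ⟨t, Subtype.ext ?_⟩
      change g * (t * ψ t) * g⁻¹ = s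
      rw [← ht]
      group
  have hιr : ι.range = T₁.subgroupOf S := inclusion_range _
  have p₂ := pair_of big red c hle h₂ (θ.toMonoidHom.comp δ) (θ.injective.comp hδinj) hτr
  have p₁ := (pair_of big red c hle h₁ ι (inclusion_injective _) hιr).map θ
  have hXK : sSup 𝒯 ⊔ KK S 𝒯 ≤ S := sup_le (X_le_S c) (KK_le.trans inf_le_right)
  have hsup : (θ.toMonoidHom.comp δ).range ⊔ (RR S 𝒯 T₂).subgroupOf S = (sSup 𝒯 ⊔ KK S 𝒯).subgroupOf S := by
    rw [hτr, ← subgroupOf_sup (c.le_S T₂ h₂) (RR_le_S c T₂), sup_RR h₂]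
  have hsup' : (θ.toMonoidHom.comp ι).range ⊔ ((RR S 𝒯 T₁).subgroupOf S).map θ.toMonoidHom =
      ((sSup 𝒯 ⊔ KK S 𝒯).subgroupOf S).map θ.toMonoidHom := by
    rw [range_comp_equiv, ← Subgroup.map_sup, hιr, ← subgroupOf_sup (c.le_S T₁ h₁) (RR_le_S c T₁), sup_RR h₁]
  have hθn : ∀ s : S, s ∈ normalizer ((((sSup 𝒯 ⊔ KK S 𝒯).subgroupOf S).map θ.toMonoidHom : Subgroup S) : Set S) ↔
      g⁻¹ * s * g ∈ H := fun s => by
    obtain ⟨s, rfl⟩ := θ.surjective s
    rw [mem_normalizer_equiv, ← subgroupOf_normalizer_eq hXK, norm_XK big red c, mem_subgroupOf, hθ]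
    apply iff_of_eq
    congr 1
    group
  have max8 : ∀ Y : Subgroup S, Y ≠ ⊤ →
      (∀ θ' : MulAut S, ((KK S 𝒯).subgroupOf S).map θ'.toMonoidHom = (KK S 𝒯).subgroupOf S →
        ((θ.toMonoidHom.comp δ).range ⊔ (RR S 𝒯 T₂).subgroupOf S).map θ'.toMonoidHom =
          (θ.toMonoidHom.comp δ).range ⊔ (RR S 𝒯 T₂).subgroupOf S → Y.map θ'.toMonoidHom = Y) →
      Y ≤ normalizer (((θ.toMonoidHom.comp δ).range ⊔ (RR S 𝒯 T₂).subgroupOf S : Subgroup S) : Set S) := by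
    intro Y hY hinv
    rw [hsup] at hinv ⊢
    rw [← subgroupOf_normalizer_eq hXK, norm_XK big red c]
    by_cases hb : Y = ⊥
    · rw [hb]
      exact bot_le
    have hH : H ≤ normalizer ((Y.map S.subtype : Subgroup G) : Set G) := by
      intro h hh
      have h1 := hinv (MulAut.conjNormal h) (by
        ext s
        rw [mem_map_equiv, mem_subgroupOf, mem_subgroupOf, MulAut.conjNormal_symm_apply]
        exact (mem_normalizer_iff''.1 (H_norm_K c hh) s).symm) (by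
        ext s
        rw [mem_map_equiv, mem_subgroupOf, mem_subgroupOf, MulAut.conjNormal_symm_apply]
        exact (mem_normalizer_iff''.1 (H_norm_XK c hh) s).symm)
      refine mem_normalizer_of ?_
      rintro _ ⟨y, hy, rfl⟩
      exact ⟨MulAut.conjNormal h y, h1 ▸ ⟨y, hy, rfl⟩, rfl⟩
    have h2 := red.norm G S H c.toSetup _ (fun h => hb ((map_eq_bot_iff_of_injective _ S.subtype_injective).1 h))
      (fun h => hY (eq_top_iff.2 fun s _ => by
        obtain ⟨y, hy, e⟩ := h s.2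
        rwa [← Subtype.ext e])) hH
    intro y hy
    rw [mem_subgroupOf, ← h2]
    exact le_normalizer ⟨y, hy, rfl⟩
  refine ⟨T₁, inferInstance, inferInstance, θ.toMonoidHom.comp δ, θ.toMonoidHom.comp ι, θ.toMonoidHom.comp ψ', _, _,
    (KK S 𝒯).subgroupOf S,
    ⟨⟨hs, hn, p₂, p₁, fun u => map_mul θ _ _, fun u => ⟨ψ' u, ?_, rfl⟩, fun u hu => ?_, ?_, ⟨θ, by rw [hsup, hsup']⟩,
      fun a ha n hn hn' => ?_, fun Y hY hinv => max8 Y hY fun θ' _ h => hinv θ' h⟩, fun s hs' => mem_sup_left hs', ?_,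
      max8, ?_⟩, fun ⟨e₁⟩ ⟨e₂⟩ => ?_⟩
  · -- `ψ T₁ ≤ R₁`
    have h1 : ψ.range ≤ T₁ ⊔ RR S 𝒯 T₁ := by
      rw [sup_RR h₁]
      refine le_XK c (range_perfect hs hn ψ) (by rintro _ ⟨t, rfl⟩; exact (hψ t).2) ?_
      rintro _ ⟨t, rfl⟩
      have h2 : (t : G) * ψ t ∈ cj g (sSup 𝒯) :=
        mem_cj.2 (le_sSup h₂ (mem_cj.1 ((hD.mem _).2 ⟨t, rfl⟩)))
      have h3 := mul_mem (inv_mem (mem_sup_left (le_sSup h₁ t.2))) (hle h2)
      simpa using h3
    obtain ⟨t, ht, r, hr, e⟩ := mem_sup_of_comm (fun t ht r hr => RR_comm c h₁ ht hr) (h1 ⟨u, rfl⟩)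
    have h4 : t = 1 := eq_one_of_comm' hs hn ht fun v hv => by
      have h5 : t = ψ u * r⁻¹ := by rw [e]; group
      rw [h5, mul_assoc, ← RR_comm c h₁ hv (inv_mem hr), ← mul_assoc, ← hD.comm v hv u, mul_assoc]
    change ψ u ∈ RR S 𝒯 T₁
    rw [e, h4, one_mul]
    exact hr
  · rw [hsup, ← subgroupOf_normalizer_eq hXK, norm_XK big red c, mem_subgroupOf] at hu
    exact Subtype.ext (eq_one_of_mem c h₁ h₂ hD u.2 hu)
  · obtain ⟨γ, hγ⟩ := c.conj T₂ h₂ T₁ h₁
    refine ⟨MulAut.conjNormal (g * γ⁻¹), ?_⟩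
    rw [hτr, range_comp_equiv, hιr]
    ext s
    rw [mem_map_equiv, mem_map_equiv, mem_subgroupOf, mem_subgroupOf, hγ, mem_cj]
    apply iff_of_eq
    congr 1
    simp only [θ, MulAut.conjNormal_symm_apply]
    group
  · rw [hsup, ← subgroupOf_normalizer_eq hXK, norm_XK big red c, mem_subgroupOf] at ha hn
    rw [hsup', hθn] at hn' ⊢
    exact (mem_N0.1 (c.nrm a ha n (mem_N0.2 ⟨hn, hn'⟩))).2
  · obtain ⟨φ, h1, h2⟩ := copy_K big red c h₁
    exact ⟨φ.codRestrict S fun u => (KK_le (h2 u)).2, fun a b h => h1 (congrArg Subtype.val h), h2⟩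
  · by_cases hk : ∃ T' ∈ 𝒯, T' ≠ T₂
    · right
      obtain ⟨T', hT', hne⟩ := hk
      obtain ⟨γ, hγ⟩ := c.conj T₂ h₂ T' hT'
      have hm : ∀ u, ((MulAut.conjNormal γ⁻¹ ((θ.toMonoidHom.comp δ) u) : S) : G) ∈ T' := fun u => by
        have h1 : (θ.toMonoidHom.comp δ) u ∈ T₂.subgroupOf S := hτr ▸ ⟨u, rfl⟩
        rw [hγ]
        exact ⟨_, h1, rfl⟩
      exact ⟨MulAut.conjNormal γ⁻¹, fun u =>
        ⟨mem_sup_right (le_sSup (show T' ∈ 𝒯 \ {T₂} from ⟨hT', hne⟩) (hm u)),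
          fun d hd => Subtype.ext (KK_comm hd (le_sSup hT' (hm u))).symm⟩⟩
    · left
      obtain rfl : T₁ = T₂ := by
        by_contra h
        exact hk ⟨T₁, h₁, h⟩
      exact ⟨θ, by rw [hτr, range_comp_equiv, hιr], rfl⟩
  · have e₃ : RR S 𝒯 T₁ ≃* Al 6 :=
      ((subgroupOfEquivOfLe (RR_le_S c T₁)).symm.trans (θ.subgroupMap _)).trans e₂
    have h6 : IsSimpleGroup (Al 6) := alternatingGroup.isSimpleGroup (by simp)
    obtain ⟨e⟩ := fstar big red c h₁ e₃.isSimpleGroup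
    exact ⟨e.trans (e₁.prodCongr e₃)⟩

end Cfsg.Agent.Cam.E8O.Link
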