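import Cfsg.Agent.Cam.E8.OIface
import Cfsg.Agent.DS.Nt.P8
import Cfsg.Agent.TwoUniq.PSLRank

/-!
# S3690, the row `E₈`, odd characteristic: `BoxP3` (helper79)

The sixteen roots killed by a pure toral group `2 ^ 3` form a system of type `A₁ ^ 8`.
-/

set_option autoImplicit false
set_option linter.unusedVariables false

namespace Cfsg.Agent.Cam.E8O.P3

open CoxeterSystem Cfsg Cfsg.Lie Subgroup Module
open Cfsg.Agent.ChevalleyStructure Cfsg.Agent.ChevalleyStructure.CoxeterGeom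
  Cfsg.Agent.ChevalleyStructure.CoxeterGeomTypes
open Cfsg.Agent.Tits.Roots Cfsg.Agent.Nodes Cfsg.Agent.Nodes.RGDChev Cfsg.Agent.Nodes.Coroot
open Cfsg.Agent.KFacts.RgdChevCoord Cfsg.Agent.H469.Exc Cfsg.Agent.H129.TorusChar Cfsg.Agent.H167.KKL
open Cfsg.Agent.Cam.Spor Cfsg.Agent.Cam.Ex Cfsg.Agent.Cam.Ex.S2 Cfsg.Agent.Cam.Odd
open Cfsg.Agent.H402.PSL2Cls (PSL)
open Cfsg.Agent.DS.Nt (dd ad Fx Tp Ps)
open Cfsg.Agent.DS.Nt.P8 (Pu Fn HasM Sing gr)
open scoped commutatorElement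

variable {p : ℕ} [Fact p.Prime]

/-- commuting involutions of `E₈(k)` are toral -/
theorem tp_inv (h2 : p ≠ 2) {x y : Y8 p} (hx : x ^ 2 = 1) (hy : y ^ 2 = 1) (h : x * y = y * x) : Tp p x y := by
  obtain ⟨g, hg⟩ := DS.Nt.exists_conj_T tE8 (x := x) (n := 1) Nat.prime_two h2.symm (by rw [pow_one, hx])
  have hsq : ∀ y : Y8 p, y ^ 2 = 1 → (g * y * g⁻¹) ^ 2 = 1 := fun y hy => by
    rw [conj_pow, hy, mul_one, mul_inv_cancel]
  refine DS.Nt.Tp.of_conj (c := g) (DS.Nt.tp_of_mem_DZ (hp := tE8) Nat.prime_two h2.symm hg ⟨1, hsq x hx⟩ ?_ ⟨1, hsq y hy⟩)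
  rcases (DS.Nt.DZ_one (hp := tE8) (Or.inr (Or.inr (Or.inr rfl))) Nat.prime_two h2.symm hg (hsq x hx)).2 with
    h1 | ⟨h1, -⟩ | ⟨h1, -⟩
  · exact h1 _ (DS.Nt.conj_comm h.symm)
  · exact absurd (congrArg ChevalleyDatum.rank h1) (by decide)
  · exact absurd (congrArg ChevalleyDatum.rank h1) (by decide)

theorem pu_of (h2 : p ≠ 2) {P : Subgroup (Y8 p)} (hf : Finite P) (hsq : ∀ x ∈ P, x ^ 2 = 1)
    (hd : ∀ x ∈ P, x ≠ 1 → dd p x = 120) : Pu P := by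
  have hi : ∀ x ∈ P, x⁻¹ = x := fun x hx => inv_eq_of_mul_eq_one_right (by rw [← pow_two, hsq x hx])
  have hc : ∀ x ∈ P, ∀ y ∈ P, x * y = y * x := fun x hx y hy => by
    rw [← hi _ (mul_mem hx hy), mul_inv_rev, hi x hx, hi y hy]
  exact ⟨⟨Nat.prime_two, h2.symm, hf, hc, hsq, fun x hx y hy => tp_inv h2 (hsq x hx) (hsq y hy) (hc x hx y hy)⟩, hd⟩

theorem abs_cp {b c : Lat 8} (hb : Rt tE8 b) (hc : Rt tE8 c) (h1 : b ≠ c) (h2 : b ≠ -c) : |cp tE8 b c| ≤ 1 := by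
  have := finite_WW tE8
  exact SimplyLaced.abs_cpr_le_one _ tE8.isCartan H230.X3.Comb.no4 H230.X3.Comb.no6 hb hc h1 h2

/-- the roots killed by a pure toral group of order eight -/
theorem orth {A : Subgroup (Y8 p)} (hA : Pu A) (hc : Nat.card A = 8) (hT : ∀ a ∈ A, a ∈ TT chevE8 (kb p)) {b c : Lat 8}
    (hb : b ∈ PsiS tE8 (A : Set (Y8 p))) (hc' : c ∈ PsiS tE8 (A : Set (Y8 p))) : b = c ∨ b = -c ∨ cp tE8 b c = 0 := by
  classical
  have := finite_WW tE8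
  have := hA.ea.fin
  have := Fintype.ofFinite A
  have hZ : (A : Set (Y8 p)) ⊆ TT chevE8 (kb p) := hT
  have h1 := hA.fx
  rw [hc] at h1
  choose f hf using fun a : A => exists_sgn tE8 p (locFin p) (hT a a.2) (hA.sq a.2)
  have hsg : ∀ x y : ZMod 2, (H167.KKL.sg x : kb p) = H167.KKL.sg y → x = y := fun x y h => by
    have h3 := sg_eq_one (k := kb p) hA.two x
    rw [h, sg_eq_one hA.two] at h3
    exact (by decide : ∀ x y : ZMod 2, (y = 0 ↔ x = 0) → x = y) x y h3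
  have hz : ∀ (a : A) b, Rt tE8 b → (cX tE8 (a : Y8 p) b = 1 ↔ f a b = 0) := fun a b hb => by
    rw [cX_root tE8 _ (hT a a.2) hb, hf a b hb, sg_eq_one hA.two]
  have hPs : ∀ b, b ∈ Ps tE8 p (A : Set (Y8 p)) ↔ Rt tE8 b ∧ ∀ a, f a b = 0 := fun b => by
    rw [DS.Nt.mem_Ps hZ]
    exact and_congr_right fun hb => ⟨fun h a => (hz a b hb).1 (h a a.2), fun h a ha => (hz ⟨a, ha⟩ b hb).2 (h _)⟩
  have h16 : (Finset.univ.filter fun s : Fin chevE8.nroots => ∀ a, f a (vec chevE8 8 s) = 0).card = 16 := by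
    have h3 := DS.Nt.finrank_Fx tE8 hZ
    rw [Finset.filter_congr (q := fun s : Fin chevE8.nroots => ∀ a, f a (vec chevE8 8 s) = 0) fun s _ => by
      rw [hPs, and_iff_right (isRoot_vec tE8 _ s.2)]] at h3
    omega
  have hadd : ∀ a b : A, ∃ c, f c = f a + f b := fun a b => ⟨a * b, by
    obtain ⟨F, hF⟩ := DS.Nt.P8.exists_hasM (f a + f b)
    refine HasM.ext ⟨hF.1, fun i => ?_⟩ hF
    rw [← hF.2]
    refine hsg _ _ ?_
    have h3 := isRoot_sr CoxeterMatrix.E₈.toCoxeterSystem tE8.isCartan i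
    rw [AddMonoidHom.add_apply, sg_add, ← hf _ _ h3, ← hf _ _ h3, ← hf _ _ h3, ← cX_sr, ← cX_sr, ← cX_sr,
      Subgroup.coe_mul, cX_mul tE8 (hT a a.2) (hT b b.2)]⟩
  have hinj : Function.Injective f := fun a b h => Subtype.ext (cX_inj tE8 (hT a a.2) (hT b b.2) fun i => by
    have h3 := isRoot_sr CoxeterMatrix.E₈.toCoxeterSystem tE8.isCartan i
    rw [cX_sr, cX_sr, hf _ _ h3, hf _ _ h3, h])
  have hS : ∀ a, f a ≠ 0 → Sing (f a) := by
    intro a ha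
    have h3 := hA.dd a a.2 fun h => ha (by
      refine HasM.ext (F := 0) ⟨by norm_num, fun i => ?_⟩ ⟨by norm_num, fun i => by rw [Nat.zero_testBit]; rfl⟩
      rw [Nat.zero_testBit]
      exact (hz a _ (isRoot_sr _ tE8.isCartan i)).1 (by rw [h, cX_one]))
    rw [DS.Nt.dd_tor tE8 (hT a a.2), Finset.filter_congr (q := fun s : Fin chevE8.nroots => f a (vec chevE8 8 s) = 0)
      fun s _ => hz a _ (isRoot_vec tE8 _ s.2)] at h3
    unfold Sing
    omega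
  have h0 : ∀ b ∈ PsiS tE8 (A : Set (Y8 p)), ∀ a, f a b = 0 := fun b hb a =>
    (hz a b hb.1).1 (by rw [cX_root tE8 _ (hT a a.2) hb.1]; exact hb.2 a a.2)
  by_cases e1 : b = c
  · exact Or.inl e1
  by_cases e2 : b = -c
  · exact Or.inr (Or.inl e2)
  refine Or.inr (Or.inr ?_)
  have h2 := abs_cp hb.1 hc'.1 e1 e2
  obtain ⟨i, hi⟩ := DS.Nt.P8.coset tE8 hadd hS (by rw [← Nat.card_eq_fintype_card, hc]) hinj h16 hb.1 (h0 b hb) hc'.1
    (h0 c hc')
  have h4 := congrArg (fun g : Fn => g b) hi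
  simp only [AddMonoidHom.add_apply] at h4
  rw [h0 b hb, add_zero, DS.Nt.P8.gr_apply tE8 _ hc'.1, DS.Nt.P8.gr_apply tE8 _ hb.1, cpr_self _ tE8.isCartan hb.1,
    ZMod.intCast_eq_intCast_iff_dvd_sub] at h4
  rw [abs_le] at h2
  change (2 : ℤ) ∣ 2 - cp tE8 b c at h4
  omega

/-- orthogonal roots of `E₈` are strongly orthogonal -/
theorem cz_orth {a c : Lat 8} (ha : Rt tE8 a) (hc : Rt tE8 c) (h0 : cp tE8 a c = 0) {x : Y8 p}
    (hx : x ∈ XR chevE8 8 p a) : Cz (sl p hc) x := by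
  refine cz_X hc ha h0 (fun i j hi hj hr => ?_) hx
  have h2 : cp tE8 (i • a + j • c) c = 2 * j := by
    rw [cp_add _ _ hc, cp_smul _ _ hc, cp_smul _ _ hc, h0, cp_self hc]; ring
  have h3 : cp tE8 (i • a + j • c) a = 2 * i := by
    rw [cp_add _ _ ha, cp_smul _ _ ha, cp_smul _ _ ha, (cp_zero_comm ha hc).1 h0, cp_self ha]; ring
  by_cases e1 : i • a + j • c = c
  · rw [e1, (cp_zero_comm ha hc).1 h0] at h3; omega
  by_cases e2 : i • a + j • c = -c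
  · rw [e2, cp_neg _ ha, (cp_zero_comm ha hc).1 h0] at h3; omega
  have h4 := abs_cp hr hc e1 e2
  rw [h2, abs_le] at h4
  omega

theorem rank_of_inj (h2 : p ≠ 2) {U : Type} [Group U] [Finite U] (f : U →* PSL (kb p)) (hf : Function.Injective f) :
    PRankLE 2 2 U := by
  obtain ⟨F, _, _, _, H, ⟨e⟩⟩ := Grp.descend p f hf
  have h3 : (2 : F) ≠ 0 := fun h => h2 ((Nat.prime_dvd_prime_iff_eq Fact.out Nat.prime_two).1
    ((CharP.cast_eq_zero_iff F p 2).1 (by exact_mod_cast h)))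
  let φ : U →* PSL F := H.subtype.comp e.toMonoidHom
  have hφ : Function.Injective φ := H.subtype_injective.comp e.injective
  intro A hA h
  rw [← card_map_of_injective hφ]
  refine TwoUniq.PSLRank.pRankLE h3 (A.map φ) inferInstance ?_
  rintro _ ⟨a, ha, rfl⟩
  rw [← map_pow, h a ha, map_one]

/-- **`BoxP3`** -/
theorem boxP3 : BoxP3 := by
  intro p _ h2 P h8 hsq hd U _ _ hs hn a ha hc
  have hP := pu_of h2 (Nat.finite_of_card_ne_zero (by rw [h8]; norm_num)) hsq hd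
  obtain ⟨g, hg⟩ := DS.Nt.P8.toral8 hP h8
  let A : Subgroup (Y8 p) := P.map (MulAut.conj g).toMonoidHom
  let a' : U →* Y8 p := (MulAut.conj g).toMonoidHom.comp a
  have hA : Pu A := hP.conj g
  have hT : ∀ x ∈ A, x ∈ TT chevE8 (kb p) := by
    rintro _ ⟨x, hx, rfl⟩
    exact hg x hx
  have ha' : Function.Injective a' := (MulAut.conj g).injective.comp ha
  have hJ : ⁅a'.range, a'.range⁆ = a'.range := by
    have h1 : ⁅(⊤ : Subgroup U), (⊤ : Subgroup U)⁆ = ⊤ :=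
      (hs.eq_bot_or_eq_top_of_normal _ inferInstance).resolve_left fun h => hn ⟨⟨fun u v =>
        commutatorElement_eq_one_iff_mul_comm.1 (mem_bot.1 (h ▸ commutator_mem_commutator (mem_top u) (mem_top v)))⟩⟩
    rw [a'.range_eq_map, ← map_commutator, h1]
  have h1 := chi_perf tE8 Nat.prime_two (Q := (A : Set (Y8 p))) (fun t ht => ⟨hT t ht, 1, hA.ea.pow t ht⟩) hJ (by
    rintro _ ⟨u, rfl⟩
    rw [mem_centralizer_iff]
    rintro _ ⟨x, hx, rfl⟩
    exact DS.Nt.conj_comm (hc u x hx).symm)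
  by_cases h3 : ∀ c, ∀ hc : c ∈ PsiS tE8 (A : Set (Y8 p)), ∀ u, Cz (sl p hc.1) (a' u)
  · refine (hn ⟨⟨fun u v => ha' ?_⟩⟩).elim
    have h4 : MS chevE8 8 p (PsiS tE8 (A : Set (Y8 p))) ≤ centralizer {a' u} := BNOf.RGD.Sup_le fun c hc y hy => by
      rw [mem_centralizer_iff]
      rintro _ rfl
      exact (cz_iff hc.1).1 (h3 c hc u) c (Or.inl rfl) y hy
    rw [map_mul, map_mul]
    exact mem_centralizer_iff.1 (h4 (h1 ⟨v, rfl⟩)) _ rfl
  · push Not at h3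
    obtain ⟨c, hc, h3⟩ := h3
    have h4 : Spl p hc.1 (PsiS tE8 (A : Set (Y8 p))) := fun b hb x hx => cz_orth hb.1.1 hc.1
      (((orth hA ((DS.Nt.P8.card_conj g P).trans h8) hT hb.1 hc).resolve_left hb.2.1).resolve_left hb.2.2) hx
    obtain ⟨f, hf⟩ := Grp.exists_inj hs (sl p hc.1) a' (sl_ck hc.1) (fun u => h4.inn _ (h1 ⟨u, rfl⟩)) h3
    exact rank_of_inj h2 f hf

end Cfsg.Agent.Cam.E8O.P3
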