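import Cfsg.Agent.Cam.E8.OIface
import Cfsg.Agent.ClassicalGeometry.GUBasic
import Cfsg.Agent.LieClassical.SUBasic
import Cfsg.Agent.S0361
import Cfsg.Agent.S0420
import Cfsg.Agent.S0482
import Cfsg.Agent.S1601

/-!
# S3690, the row `E₈`: tetrahedral subgroups of the simple groups of `2`-rank two (helper11)
-/

set_option autoImplicit false

namespace Cfsg.Agent.Cam.E8O.Tet

open Cfsg Subgroup Matrix Cfsg.Agent.Cam.Odd Cfsg.Agent.Cam.Odd.Grp Cfsg.Agent.H402.PSL2Cls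

/-- the conclusion -/
def Ok (U : Type) [Group U] : Prop :=
  ∃ x₁ x₂ t : U, Tet x₁ x₂ t ∧ ((∃ g, g * t * g⁻¹ = t⁻¹) ∨ ∃ P : Subgroup U, 27 ∣ Nat.card P ∧
    (∀ x ∈ P, ∀ y ∈ P, x * y = y * x) ∧ ∀ x ∈ P, x ≠ 1 → IsConj x t ∨ IsConj x t⁻¹)

section group

variable {U V : Type} [Group U] [Group V] {x₁ x₂ t g : U}

theorem Ok.map (f : U →* V) (hf : Function.Injective f) (h : Ok U) : Ok V := by
  obtain ⟨x₁, x₂, t, h1, h2⟩ := h
  refine ⟨f x₁, f x₂, f t, ⟨by rw [orderOf_injective f hf, h1.o1], fun h => h1.ne (hf h), ?_, ?_, ?_,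
    by rw [orderOf_injective f hf, h1.o3]⟩, h2.imp (fun ⟨g, hg⟩ => ⟨f g, ?_⟩) fun ⟨P, h3, h4, h5⟩ =>
      ⟨P.map f, by rwa [card_map_of_injective hf], ?_, ?_⟩⟩
  · rw [← map_mul, ← map_mul, h1.comm]
  · rw [← map_inv, ← map_mul, ← map_mul, h1.c1]
  · rw [← map_inv, ← map_mul, ← map_mul, h1.c2, map_mul]
  · rw [← map_inv, ← map_mul, ← map_mul, hg, map_inv]
  · rintro _ ⟨a, ha, rfl⟩ _ ⟨b, hb, rfl⟩
    rw [← map_mul, ← map_mul, h4 a ha b hb]
  · rintro _ ⟨a, ha, rfl⟩ h6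
    rw [← map_inv]
    exact (h5 a ha fun h7 => h6 (by rw [h7, map_one])).imp f.map_isConj f.map_isConj

theorem Ok.congr (e : U ≃* V) (h : Ok V) : Ok U := h.map e.symm.toMonoidHom e.symm.injective

theorem tet_of (h0 : x₁ ≠ 1) (h1 : x₁ * x₁ = 1) (h2 : x₁ * x₂ = x₂ * x₁) (h3 : t * x₁ = x₂ * t)
    (h4 : t * x₂ = x₁ * x₂ * t) (h5 : t * t * t = 1) : Tet x₁ x₂ t := by
  have : Fact (Nat.Prime 2) := ⟨Nat.prime_two⟩
  have : Fact (Nat.Prime 3) := ⟨Nat.prime_three⟩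
  have h6 : x₁ ≠ x₂ := fun h => h0 (by
    rw [← h, h1, one_mul] at h4
    exact mul_eq_left.1 h4)
  exact ⟨orderOf_eq_prime ((pow_two _).trans h1) h0, h6, h2, mul_inv_eq_iff_eq_mul.2 h3, mul_inv_eq_iff_eq_mul.2 h4,
    orderOf_eq_prime ((pow_three' _).trans h5) fun h => h6 (by simpa [h] using h3)⟩

/-- the relations -/
abbrev Rl (x₁ x₂ t g : U) : Prop :=
  x₁ * x₁ = 1 ∧ x₁ * x₂ = x₂ * x₁ ∧ t * x₁ = x₂ * t ∧ t * x₂ = x₁ * x₂ * t ∧ t * t * t = 1 ∧ t * g * t = g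

theorem Rl.map (f : U →* V) (h : Rl x₁ x₂ t g) : Rl (f x₁) (f x₂) (f t) (f g) := by
  obtain ⟨h1, h2, h3, h4, h5, h6⟩ := h
  simp only [Rl, ← map_mul, h1, h3, h5, h6, map_one, true_and, and_true]
  exact ⟨congrArg f h2, congrArg f h4⟩

theorem Rl.of_inj (f : U →* V) (hf : Function.Injective f) (h : Rl (f x₁) (f x₂) (f t) (f g)) : Rl x₁ x₂ t g := by
  simpa only [Rl, ← map_mul, hf.eq_iff, map_eq_one_iff f hf] using h

theorem Rl.ok (h : Rl x₁ x₂ t g) (h0 : x₁ ≠ 1) : Ok U :=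
  ⟨x₁, x₂, t, tet_of h0 h.1 h.2.1 h.2.2.1 h.2.2.2.1 h.2.2.2.2.1, .inl ⟨g, by
    rw [mul_inv_eq_iff_eq_mul, eq_inv_mul_iff_mul_eq, ← mul_assoc, h.2.2.2.2.2]⟩⟩

theorem Rl.quot (h : Rl x₁ x₂ t g) (h0 : x₁ ≠ x₂) : Ok (U ⧸ center U) :=
  (h.map (QuotientGroup.mk' _)).ok fun h1 =>
    h0 (mul_right_cancel ((mem_center_iff.1 ((QuotientGroup.eq_one_iff x₁).1 h1) t).symm.trans h.2.2.1))

end group

/-! ### dimension three -/

section three

variable {R F : Type} [CommRing R] [Field F] (φ : R →+* F) {x₁ x₂ t g : SpecialLinearGroup (Fin 3) R}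

theorem mem_su [Fintype F] {q : ℕ} (hF : Fintype.card F = q ^ 2) (h : ∀ r, φ r ^ q = φ r)
    {M : SpecialLinearGroup (Fin 3) R} (hM : M.1ᵀ * M.1 = 1) : SpecialLinearGroup.map φ M ∈ SU 3 F q := by
  obtain ⟨σ, hσ⟩ := ClassicalGeometry.GUBasic.exists_powHom hF
  refine (LieClassical.SUBasic.mem_SU_iff _).2 fun u v => ?_
  have h1 : ∀ u v : Fin 3 → F, hermForm 3 F q u v = u ⬝ᵥ (σ ∘ v) := fun u v => by
    simp only [hermForm, dotProduct, Function.comp_apply, hσ]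
  have h2 : (M.1.map φ).map σ = M.1.map φ := by
    ext i j
    exact (hσ _).trans (h _)
  have h3 : σ ∘ (M.1.map φ *ᵥ v) = M.1.map φ *ᵥ (σ ∘ v) := by
    funext i
    rw [Function.comp_apply, RingHom.map_mulVec, h2]
  change hermForm 3 F q (M.1.map φ *ᵥ u) (M.1.map φ *ᵥ v) = _
  rw [h1, h1, h3, dotProduct_comm, dotProduct_mulVec, vecMul_mulVec, ← transpose_map, ← Matrix.map_mul, hM,
    Matrix.map_one _ φ.map_zero φ.map_one, vecMul_one, dotProduct_comm]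

theorem ok_su [Fintype F] {q : ℕ} (hF : Fintype.card F = q ^ 2) (h : ∀ r, φ r ^ q = φ r) (h1 : Rl x₁ x₂ t g)
    (h2 : φ (x₁ 0 0) ≠ φ (x₂ 0 0)) (h3 : x₁.1ᵀ * x₁.1 = 1 ∧ x₂.1ᵀ * x₂.1 = 1 ∧ t.1ᵀ * t.1 = 1 ∧ g.1ᵀ * g.1 = 1) :
    Ok (PSU 3 F q) :=
  (Rl.of_inj (x₁ := ⟨_, mem_su φ hF h h3.1⟩) (x₂ := ⟨_, mem_su φ hF h h3.2.1⟩) (t := ⟨_, mem_su φ hF h h3.2.2.1⟩)
    (g := ⟨_, mem_su φ hF h h3.2.2.2⟩) (SU 3 F q).subtype Subtype.val_injective
    (h1.map (SpecialLinearGroup.map φ))).quot fun h4 => h2 (congrArg (fun M : SU 3 F q => M.1.1 0 0) h4)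

/-- the `3`-cycle -/
def cy (R : Type) [CommRing R] : SpecialLinearGroup (Fin 3) R :=
  ⟨!![0, 0, 1; 1, 0, 0; 0, 1, 0], by simp [det_fin_three]⟩

/-- the inverting involution -/
def sw (R : Type) [CommRing R] : SpecialLinearGroup (Fin 3) R :=
  ⟨!![-1, 0, 0; 0, 0, -1; 0, -1, 0], by simp [det_fin_three]⟩

/-- a diagonal involution -/
def d1 : SpecialLinearGroup (Fin 3) ℤ := ⟨!![1, 0, 0; 0, -1, 0; 0, 0, -1], by decide⟩

/-- a diagonal involution -/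
def d2 : SpecialLinearGroup (Fin 3) ℤ := ⟨!![-1, 0, 0; 0, 1, 0; 0, 0, -1], by decide⟩

theorem rl_int : Rl d1 d2 (cy ℤ) (sw ℤ) := by decide

theorem ne_int [Fintype F] (hF : Odd (Fintype.card F)) : Int.castRingHom F (d1 0 0) ≠ Int.castRingHom F (d2 0 0) := by
  intro h
  have h1 : ringChar F ≠ 2 := fun h2 => by
    have h3 := FiniteField.even_card_of_char_two h2
    rw [Nat.odd_iff] at hF
    omega
  exact Ring.neg_one_ne_one_of_char_ne_two h1 (by simpa [d1, d2] using h.symm)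

theorem ok_l3 [Fintype F] (hF : Odd (Fintype.card F)) : Ok (ProjectiveSpecialLinearGroup (Fin 3) F) :=
  (rl_int.map (SpecialLinearGroup.map (Int.castRingHom F))).quot fun h =>
    ne_int hF (congrArg (fun M : SpecialLinearGroup (Fin 3) F => M.1 0 0) h)

theorem ok_u3 [Fintype F] {q : ℕ} (hF : Fintype.card F = q ^ 2) (hq : Odd q) : Ok (PSU 3 F q) := by
  obtain ⟨σ, hσ⟩ := ClassicalGeometry.GUBasic.exists_powHom hF
  exact ok_su (Int.castRingHom F) hF (fun r => (hσ _).symm.trans (map_intCast σ r)) rl_int (ne_int (hF ▸ hq.pow))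
    (by decide)

/-- the field with four elements -/
abbrev K4 : Type := QuadraticAlgebra (ZMod 2) 1 1

/-- an involution -/
def e1 : SpecialLinearGroup (Fin 3) K4 := ⟨!![0, ⟨0, 1⟩, ⟨1, 1⟩; ⟨0, 1⟩, ⟨0, 1⟩, 1; ⟨1, 1⟩, 1, ⟨1, 1⟩], by decide⟩

/-- an involution -/
def e2 : SpecialLinearGroup (Fin 3) K4 := ⟨!![⟨1, 1⟩, ⟨1, 1⟩, 1; ⟨1, 1⟩, 0, ⟨0, 1⟩; 1, ⟨0, 1⟩, ⟨0, 1⟩], by decide⟩

theorem e_rl : Rl e1 e2 (cy K4) (sw K4) ∧ (e1.1ᵀ * e1.1 = 1 ∧ e2.1ᵀ * e2.1 = 1 ∧ (cy K4).1ᵀ * (cy K4).1 = 1 ∧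
    (sw K4).1ᵀ * (sw K4).1 = 1) ∧ e1 0 0 * e1 0 1 = 0 ∧ e2 0 0 * e1 0 1 = 1 ∧
    ∀ a b : ZMod 2, (⟨a, b⟩ : K4) ^ 4 = ⟨a, b⟩ := by decide

theorem exists_hom [Fintype F] (hF : Fintype.card F = 16) : Nonempty (K4 →+* F) := by
  classical
  have : CharP F 2 := ringChar.of_eq (FiniteField.even_card_iff_char_two.2 (by rw [hF]))
  let _ := ZMod.algebra F 2
  have : Fact (Nat.Prime 3) := ⟨Nat.prime_three⟩
  obtain ⟨u, hu⟩ := exists_prime_orderOf_dvd_card (G := Fˣ) 3 (by rw [Fintype.card_units, hF]; norm_num)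
  have h1 : (u : F) ^ 3 = 1 := by rw [← Units.val_pow_eq_pow_val, ← hu, pow_orderOf_eq_one, Units.val_one]
  have h2 : (u : F) - 1 ≠ 0 := fun h => by
    rw [Units.val_eq_one.1 (sub_eq_zero.1 h), orderOf_one] at hu
    norm_num at hu
  refine ⟨(QuadraticAlgebra.lift (A := F) ⟨u, ?_⟩).toRingHom⟩
  rw [one_smul, one_smul]
  exact mul_left_cancel₀ h2 (by linear_combination h1 + (1 - (u : F) ^ 2) * (CharTwo.two_eq_zero (R := F)))

theorem ok_u34 [Fintype F] (hF : Fintype.card F = 16) : Ok (PSU 3 F 4) := by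
  obtain ⟨φ⟩ := exists_hom hF
  obtain ⟨h1, h2, h3, h4, h5⟩ := e_rl
  refine ok_su φ (q := 4) hF (fun r => by rw [← map_pow, h5 r.re r.im]) h1 (fun h => ?_) h2
  have h6 := congrArg (· * φ (e1 0 1)) h
  simp only [← map_mul, h3, h4, map_zero, map_one] at h6
  exact zero_ne_one h6

end three

/-! ### dimension two -/

section two

variable {K : Type} [Field K]

/-- the unipotent elements -/
def uh (K : Type) [Field K] : Multiplicative K →* PSL K := MonoidHom.mk' (fun s => pj (un s.toAdd)) fun s s' => by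
  rw [← pj_mul]
  congr 1
  refine ext4 ?_ ?_ ?_ ?_ <;> simp only [un, mul00, mul01, mul10, mul11, mk00, mk01, mk10, mk11, toAdd_mul] <;> ring

theorem uh_inj : Function.Injective (uh K) := (injective_iff_map_eq_one _).2 fun s h => by
  rcases pj_eq.1 (pj_one.trans h.symm) with h1 | h1
  · exact congrArg (fun M : SpecialLinearGroup (Fin 2) K => M.1 0 1) h1
  · exact (congrArg (fun M : SpecialLinearGroup (Fin 2) K => M.1 0 1) h1).trans neg_zero

theorem uh_conj {a : K} (ha : a ≠ 0) (s : K) : IsConj (uh K (.ofAdd s)) (uh K (.ofAdd (a * a * s))) := by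
  refine isConj_iff.2 ⟨pj (mkSL a 0 0 a⁻¹ (by simp [ha])), mul_inv_eq_iff_eq_mul.2 ?_⟩
  change pj _ * pj (un s) = pj (un (a * a * s)) * pj _
  rw [← pj_mul, ← pj_mul]
  congr 1
  refine ext4 ?_ ?_ ?_ ?_ <;> simp only [un, mul00, mul01, mul10, mul11, mk00, mk01, mk10, mk11] <;> field_simp <;> ring

theorem tet_three (h3 : (3 : K) = 0) : ∃ x₁ x₂ : PSL K, Tet x₁ x₂ (uh K (.ofAdd 1)) := by
  let i : SpecialLinearGroup (Fin 2) K := mkSL 0 1 (-1) 0 (by ring)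
  let j : SpecialLinearGroup (Fin 2) K := mkSL (-1) (-1) (-1) 1 (by linear_combination -h3)
  have h : ∀ A B : SpecialLinearGroup (Fin 2) K, A = -B → pj A = pj B := fun A B h => h ▸ pj_neg B
  refine ⟨pj i, pj j, tet_of (t := pj (un 1)) (fun h1 => ?_) ?_ ?_ ?_ ?_ ?_⟩
  · rcases pj_eq.1 (pj_one.trans h1.symm) with h1 | h1
    · exact one_ne_zero (congrArg (fun M : SpecialLinearGroup (Fin 2) K => M.1 0 1) h1)
    · exact one_ne_zero ((congrArg (fun M : SpecialLinearGroup (Fin 2) K => M.1 0 1) h1).trans neg_zero)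
  · rw [← pj_mul, sq_of_tr (add_zero _), pj_neg, pj_one]
  all_goals
    simp only [← pj_mul, ← pj_one (F := K)]
    first
    | refine congrArg pj (ext4 ?_ ?_ ?_ ?_) <;>
        simp only [i, j, un, mul00, mul01, mul10, mul11, mk00, mk01, mk10, mk11, o00, o01, o10, o11] <;>
        first | ring1 | linear_combination h3 | linear_combination -h3
    | refine h _ _ (ext4 ?_ ?_ ?_ ?_) <;>
        simp only [i, j, un, neg_apply', mul00, mul01, mul10, mul11, mk00, mk01, mk10, mk11] <;>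
        first | ring1 | linear_combination h3 | linear_combination -h3

theorem ok_l2 [Fintype K] (hK : Odd (Fintype.card K)) (h5 : 5 ≤ Fintype.card K) : Ok (PSL K) := by
  classical
  have h2 : ringChar K ≠ 2 := fun h2 => by
    have h3 := FiniteField.even_card_of_char_two h2
    rw [Nat.odd_iff] at hK
    omega
  have : Fact (ringChar K).Prime := ⟨CharP.char_is_prime K _⟩
  by_cases h3 : ringChar K = 3
  swap
  · obtain ⟨-, -, x₁, x₂, t, h4, h6⟩ := con_psl (K := K) _ h2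
    obtain ⟨⟨y, -, hy⟩, -⟩ := h6 h3
    exact ⟨x₁, x₂, t, h4, .inl ⟨y, hy⟩⟩
  have : CharP K 3 := ringChar.of_eq h3
  obtain ⟨x₁, x₂, h4⟩ := tet_three (K := K) (by exact_mod_cast CharP.cast_eq_zero K 3)
  have h6 : (uh K (.ofAdd 1))⁻¹ = uh K (.ofAdd (-1)) := (map_inv _ _).symm
  refine ⟨x₁, x₂, _, h4, ?_⟩
  by_cases h7 : IsSquare (-1 : K)
  · obtain ⟨a, ha⟩ := h7
    have h8 := uh_conj (a := a) (fun h => by simp [h] at ha) 1
    rw [mul_one, ← ha, ← h6] at h8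
    exact .inl (isConj_iff.1 h8)
  refine .inr ⟨(uh K).range, ?_, ?_, ?_⟩
  · obtain ⟨n, -, hn⟩ := FiniteField.card K 3
    rw [FiniteField.isSquare_neg_one_iff, not_not] at h7
    rw [← Nat.card_congr (MonoidHom.ofInjective uh_inj).toEquiv, Nat.card_eq_fintype_card, Fintype.card_multiplicative]
    rw [hn] at h5 h7 ⊢
    refine pow_dvd_pow 3 (show 3 ≤ (n : ℕ) from ?_)
    by_contra h8
    have h9 : (n : ℕ) < 3 := not_le.1 h8
    interval_cases (n : ℕ) <;> omega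
  · rintro _ ⟨a, rfl⟩ _ ⟨b, rfl⟩
    rw [← map_mul, ← map_mul, mul_comm]
  · rintro _ ⟨s, rfl⟩ hs
    have h8 : s.toAdd ≠ 0 := fun h => hs (by rw [show s = 1 from h, map_one])
    by_cases h9 : IsSquare s.toAdd
    · obtain ⟨a, ha⟩ := h9
      have h10 := uh_conj (a := a) (fun h => h8 (by rw [ha, h, mul_zero])) 1
      rw [mul_one, ← ha] at h10
      exact .inl h10.symm
    · obtain ⟨a, ha⟩ : IsSquare (-1 * s.toAdd) := by
        rw [← quadraticChar_one_iff_isSquare (mul_ne_zero (neg_ne_zero.2 one_ne_zero) h8), map_mul,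
          quadraticChar_neg_one_iff_not_isSquare.2 h7, quadraticChar_neg_one_iff_not_isSquare.2 h9]
        norm_num
      have h10 := uh_conj (a := a) (fun h => h8 (by simpa [h] using ha)) (-1)
      rw [← ha, ← h6, show -1 * s.toAdd * -1 = s.toAdd by ring] at h10
      exact .inr h10.symm

end two

theorem ok_a7 : Ok (Al 7) := by
  have h : ∀ {a b c d : Fin 7}, a ≠ b → c ≠ d → Equiv.swap a b * Equiv.swap c d ∈ alternatingGroup (Fin 7) :=
    fun h1 h2 => by simp [h1, h2]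
  exact Rl.ok (x₁ := ⟨Equiv.swap 0 1 * Equiv.swap 2 3, h (by decide) (by decide)⟩)
    (x₂ := ⟨Equiv.swap 0 2 * Equiv.swap 1 3, h (by decide) (by decide)⟩)
    (t := ⟨Equiv.swap 1 3 * Equiv.swap 1 2, h (by decide) (by decide)⟩)
    (g := ⟨Equiv.swap 1 2 * Equiv.swap 4 5, h (by decide) (by decide)⟩)
    (Rl.of_inj (alternatingGroup _).subtype Subtype.val_injective (by simp only [coe_subtype]; decide))
    fun h1 => absurd (congrArg Subtype.val h1) (by simp only [OneMemClass.coe_one]; decide)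

theorem ok_m11 {U : Type} [Group U] [Finite U] (h : IsM11 U) : Ok U := by
  have : Fact (Nat.Prime 11) := ⟨by norm_num⟩
  obtain ⟨d, hd⟩ := Set.nonempty_of_ncard_ne_zero (s := dodecads) (by rw [S0361.result]; norm_num)
  obtain ⟨p, hp⟩ := Finset.card_pos.1 (show 0 < d.card by rw [hd.2]; norm_num)
  obtain ⟨q, -, hq⟩ := Finset.exists_mem_notMem_of_card_lt_card (s := d) (t := Finset.univ) (by rw [hd.2]; decide)
  obtain ⟨e⟩ := S0420.result h d hd p hp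
  obtain ⟨f⟩ := S1601.result d hd p q hp hq
  exact Ok.congr e (((ok_l2 (by rw [ZMod.card]; decide) (by rw [ZMod.card]; decide)).congr f).map
    (inclusion inf_le_left) (inclusion_injective _))

/-- **[Tet]** -/
theorem boxTet : BoxTet := by
  intro U _ _ _ hc h2
  change Ok U
  rcases S0482.result hc h2 with ⟨F, _, _, h3, h4, ⟨e⟩⟩ | ⟨F, _, _, h3, ⟨e⟩⟩ | ⟨F, _, _, q, h3, h4, ⟨e⟩⟩ |
    ⟨F, _, _, h3, ⟨e⟩⟩ | ⟨⟨e⟩⟩ | h
  exacts [(ok_l2 h3 h4).congr e, (ok_l3 h3).congr e, (ok_u3 h3 h4).congr e, (ok_u34 h3).congr e, ok_a7.congr e, ok_m11 h]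

end Cfsg.Agent.Cam.E8O.Tet
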