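import Cfsg.Agent.Cam.E8.OVec1
import Cfsg.Agent.E8A.Fix.TorRed

/-!
# S3690, the row `E₈`, the box Vec: the stabilizer of a semisimple vector (helper10)

* `exists_sep` : the fixed points of the twisted torus which kill `S` separate the quotient of the lattice;
* `comm_of_kill` : in characteristic at least seven, an element of the torus which kills the roots vanishing at `h`
  centralizes the stabilizer of `h`;
* `exists_cent` : the stabilizer of a semisimple vector centralizes an element `s` with `s ^ 5 ≠ 1`.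
-/

set_option autoImplicit false
set_option linter.unusedVariables false
set_option linter.unusedSectionVars false
set_option maxRecDepth 20000

namespace Cfsg.Agent.Cam.E8O.Vec

open Cfsg Cfsg.Lie CoxeterSystem
open Cfsg.Agent.ChevalleyStructure
open Cfsg.Agent.ChevalleyStructure.CoxeterGeom Cfsg.Agent.ChevalleyStructure.CoxeterGeomTypes
open Cfsg.Agent.Tits.Roots Cfsg.Agent.Nodes.Reps Cfsg.Agent.Nodes.BNOf Cfsg.Agent.Nodes.RGDChev
open Cfsg.Agent.KFacts.RgdChevCoord Cfsg.Agent.BpExc.TowChev Cfsg.Agent.H129.TorusChar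
open Cfsg.Agent.BpExc.Fr
open Cfsg.Agent.H378.TorDual
open Cfsg.Agent.H942.E8Tab (e8T)
open Cfsg.Agent.E8A (G8 L8 Kb Q8 W8 cs8 rp8 lv Phi0 M0 act stab conj mem_stab)
open Cfsg.Agent.E8A.Frm

universe u

variable {F : Type u} [Field F] [Finite F] {p : ℕ} [Fact p.Prime] [CharP F p] {e : ℕ}

/-- the fixed points of the twisted torus which kill `S` separate the quotient of the lattice -/
theorem exists_sep (he0 : 0 < e) {n : G8 (Kb F)} {w : W8} (hn : Rp cs8 (ns8 p) w n) (S : Set Q8) {x : Q8}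
    (hcon : ¬ ∃ y, x - (rp8 w - ((p ^ e : ℕ) : ℤ) • (1 : Module.End ℤ Q8)) y ∈ Submodule.span ℤ S) :
    ∃ t ∈ Tw p e n, (∀ a ∈ S, cX e8T t a = 1) ∧ cX e8T t x ≠ 1 := by
  obtain ⟨f, hf⟩ : ∃ f, f = rp8 w - ((p ^ e : ℕ) : ℤ) • (1 : Module.End ℤ Q8) := ⟨_, rfl⟩
  have hd : ((LinearMap.det f : ℤ) : Kb F) ≠ 0 := by
    rw [hf]
    exact H378.TorFin.det_rep_ne_zero cs8 p he0 e8T.isCartan w
  rw [← hf] at hcon
  have hd0 : LinearMap.det f ≠ 0 := by
    intro h
    rw [h, Int.cast_zero] at hd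
    exact hd rfl
  let U : Submodule ℤ Q8 := Submodule.span ℤ S ⊔ LinearMap.range f
  have hx : x ∉ U := by
    intro hx
    obtain ⟨a, ha, _, ⟨y, rfl⟩, h⟩ := Submodule.mem_sup.1 hx
    exact hcon ⟨y, by rw [← h, add_sub_cancel_right]; exact ha⟩
  have := finite_co hd0
  have hfin : Finite (Q8 ⧸ U) := Finite.of_surjective _ (Submodule.factor_surjective (le_sup_right : _ ≤ U))
  have hexp : Monoid.exponent (Multiplicative (Q8 ⧸ U)) ∣ (LinearMap.det f).natAbs := by
    refine Monoid.exponent_dvd_of_forall_pow_eq_one fun y => ?_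
    obtain ⟨z, hz⟩ := U.mkQ_surjective (Multiplicative.toAdd y)
    have h1 : (LinearMap.det f).natAbs • z ∈ LinearMap.range f := by
      rw [← Submodule.Quotient.mk_eq_zero, ← Submodule.mkQ_apply, map_nsmul, ← card_co hd0]
      exact card_nsmul_eq_zero'
    apply Multiplicative.toAdd.injective
    rw [toAdd_pow, ← hz, ← map_nsmul, toAdd_one, Submodule.mkQ_apply, Submodule.Quotient.mk_eq_zero]
    exact Submodule.mem_sup_right h1
  have hne : NeZero ((Monoid.exponent (Multiplicative (Q8 ⧸ U)) : ℕ) : Kb F) := by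
    refine ⟨fun h => hd ?_⟩
    obtain ⟨c, hc⟩ := hexp
    have h1 : (((LinearMap.det f).natAbs : ℕ) : Kb F) = 0 := by rw [hc, Nat.cast_mul, h, zero_mul]
    rcases Int.natAbs_eq (LinearMap.det f) with h2 | h2
    · rw [h2, Int.cast_natCast, h1]
    · rw [h2, Int.cast_neg, Int.cast_natCast, h1, neg_zero]
  have h1 : Multiplicative.ofAdd (U.mkQ x) ≠ 1 := by
    intro h
    rw [ofAdd_eq_one, Submodule.mkQ_apply, Submodule.Quotient.mk_eq_zero] at h
    exact hx h
  obtain ⟨ψ, hψ⟩ := CommGroup.exists_apply_ne_one_of_hasEnoughRootsOfUnity (Multiplicative (Q8 ⧸ U)) (Kb F) h1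
  have hφ : IsMC (fun y : Q8 => ((ψ (Multiplicative.ofAdd (U.mkQ y)) : (Kb F)ˣ) : Kb F)) :=
    ⟨by
      show ((ψ (Multiplicative.ofAdd (U.mkQ 0)) : (Kb F)ˣ) : Kb F) = 1
      rw [map_zero, ofAdd_zero, map_one, Units.val_one],
    fun y z => by
      show ((ψ (Multiplicative.ofAdd (U.mkQ (y + z))) : (Kb F)ˣ) : Kb F) = _
      rw [map_add, ofAdd_add, map_mul, Units.val_mul]⟩
  obtain ⟨t, ht, htφ⟩ := exists_cX e8T invB8 one_ne_zero hφ fun i => ⟨_, pow_one _⟩
  have hU : ∀ y ∈ U, cX e8T t y = 1 := by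
    intro y hy
    rw [htφ]
    show ((ψ (Multiplicative.ofAdd (U.mkQ y)) : (Kb F)ˣ) : Kb F) = 1
    rw [Submodule.mkQ_apply, (Submodule.Quotient.mk_eq_zero U).2 hy, ofAdd_zero, map_one, Units.val_one]
  have h2 : t ∈ Tw p e n := by
    refine ⟨ht, (H129.TorusMain.tau_iff e8T cs8 (locFinK p) (sg_isFrob p) (sg_fr p) hn ht).2 fun y => ?_⟩
    have h3 := hU (f y) (Submodule.mem_sup_right ⟨y, rfl⟩)
    have h4 : f y = rp8 w y - (p ^ e) • y := by
      rw [hf, ← natCast_zsmul]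
      rfl
    rw [h4, (isMC_cX e8T ht).sub, (isMC_cX e8T ht).nsmul,
      div_eq_one_iff_eq (pow_ne_zero _ ((isMC_cX e8T ht).ne_zero y))] at h3
    exact h3
  refine ⟨t, h2, fun a ha => hU a (Submodule.mem_sup_left (Submodule.subset_span ha)), fun h4 => hψ ?_⟩
  apply Units.ext
  exact (htφ x).symm.trans h4

omit [Finite F] in
variable (p) in
include p in
/-- an element of the Weyl group which fixes `h` acts trivially modulo the roots vanishing at `h` -/
theorem sub_mem_Phi0 (h7 : 7 ≤ p) {h : L8 F} {w : W8} (hw : ∀ a, lv (rp8 w a) h = lv a h) (a : Q8) :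
    rp8 w a - a ∈ Submodule.span ℤ (Phi0 h) := by
  have h1 := conn8 (Fact.out : p.Prime) h7 {φ | ∃ l : F →+ ZMod p, φ = l.comp (lvH h)} w (by
    rintro _ ⟨l, rfl⟩ b
    show l (lv (rp8 w b) h) = l (lv b h)
    rw [hw])
  refine Submodule.span_mono ?_ (sub_mem_span h1 a)
  rintro b ⟨hb, h2⟩
  refine ⟨hb, ?_⟩
  by_contra h3
  obtain ⟨l, hl⟩ := exists_add p h3
  exact hl (h2 _ ⟨l, rfl⟩)

omit [Finite F] in
theorem cX_span {t : G8 F} (ht : t ∈ TT chevE8 F) {S : Set Q8} (hS : ∀ a ∈ S, cX e8T t a = 1) {a : Q8}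
    (ha : a ∈ Submodule.span ℤ S) : cX e8T t a = 1 := by
  have h1 := isMC_cX e8T ht
  induction ha using Submodule.span_induction with
  | mem a ha => exact hS a ha
  | zero => exact h1.zero
  | add a b _ _ ha hb => rw [h1.add, ha, hb, one_mul]
  | smul c a _ ha => rw [h1.zsmul, ha, one_zpow]

variable (p) in
include p in
/-- an element of the torus which kills the roots vanishing at `h` centralizes the stabilizer of `h` -/
theorem comm_of_kill (h7 : 7 ≤ p) {h : L8 (Kb F)} (hh : E8A.InT h) {t : G8 (Kb F)} (ht : t ∈ TT chevE8 (Kb F))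
    (hS : ∀ a ∈ Phi0 h, cX e8T t a = 1) {y : G8 (Kb F)} (hy : y ∈ stab h) : y * t = t * y := by
  have hk : LocFin (Kb F) := locFinK p
  obtain ⟨m, hm, w', n', hn', h1, h2⟩ := conj (Kb F) p hk (ns8 p) _ _ _ hh hh hy
  have h3 : ∀ a, lv (rp8 w'⁻¹ a) h = lv a h := by
    intro a
    have h8 := lv_rp p hk hn' hh (rp8 w'⁻¹ a)
    rw [rep_apply_inv, h1] at h8
    exact h8.symm
  have h4 : n' * t * n'⁻¹ = t := by
    refine cX_inj e8T (rp_TT hn' ht) ht fun i => ?_
    have h5 := cX_rp e8T cs8 hk p hn' ht (rp8 w'⁻¹ (sr i))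
    rw [rep_apply_inv] at h5
    have h6 := cX_span ht hS (sub_mem_Phi0 p h7 h3 (sr i))
    rw [(isMC_cX e8T ht).sub, div_eq_one_iff_eq ((isMC_cX e8T ht).ne_zero _)] at h6
    exact h5.trans h6
  have h5 := H942.CB.Sup_comm e8T cs8 hk p ht (S := Phi0 h) (fun a ha => ⟨ha.1, hS a ha⟩) hm
  rw [h2, mul_assoc, mul_inv_eq_iff_eq_mul.1 h4, ← mul_assoc, h5, mul_assoc]

variable (p) in
include p in
/-- the stabilizer of a semisimple vector centralizes an element whose order does not divide five -/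
theorem exists_cent (h7 : 7 ≤ p) {v : L8 F} (hv0 : v ≠ 0) {g₀ : G8 (Kb F)} (hg₀ : E8A.InT (ev g₀ v)) :
    ∃ s : G8 F, s ^ 5 ≠ 1 ∧ ∀ y ∈ stab v, y * s = s * y := by
  obtain ⟨e, he0, he⟩ := exists_exp (F := F) p
  obtain ⟨g, n, w, fr, h1, -⟩ := exists_frame conj he0 he hg₀
  have hv : E8A.InT (ev g v) := by rw [h1]; exact hg₀
  by_contra hcon
  push Not at hcon
  have h2 : ∃ a, lv a (ev g v) ≠ 0 := by
    by_contra h3
    push Not at h3
    apply hv0
    apply ev_injective g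
    rw [ev_zero]
    refine inT_ext hv (fun _ => rfl) fun i => ?_
    rw [h3]
    unfold lv
    exact (Finset.sum_eq_zero fun j _ => mul_zero _).symm
  obtain ⟨a, ha⟩ := h2
  obtain ⟨l, hl⟩ := exists_add p ha
  obtain ⟨f, hf0, hf⟩ := exists_fun (Fact.out : p.Prime) h7 (φ := l.comp (lvH (ev g v))) ⟨a, hl⟩
  have hW : Finite W8 := Ex.finite_WW Ex.tE8
  refine short (w := rp8 w) (orderOf_pos w).ne' (rp8_pow w) (S := Phi0 (ev g v)) (fun b hb => fr.w_mem he hv hb) hf0
    (fun b hb => hf b hb.1 (by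
      show l (lv b (ev g v)) = 0
      rw [hb.2, map_zero])) (q := p ^ e) (h7.trans (Nat.le_self_pow he0.ne' p)) fun x => ?_
  by_contra h3
  obtain ⟨t, ht, h4, h5⟩ := exists_sep he0 fr.rp _ h3
  obtain ⟨s, rfl⟩ := fr.Tw_le he ht
  have h6 : s ^ 5 = 1 := by
    by_contra h7'
    obtain ⟨y, hy, h8⟩ := hcon s h7'
    refine h8 (ee_injective g ?_)
    rw [map_mul, map_mul]
    exact comm_of_kill p h7 hv ht.1 h4 ((ee_mem_stab g).2 hy)
  apply h5
  rw [(isMC_cX e8T ht.1).zsmul, show (5 : ℤ) = ((5 : ℕ) : ℤ) from rfl, zpow_natCast, ← cX_pow e8T ht.1, ← map_pow, h6,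
    map_one, cX_one]

end Cfsg.Agent.Cam.E8O.Vec
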