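import Cfsg.Agent.Cam.E8.OIface
import Cfsg.Agent.Cam.E8.OVec2
import Cfsg.Agent.E8A.Fix.Line
import Cfsg.Agent.E8A.Fix.Bor
import Cfsg.Agent.E8A.Reg5.Kil
import Cfsg.Agent.E8A.Inf.Form

/-!
# S3690, the row `E₈`, the box Vec (helper10)

* `exists_aniso` : a `p'`-group with a fixed vector fixes a vector which is not isotropic for the trace form;
* `exists_semi` : it fixes a semisimple vector;
* `boxVec`.
-/

set_option autoImplicit false
set_option linter.unusedVariables false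
set_option linter.unusedSectionVars false
set_option maxRecDepth 20000

namespace Cfsg.Agent.Cam.E8O.Vec

open Cfsg Cfsg.Lie Subgroup
open Cfsg.Agent.E8A
open Cfsg.Agent.E8A.Reg5.Aut (kf kf_add_right kf_comm kf_act kf_LS kf_nondeg sixty_ne)

universe u

section

variable {K : Type u} [Field K]

theorem kf_zero_right (x : L8 K) : kf x 0 = 0 := by
  have h := kf_add_right x 0 0
  rw [add_zero] at h
  exact left_eq_add.1 h

theorem kf_sum_right {ι : Type*} (s : Finset ι) (x : L8 K) (y : ι → L8 K) :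
    kf x (∑ i ∈ s, y i) = ∑ i ∈ s, kf x (y i) := by
  classical
  induction s using Finset.induction_on with
  | empty => rw [Finset.sum_empty, Finset.sum_empty, kf_zero_right]
  | insert i s hi ih => rw [Finset.sum_insert hi, Finset.sum_insert hi, kf_add_right, ih]

theorem act_sum' {ι : Type*} (s : Finset ι) (g : G8 K) (y : ι → L8 K) :
    act g (∑ i ∈ s, y i) = ∑ i ∈ s, act g (y i) := by
  rw [← LK_apply, map_sum]
  rfl

theorem kf_mp {L : Type u} [Field L] (f : K →+* L) (x y : L8 K) : kf (mp f x) (mp f y) = f (kf x y) := by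
  unfold kf
  rw [adm_mp, adm_mp, ← Matrix.map_mul, AddMonoidHom.map_trace f]

/-- a `p'`-group with a fixed vector fixes a vector which is not isotropic -/
theorem exists_aniso (p : ℕ) [CharP K p] (h7 : 7 ≤ p) {A : Type*} [Group A] [Finite A] (hA : ¬ p ∣ Nat.card A)
    (φ : A →* G8 K) {v : L8 K} (hv0 : v ≠ 0) (hv : ∀ a, act (φ a) v = v) :
    ∃ v' : L8 K, kf v' v' ≠ 0 ∧ ∀ a, act (φ a) v' = v' := by
  have := Fintype.ofFinite A
  obtain ⟨x, hx⟩ : ∃ x, kf x v ≠ 0 := by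
    by_contra h
    push Not at h
    exact hv0 (kf_nondeg (sixty_ne p h7) h)
  obtain ⟨z, hz⟩ : ∃ z, z = ∑ a, act (φ a) x := ⟨_, rfl⟩
  have h1 : ∀ a, act (φ a) z = z := by
    intro a
    rw [hz, act_sum']
    exact Fintype.sum_equiv (Equiv.mulLeft a) _ _ fun b => by
      rw [← act_mul, ← map_mul]
      rfl
  have h2 : kf v z ≠ 0 := by
    have h3 : ∀ a, kf v (act (φ a) x) = kf x v := fun a => by
      conv_lhs => rw [← hv a]
      rw [kf_act, kf_comm]
    rw [hz, kf_sum_right, Finset.sum_congr rfl fun a _ => h3 a, Finset.sum_const, Finset.card_univ, nsmul_eq_mul]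
    refine mul_ne_zero (fun h => hA ?_) hx
    rw [Nat.card_eq_fintype_card]
    exact (CharP.cast_eq_zero_iff K p _).1 h
  by_cases h3 : kf v v = 0
  swap
  · exact ⟨v, h3, hv⟩
  by_cases h4 : kf z z = 0
  swap
  · exact ⟨z, h4, h1⟩
  refine ⟨v + z, ?_, fun a => by rw [act_add, hv, h1]⟩
  have h5 : kf (v + z) (v + z) = 2 * kf v z := by
    rw [kf_add_right, kf_comm _ v, kf_comm _ z, kf_add_right, kf_add_right, h3, h4, kf_comm z v]
    ring
  rw [h5]
  refine mul_ne_zero (fun h => ?_) h2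
  have h6 := Nat.le_of_dvd two_pos ((CharP.cast_eq_zero_iff K p 2).1 (by exact_mod_cast h))
  omega

end

variable {F : Type u} [Field F] [Finite F]

/-- the semisimple part of a vector which is not isotropic -/
theorem exists_semi {v : L8 F} (hv : kf v v ≠ 0) :
    ∃ (s : L8 F) (g : G8 (Kb F)), s ≠ 0 ∧ E8A.InT (Frm.ev g s) ∧ stab v ≤ stab s := by
  obtain ⟨g₁, h1⟩ := Bor.borel _ (mp0 v)
  obtain ⟨g₂, h2⟩ := jord _ _ h1
  rw [← act_mul] at h2
  obtain ⟨s, h3, h4, -⟩ := exists_ss canon h2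
  refine ⟨s, g₂ * g₁, fun h0 => hv ?_, ?_, fun y hy => h4 y hy⟩
  · have h5 := sub_tp_mem h2.1
    rw [← h3, h0, Frm.mp0_zero, act_zero, sub_zero] at h5
    have h6 := kf_LS (fun a ha b hb h => ha.2 (le_antisymm (by
      have h7 : a = -b := eq_neg_of_add_eq_zero_left h
      rw [h7]
      exact neg_nonpos.2 hb.1) ha.1)) h5 h5
    rw [kf_act] at h6
    have h7 := kf_mp (algebraMap F (Kb F)) v v
    exact (map_eq_zero _).1 (h7.symm.trans h6)
  · show E8A.InT (act (g₂ * g₁) (mp0 s))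
    rw [h3]
    exact inT_tp _

/-- the finite group -/
theorem vec8 (p : ℕ) [Fact p.Prime] [CharP F p] (h7 : 7 ≤ p) {A : Type*} [Group A] [Finite A] (hA : ¬ p ∣ Nat.card A)
    (φ : A →* G8 F) (h : ¬ Inf.NoFx φ) : ∃ s : G8 F, s ^ 5 ≠ 1 ∧ ∀ a, φ a * s = s * φ a := by
  obtain ⟨v, hv, hv0⟩ : ∃ v : L8 F, (∀ a, act (φ a) v = v) ∧ v ≠ 0 := by
    by_contra h1
    push Not at h1
    exact h h1
  obtain ⟨v', h1, h2⟩ := exists_aniso p h7 hA φ hv0 hv
  obtain ⟨s, g, h3, h4, h5⟩ := exists_semi h1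
  obtain ⟨t, h6, h8⟩ := exists_cent p h7 h3 h4
  exact ⟨t, h6, fun a => h8 _ (h5 (h2 a))⟩

/-- **`BoxVec`.** -/
theorem boxVec : BoxVec := by
  intro p _ h7 L _ _ E Γ hΓ hF
  have := Fintype.ofFinite (GaloisField p E.e)
  obtain ⟨f⟩ := BpExc.RowsUntw.exists_emb p (GaloisField p E.e)
  obtain ⟨e, z, hz⟩ := Ex.FExt.exists_iso E H129.TorusChar.invC_E8 one_ne_zero (Or.inl rfl) (GaloisField p E.e)
    (GaloisField.card p E.e E.he.ne') (S1054.result _ (by simp)) f
  have hz' : ∀ x, em f (e x) = z⁻¹ * E.ι x * z := hz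
  obtain ⟨v, hv, hv0⟩ := (Submodule.ne_bot_iff _).1 hF
  obtain ⟨s, h1, h2⟩ := vec8 p h7 hΓ (e.toMonoidHom.comp Γ.subtype) fun h => by
    have h3 := h.em f (act z⁻¹ v) fun a => by
      show act (em f (e a)) (act z⁻¹ v) = _
      have h4 : act (E.ι a) v = v := (DS.Nt.mem_Fx p).1 hv _ ⟨a, a.2, rfl⟩
      rw [hz', act_mul, act_mul, act_inv', h4]
    exact hv0 (act_eq_zero h3)
  refine ⟨e.symm s, fun a ha => e.injective ?_, fun h => h1 ?_⟩
  · rw [map_mul, map_mul, MulEquiv.apply_symm_apply]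
    exact h2 ⟨a, ha⟩
  · have h3 := congrArg e h
    rwa [map_pow, MulEquiv.apply_symm_apply, map_one] at h3

end Cfsg.Agent.Cam.E8O.Vec
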