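import Cfsg.Agent.Cam.E8.OAsmC
import Cfsg.Agent.Cam.E8.OLink
import Cfsg.Agent.Cam.E8.OP3
import Cfsg.Agent.Cam.E8.OTet
import Cfsg.Agent.Cam.E8.OA2
import Cfsg.Agent.Cam.E8.OA5
import Cfsg.Agent.Cam.E8.OIso
import Cfsg.Agent.Cam.E8.OGrp
import Cfsg.Agent.Cam.E8.OVec
import Cfsg.Agent.Cam.E8K.G
import Cfsg.Agent.Cam.All

/-!
# S3690, the row `E₈` from the remaining boxes (helper70)
-/

set_option autoImplicit false

namespace Cfsg.Agent.Cam.E8O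

theorem boxE8_of_rest (j : BoxJ) (e16 : BoxE16) (two : E8.BoxTwo) : BoxE8 :=
  boxE8_of Ex.Frm.boxFrame (Asm.oddE8 ⟨Link.boxLink, E8K.boxML, j, P3.boxP3, Tet.boxTet, e16, A2.boxA2, A5.boxA5,
    A5.boxP81, Iso.boxIso, Grp8.boxGrp8, Vec.boxVec⟩) (evenE8_of Link.boxLink Mov.boxMov two)

end Cfsg.Agent.Cam.E8O
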