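import Cfsg.Agent.Cam.Ex.PGrp

/-!
# S3690, the row `E₈`, odd characteristic, `BoxJ`: normal subgroups of `SL₂(q)` (helper91)

A subgroup normalized by `SL₂(q)`, `q` odd, which contains the commutators with a non-central element, is not abelian
and contains `-1`.
-/

set_option autoImplicit false
set_option linter.unusedVariables false
set_option linter.unusedSimpArgs false

namespace Cfsg.Agent.Cam.E8O.J

open Subgroup Cfsg.Agent.Cam.Ex.S2 Cfsg.Agent.Cam.Ex.P
open Cfsg.Agent.ChevalleyStructure.SL2Hom (up lo)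
open Cfsg.Agent.Nodes.RGDFoldSL (hS)
open scoped commutatorElement

variable {k : Type*} [Field k]

/-- the only involution -/
theorem eq_neg_of_sq (h2 : (2 : k) ≠ 0) {a : SL k} (h : a * a = 1) (h1 : a ≠ 1) : a = hS (-1) := by
  have e1 := congrArg (fun x : SL k => x.1 0 0) h
  have e2 := congrArg (fun x : SL k => x.1 0 1) h
  have e3 := congrArg (fun x : SL k => x.1 1 0) h
  simp only [mul_e, one00, one01, one10] at e1 e2 e3
  have hd := det_e a
  have ht : a.1 0 0 + a.1 1 1 ≠ 0 := fun e => h2 (by linear_combination (a.1 0 0) * e - e1 - hd)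
  have e4 : a.1 0 1 = 0 := (mul_eq_zero.1 (by linear_combination e2)).resolve_left ht
  have e5 : a.1 1 0 = 0 := (mul_eq_zero.1 (by linear_combination e3)).resolve_left ht
  rw [e4] at e1 hd
  refine (center_cases (mem_center_iff'.2 ⟨e4, e5, ?_⟩)).resolve_left h1
  linear_combination (-(a.1 0 0)) * hd + (a.1 1 1) * e1

theorem exists_sqrt (h2 : (2 : k) ≠ 0) {M : Subgroup (SL k)} (hM : hS (-1) ∉ M) {a : SL k} (ha : a ∈ M)
    (hf : IsOfFinOrder a) : ∃ b ∈ M, b * b = a := by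
  have h0 := hf.orderOf_pos
  rcases Nat.even_or_odd' (orderOf a) with ⟨m, h | h⟩
  · refine absurd ?_ hM
    rw [← eq_neg_of_sq h2 (a := a ^ m) (by rw [← pow_add, ← two_mul, ← h, pow_orderOf_eq_one])
      (pow_ne_one_of_lt_orderOf (by omega) (by omega))]
    exact pow_mem ha m
  · refine ⟨a ^ (m + 1), pow_mem ha _, ?_⟩
    rw [← pow_add, show m + 1 + (m + 1) = 2 * m + 1 + 1 by ring, ← h, pow_succ, pow_orderOf_eq_one, one_mul]

theorem tr_sq (b : SL k) : tr (b * b) + 2 = tr b ^ 2 := by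
  have hd := det_e b
  simp only [tr, mul_e]
  linear_combination (-2 : k) * hd

theorem tr_cmt (a : SL k) (t : k) : tr (up t * a * (up t)⁻¹ * a⁻¹) = 2 + (t * a.1 1 0) ^ 2 := by
  have hd := det_e a
  have h1 : (a⁻¹).1 = !![a.1 1 1, -a.1 0 1; -a.1 1 0, a.1 0 0] := Matrix.adjugate_fin_two a.1
  have i00 : (a⁻¹).1 0 0 = a.1 1 1 := congrFun (congrFun h1 0) 0
  have i01 : (a⁻¹).1 0 1 = -a.1 0 1 := congrFun (congrFun h1 0) 1
  have i10 : (a⁻¹).1 1 0 = -a.1 1 0 := congrFun (congrFun h1 1) 0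
  have i11 : (a⁻¹).1 1 1 = a.1 0 0 := congrFun (congrFun h1 1) 1
  rw [up_inv]
  simp only [tr, mul_e, up00, up01, up10, up11, i00, i01, i10, i11]
  linear_combination (2 : k) * hd

theorem not_all_sq {K : Type*} [Field K] [Finite K] (h2 : (2 : K) ≠ 0) (h : ∀ u : K, ∃ b, 4 + u ^ 2 = b ^ 2) : False := by
  have := Fintype.ofFinite K
  have hc : ringChar K ≠ 2 := fun e => h2 (by
    have h1 := ringChar.Nat.cast_ringChar (R := K)
    rw [e] at h1
    exact_mod_cast h1)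
  obtain ⟨x, hx⟩ := FiniteField.exists_nonsquare hc
  obtain ⟨a, b, e⟩ := FiniteField.exists_root_sum_quadratic (f := (Polynomial.X : Polynomial K) ^ 2)
    (g := Polynomial.X ^ 2 - Polynomial.C x) (Polynomial.degree_X_pow 2) (Polynomial.degree_X_pow_sub_C two_pos x)
    (FiniteField.odd_card_of_char_ne_two hc)
  simp only [Polynomial.eval_pow, Polynomial.eval_X, Polynomial.eval_sub, Polynomial.eval_C] at e
  refine hx ?_
  by_cases ha : a = 0
  · exact ⟨b, by rw [ha] at e; linear_combination -e⟩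
  · obtain ⟨c, hc⟩ := h (2 * b / a)
    refine ⟨a * c / 2, ?_⟩
    field_simp at hc ⊢
    linear_combination hc - 4 * e

variable {f : k →+* k} {κ : k} {hκ : κ ≠ 0} {v : k} {M : Subgroup (SL k)}

theorem exists_low (h2 : (2 : k) ≠ 0) (hv0 : v ≠ 0) (hv : κ * f v = v)
    (hn : ∀ s ∈ fixG f hκ, ∀ a ∈ M, s * a * s⁻¹ ∈ M) {j : SL k} (hj : j ∉ center (SL k))
    (hc : ∀ s ∈ fixG f hκ, ⁅j, s⁆ ∈ M) : ∃ a ∈ M, a.1 1 0 ≠ 0 := by
  by_contra h
  have h0 : ∀ a ∈ M, a.1 1 0 = 0 := fun a ha => by_contra fun e => h ⟨a, ha, e⟩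
  have hw : κ⁻¹ * f v⁻¹ = v⁻¹ := by rw [map_inv₀, ← mul_inv, hv]
  have hw0 := inv_ne_zero hv0
  have h1 : ∀ a ∈ M, a ∈ center (SL k) := fun a ha => by
    have e0 := h0 a ha
    have e1 := h0 _ (hn _ (lo_mem_fixG hw) a ha)
    have e2 := h0 _ (hn _ (inv_mem (lo_mem_fixG hw)) a ha)
    rw [lo_inv] at e1
    rw [inv_inv, lo_inv] at e2
    simp only [mul_e, lo00, lo01, lo10, lo11, e0] at e1 e2
    refine mem_center_iff'.2 ⟨mul_left_cancel₀ (mul_ne_zero h2 (mul_ne_zero hw0 hw0)) ?_, e0,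
      mul_left_cancel₀ (mul_ne_zero h2 hw0) ?_⟩
    · linear_combination -e1 - e2
    · linear_combination e1 - e2
  have c1 := comm_of_tr (tr_up v) (h1 _ (hc _ (up_mem_fixG hv)))
  have c2 := comm_of_tr (tr_lo v⁻¹) (h1 _ (hc _ (lo_mem_fixG hw)))
  have e1 := congrArg (fun x : SL k => x.1 0 0) c1
  have e2 := congrArg (fun x : SL k => x.1 0 1) c1
  have e3 := congrArg (fun x : SL k => x.1 0 0) c2
  simp only [mul_e, up00, up01, up10, up11, lo00, lo01, lo10, lo11] at e1 e2 e3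
  exact hj (mem_center_iff'.2 ⟨mul_left_cancel₀ hw0 (by linear_combination e3),
    mul_left_cancel₀ hv0 (by linear_combination -e1), mul_left_cancel₀ hv0 (by linear_combination e2)⟩)

/-- **Normal subgroups of `SL₂(q)`.** -/
theorem sl2_main (h2 : (2 : k) ≠ 0) (hfin : Finite (fixG f hκ)) (hv0 : v ≠ 0) (hv : κ * f v = v) (hle : M ≤ fixG f hκ)
    (hn : ∀ s ∈ fixG f hκ, ∀ a ∈ M, s * a * s⁻¹ ∈ M) {j : SL k} (hj : j ∉ center (SL k))
    (hc : ∀ s ∈ fixG f hκ, ⁅j, s⁆ ∈ M) : hS (-1) ∈ M ∧ ∃ a ∈ M, ∃ b ∈ M, a * b ≠ b * a := by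
  obtain ⟨a, ha, hγ⟩ := exists_low h2 hv0 hv hn hj hc
  refine ⟨by_contra fun hM => ?_, a, ha, _, hn _ (up_mem_fixG hv) a ha, fun e => ?_⟩
  · have a10 : κ⁻¹ * f (a.1 1 0) = a.1 1 0 := congrArg (fun x : SL k => x.1 1 0) (hle ha)
    have a10' : f (a.1 1 0) = κ * a.1 1 0 := by rw [← a10, ← mul_assoc, mul_inv_cancel₀ hκ, one_mul, a10]
    have h3 : ∀ u : f.eqLocusField (RingHom.id k), up (u.1 / a.1 1 0) ∈ fixG f hκ := fun u => up_mem_fixG (by
      have hu : f u.1 = u.1 := u.2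
      rw [map_div₀, hu, a10']
      field_simp)
    have : Finite (f.eqLocusField (RingHom.id k)) :=
      Finite.of_injective (fun u => (⟨_, h3 u⟩ : fixG f hκ)) fun u u' e => by
        have e1 := congrArg (fun x : fixG f hκ => x.1.1 0 1) e
        exact Subtype.ext ((div_left_inj' hγ).1 e1)
    refine not_all_sq (K := f.eqLocusField (RingHom.id k)) (fun e => h2 (congrArg Subtype.val e)) fun u => ?_
    have h4 := mul_mem (hn _ (h3 u) a ha) (inv_mem ha)
    obtain ⟨b, hb, e⟩ := exists_sqrt h2 hM h4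
      (MonoidHom.isOfFinOrder (fixG f hκ).subtype (isOfFinOrder_of_finite ⟨_, hle h4⟩))
    have b00 : f (b.1 0 0) = b.1 0 0 := congrArg (fun x : SL k => x.1 0 0) (hle hb)
    have b11 : f (b.1 1 1) = b.1 1 1 := congrArg (fun x : SL k => x.1 1 1) (hle hb)
    refine ⟨⟨tr b, show f (tr b) = tr b by rw [tr, map_add, b00, b11]⟩, Subtype.ext ?_⟩
    show 4 + u.1 ^ 2 = tr b ^ 2
    rw [← tr_sq, e, tr_cmt, div_mul_cancel₀ _ hγ]
    ring
  · have e1 := congrArg (fun x : SL k => x.1 1 0) e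
    rw [up_inv] at e1
    simp only [mul_e, up00, up01, up10, up11] at e1
    exact mul_ne_zero h2 (mul_ne_zero hv0 (mul_ne_zero hγ hγ)) (by linear_combination e1)

end Cfsg.Agent.Cam.E8O.J
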