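import Cfsg.Agent.Cam.E8.OJA
import Cfsg.Agent.Cam.E8.OJS

/-!
# S3690, the row `E₈`, odd characteristic: `BoxJ` (helper91)
-/

set_option autoImplicit false
set_option linter.unusedVariables false
set_option maxRecDepth 100000

namespace Cfsg.Agent.Cam.E8O.J

open CoxeterSystem Cfsg Cfsg.Lie Subgroup Module
open Cfsg.Agent.Tits.Roots Cfsg.Agent.Nodes.BNOf Cfsg.Agent.Nodes.RGDChev Cfsg.Agent.KFacts.RgdChevCoord
open Cfsg.Agent.ChevalleyStructure.CoxeterGeom Cfsg.Agent.ChevalleyStructure.CoxeterGeomTypes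
open Cfsg.Agent.Cam.Spor Cfsg.Agent.Cam.Ex Cfsg.Agent.Cam.Ex.S2 Cfsg.Agent.Cam.Odd
open Cfsg.Agent.DS.Nt (dd)
open Cfsg.Agent.ChevalleyStructure.SL2Hom (up lo)
open Cfsg.Agent.Nodes.RGDFoldSL (hS)
open scoped commutatorElement

variable {p : ℕ} [Fact p.Prime] {L : Type} [Group L]

theorem xn_conj {ι ι' : L →* Y8 p} {x : L} {ψ : SL (kb p) →* Y8 p} {g : Y8 p} (e : ∀ y, ι y = g * ι' y * g⁻¹)
    (h : XN ι' x ψ) : XN ι x (cjh g ψ) := by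
  have h1 : ∀ y, ι y ∈ (cjh g ψ).range ↔ ι' y ∈ ψ.range := fun y => by
    rw [e]
    exact exists_congr fun s => ⟨fun h => conj_inj' h, fun h => by rw [cjh_apply, h]⟩
  have h2 : ∀ y, Cz (cjh g ψ) (ι y) ↔ Cz ψ (ι' y) := fun y => by rw [e, cz_cjh]
  refine ⟨?_, fun N hN n hn hx hz => ?_⟩
  · obtain ⟨w, h3, h4⟩ := h.ex
    exact ⟨w, (h1 w).2 h3, fun h5 => h4 ((h2 w).1 h5)⟩
  · obtain ⟨h3, a, ha, b, hb, h4, h5, h6⟩ := h.nrm N (fun s hs => hN s ((h1 s).2 hs)) n hn hx fun h5 => hz ((h2 n).2 h5)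
    exact ⟨h3, a, ha, b, hb, (h1 a).2 h4, (h1 b).2 h5, h6⟩

theorem xn_std [Finite L] (h2 : p ≠ 2) (E : Fr8 p L) {c : Lat 8} (hc : Rt tE8 c) (hg : E.g c = c) {x : L}
    (hx : E.ι x = sl p hc (hS (-1))) : XN E.ι x (sl p hc) := by
  obtain ⟨κ, hκ, hF⟩ := P.act_sl E.frob E.fr hc hc hg
  have hi := P.sl_inj (p := p) hc (Or.inr (exists_odd hc))
  obtain ⟨v, hv0, hv⟩ := En.exists_fix_pow hκ (En.two_le_q E)
  rw [Frame.q, ← P.fb_apply] at hv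
  have h1 : ∀ A ∈ P.fixG (P.fb p E.e) hκ, ∃ s, E.ι s = sl p hc A := fun A hA => by
    have h3 := E.idx (sl p hc A) (by rw [hF, P.mem_fixG.1 hA])
    rwa [pow_one] at h3
  have h3 : ∀ s A, E.ι s = sl p hc A → A ∈ P.fixG (P.fb p E.e) hκ := fun s A h =>
    P.mem_fixG.2 (hi (by rw [← hF, ← h, E.fix]))
  refine ⟨?_, fun N hN n hn hnx hz => ?_⟩
  · obtain ⟨w, hw⟩ := h1 _ (P.up_mem_fixG hv)
    exact ⟨w, ⟨_, hw.symm⟩, fun h => P.not_comm (sl_ck hc) hv0 one_ne_zero (hw ▸ h (lo 1))⟩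
  · obtain ⟨j, hj⟩ := inn_z h2 hc (y := E.ι n) (by rw [← hx, ← map_mul, ← map_mul, hnx])
    have hfin : Finite (P.fixG (P.fb p E.e) hκ) := by
      choose s hs using h1
      exact Finite.of_injective (fun A : P.fixG (P.fb p E.e) hκ => s A.1 A.2) fun A B e =>
        Subtype.ext (hi (by rw [← hs A.1 A.2, ← hs B.1 B.2]; exact congrArg E.ι e))
    have h2' : (2 : kb p) ≠ 0 := fun e => (prim2 h2).ne_one one_lt_two (by linear_combination -e)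
    obtain ⟨⟨y, hy, e⟩, a, ⟨a', ha, ea⟩, b, ⟨b', hb, eb⟩, hab⟩ := sl2_main (M := (N.map E.ι).comap (sl p hc)) h2' hfin hv0 hv
      (fun A ⟨s, _, hs⟩ => h3 s A hs) (fun s hs A ⟨a, ha, e⟩ => by
        obtain ⟨s', e'⟩ := h1 s hs
        refine ⟨_, hN s' ⟨s, e'.symm⟩ a ha, ?_⟩
        rw [map_mul, map_mul, map_inv, e, e', map_mul, map_mul, map_inv]) (fun h => hz (cz_of_inn hj h)) (fun s hs => by
        obtain ⟨s', e'⟩ := h1 s hs
        refine ⟨_, mul_mem hn (hN s' ⟨s, e'.symm⟩ _ (inv_mem hn)), ?_⟩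
        rw [commutatorElement_def, map_mul (sl p hc), ← hj s, map_mul, map_mul, map_mul, map_inv, map_inv, map_inv, e']
        group)
    refine ⟨E.inj (e.trans hx.symm) ▸ hy, a', ha, b', hb, ⟨a, ea.symm⟩, ⟨b, eb.symm⟩, fun h => hab (hi ?_)⟩
    rw [map_mul, map_mul, ← ea, ← eb, ← map_mul, ← map_mul, h]

/-- **`BoxJ`** -/
theorem boxJ : BoxJ := by
  intro p _ h2 L _ _ E x ho hd
  have hx2 : x ^ 2 = 1 := by rw [← ho, pow_orderOf_eq_one]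
  obtain ⟨E', h1, h3⟩ := exists_frame₁ E h2 hx2
  obtain ⟨c, hc, e⟩ := exists_z h2 h3 (by rw [← map_pow, hx2, map_one]) (by rw [cj_dd h1, hd])
  have h4 := chi2_g E' h2 (e ▸ chi_z hc)
  obtain ⟨E'', -, hg, z', hz', h5⟩ := En.exists_move_fix E' hc
    (pm_of hc hc (f := E'.g) (P.rt_g E' hc) (fun a => E'.gcp a c hc) h4)
  obtain ⟨-, z, hz⟩ := h1
  rw [← sl_range hc] at hz'
  obtain ⟨A, rfl⟩ := hz'
  have h6 : E''.ι x = sl p hc (hS (-1)) := by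
    rw [h5, e, mul_assoc, ← map_mul, ← mem_center_iff.1 m1_center A, map_mul, inv_mul_cancel_left]
  have h7 : ∀ y, E.ι y = z * sl p hc A * E''.ι y * (z * sl p hc A)⁻¹ := fun y => by
    rw [h5, hz]
    group
  refine ⟨cjh (z * sl p hc A) (sl p hc), ?_, xn_conj h7 (xn_std h2 E'' hc hg h6)⟩
  rw [h7, h6]
  exact ja_conj (ja_std h2 hc) _

end Cfsg.Agent.Cam.E8O.J
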