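import Cfsg.Agent.Cam.E8.OFin
import Cfsg.Agent.Cam.E8.OJ
import Cfsg.Agent.Cam.E8.OE16
import Cfsg.Agent.Cam.E8K.H

/-!
# S3690, the row `E₈` from the field with two elements (helper70)
-/

set_option autoImplicit false

namespace Cfsg.Agent.Cam.E8O

theorem boxE8_of_two (h : E8.BoxQ 2) : BoxE8 := boxE8_of_rest J.boxJ E16.boxE16 (E8K.boxTwo_of h)

end Cfsg.Agent.Cam.E8O
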