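import Cfsg.Agent.Cam.E8.OJTab
import Cfsg.Agent.Cam.Odd.E7A
import Cfsg.Agent.E8A.Fix.FrmTor

/-!
# S3690, the row `E₈`, odd characteristic, `BoxJ`: the algebraic group (helper91)

`ja_std` : the centre of a root `SL₂`; `JA.conj` : conjugation.
-/

set_option autoImplicit false
set_option linter.unusedVariables false
set_option maxRecDepth 100000

namespace Cfsg.Agent.Cam.E8O.J

open CoxeterSystem Cfsg Cfsg.Lie Subgroup Module
open Cfsg.Agent.Tits.Roots Cfsg.Agent.Nodes.BNOf Cfsg.Agent.Nodes.RGDChev Cfsg.Agent.KFacts.RgdChevCoord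
open Cfsg.Agent.ChevalleyStructure.CoxeterGeom Cfsg.Agent.ChevalleyStructure.CoxeterGeomTypes
open Cfsg.Agent.Cam.Spor Cfsg.Agent.Cam.Ex Cfsg.Agent.Cam.Ex.S2 Cfsg.Agent.Cam.Odd
open Cfsg.Agent.DS.Nt (dd ad RP)
open Cfsg.Agent.DS.Nt.P8 (gr gr_neg)
open Cfsg.Agent.ChevalleyStructure.SL2Hom (up lo)
open Cfsg.Agent.Nodes.RGDFoldSL (hS)

variable {p : ℕ} [Fact p.Prime] {c : Lat 8}

theorem neg_one_zpow {k : Type*} [Field k] (n : ℤ) : (-1 : k) ^ n = (-1) ^ (n : ZMod 2).val := by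
  rcases Int.even_or_odd' n with ⟨m, rfl | rfl⟩
  · rw [(even_two_mul m).neg_one_zpow, Int.cast_mul, show ((2 : ℤ) : ZMod 2) = 0 from rfl, zero_mul, ZMod.val_zero,
      pow_zero]
  · rw [(odd_two_mul_add_one m).neg_one_zpow, Int.cast_add, Int.cast_mul, show ((2 : ℤ) : ZMod 2) = 0 from rfl, zero_mul,
      zero_add, Int.cast_one, show (1 : ZMod 2).val = 1 from rfl, pow_one]

theorem m1 {k : Type*} [Field k] : (-1 : k) ≠ 0 := neg_ne_zero.2 one_ne_zero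

theorem m1_center {k : Type*} [Field k] : (hS (-1) : SL k) ∈ center (SL k) :=
  mem_center_iff'.2 ⟨hS01 m1, hS10 m1, by rw [hS00 m1, hS11 m1, inv_neg, inv_one]⟩

theorem chi_z (hc : Rt tE8 c) : Chi tE8 (-1) (sl p hc (hS (-1))) (gr c) :=
  ⟨sl_hS_mem hc m1, fun a ha => by rw [ch_sl_hS hc m1 ha, gr_cp hc, neg_one_zpow]⟩

theorem dd_z (h2 : p ≠ 2) (hc : Rt tE8 c) : dd p (sl p hc (hS (-1))) = 136 := by
  rw [dd_chi (prim2 h2) (chi_z hc), nk_gr hc]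

/-- toral involutions of class 2A -/
theorem exists_z (h2 : p ≠ 2) {x : Y8 p} (hx : x ∈ TT chevE8 (kb p)) (hx2 : x ^ 2 = 1) (hd : dd p x = 136) :
    ∃ (c : Lat 8) (hc : Rt tE8 c), x = sl p hc (hS (-1)) := by
  obtain ⟨φ, hφ⟩ := chi_ex tE8 (prim2 h2) two_pos hx hx2
  have h1 := dd_chi (prim2 h2) hφ
  obtain ⟨c, hc, rfl⟩ := exists_root (φ := φ) (by omega)
  exact ⟨c, hc, Chi.eq_of (prim2 h2) boxChi hφ (chi_z hc)⟩

theorem dec_z (h2 : p ≠ 2) (hc : Rt tE8 c) {y : Y8 p} (hy : y * sl p hc (hS (-1)) = sl p hc (hS (-1)) * y) :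
    ∃ m ∈ MS chevE8 8 p (Psi tE8 (gr c)), ∃ t ∈ TT chevE8 (kb p), y = m * t := by
  obtain ⟨m, hm, t, ht, rfl⟩ := DS.Nt.mem_DZ.1
    (mem_DZ8 Nat.prime_two h2.symm (chi_z hc).1 ((chi_z hc).pow_eq_one (prim2 h2)) hy)
  rw [← MS_psiS, (chi_z hc).psiS (prim2 h2)] at hm
  exact ⟨m, hm, t, ht, rfl⟩

theorem inn_z (h2 : p ≠ 2) (hc : Rt tE8 c) {y : Y8 p} (hy : y * sl p hc (hS (-1)) = sl p hc (hS (-1)) * y) :
    ∃ j, IA (sl p hc) y j := by
  obtain ⟨m, hm, t, ht, rfl⟩ := dec_z h2 hc hy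
  obtain ⟨j, hj⟩ := (spl_psi hc (a1c hc)).inn _ hm
  obtain ⟨a, -, -, ha⟩ := inn_T hc ht
  exact ⟨_, hj.mul ha⟩

/-- an involution commuting with `z` is moved into the torus -/
theorem move_z (h2 : p ≠ 2) (hc : Rt tE8 c) {x : Y8 p} (hx2 : x ^ 2 = 1)
    (hx : x * sl p hc (hS (-1)) = sl p hc (hS (-1)) * x) : ∃ g : Y8 p, g * sl p hc (hS (-1)) * g⁻¹ = sl p hc (hS (-1)) ∧
      (∃ j, IA (sl p hc) g j) ∧ g * x * g⁻¹ ∈ TT chevE8 (kb p) := by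
  obtain ⟨g, h1, h3⟩ := DS.Nt.exists_pair tE8 (z := sl p hc (hS (-1))) (x := x) (g := 1)
    (by rw [one_mul, inv_one, mul_one]; exact (chi_z hc).1)
    (tp8 Nat.prime_two h2.symm ((chi_z hc).pow_eq_one (prim2 h2)) ⟨1, by rw [pow_one, hx2]⟩ hx.symm)
  rw [one_mul, inv_one, mul_one] at h1
  exact ⟨g, h1, inn_z h2 hc (mul_inv_eq_iff_eq_mul.1 h1), h3⟩

theorem q8_z (h2 : p ≠ 2) (hc : Rt tE8 c) {x : Y8 p} (ho : orderOf x = 2) (hne : x ≠ sl p hc (hS (-1)))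
    (hx : x * sl p hc (hS (-1)) = sl p hc (hS (-1)) * x) :
    Cz (sl p hc) x ↔ dd p (x * sl p hc (hS (-1))) ≠ dd p x := by
  have hx2 : x ^ 2 = 1 := by rw [← ho, pow_orderOf_eq_one]
  have hx1 : x ≠ 1 := by
    rintro rfl
    rw [orderOf_one] at ho
    omega
  obtain ⟨g, h1, ⟨j, hj⟩, h3⟩ := move_z h2 hc hx2 hx
  obtain ⟨φ, hφ⟩ := chi_ex tE8 (prim2 h2) two_pos h3 (sq_conj g hx2)
  have h4 : φ ≠ gr c := by
    rintro rfl
    exact hne (conj_inj' ((Chi.eq_of (prim2 h2) boxChi hφ (chi_z hc)).trans h1.symm))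
  have h5 := hφ.mul (prim2 h2) (chi_z (p := p) hc)
  rw [← h1, conj_mul] at h5
  rw [← cz_conj_iff hj, cz_chi h2 hφ hc, kill_iff hc (hφ.ne_zero (prim2 h2) boxChi (conj_ne_one g hx1)) h4,
    ← DS.Nt.dd_conj g x, ← DS.Nt.dd_conj g (x * _), dd_chi (prim2 h2) hφ, dd_chi (prim2 h2) h5, Ne, Ne, add_right_inj]

theorem vec_z (h2 : p ≠ 2) (hc : Rt tE8 c) : ∃ v, v ≠ 0 ∧ ∀ y, Cz (sl p hc) y → ad chevE8 p y v = v := by
  obtain ⟨h, hh, hl⟩ := E8A.Frm.exists_inT (K := kb p)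
    (AddMonoidHom.mk' (fun a => ((cp tE8 a c : ℤ) : kb p)) fun a b => by rw [cp_add _ _ hc, Int.cast_add])
  have hl' : ∀ a, E8A.lv a h = ((cp tE8 a c : ℤ) : kb p) := hl
  refine ⟨h, fun e => ?_, fun y hy => ?_⟩
  · have h1 := hl' c
    rw [e, cp_self hc] at h1
    have h3 : E8A.lv c (0 : E8A.L8 (kb p)) = 0 := Finset.sum_eq_zero fun i _ => mul_zero _
    refine (prim2 h2).ne_one one_lt_two ?_
    rw [h3, Int.cast_ofNat] at h1
    linear_combination h1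
  · obtain ⟨m, hm, t, ht, rfl⟩ := dec_z h2 hc (hy _)
    obtain ⟨j, m', hm', rfl⟩ := (spl_psi hc (a1c hc)).dec hc hm
    obtain ⟨a, ha0, -, ha⟩ := inn_T hc ht
    have h1 := (sl_ck hc).center_of_cz
      (((DS.Nt.JL.Inn.self j).mul ((spl_psi hc (a1c hc)).cz hc hm').inn).mul ha) hy
    rw [mul_one] at h1
    have h3 : sl p hc j ∈ TT chevE8 (kb p) := by
      have h4 : sl p hc (j * hS a) ∈ TT chevE8 (kb p) := by
        rcases P.center_cases h1 with e | e <;> rw [e]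
        · rw [map_one]
          exact one_mem _
        · exact sl_hS_mem hc m1
      rwa [map_mul, mul_mem_cancel_right (sl_hS_mem hc ha0)] at h4
    have h5 : sl p hc j * m' * t ∈ E8A.stab h := by
      refine mul_mem (mul_mem (E8A.Frm.TT_le hh h3) (E8A.Frm.Sup_le_stab hh ?_ hm')) (E8A.Frm.TT_le hh ht)
      rintro b ⟨hb, n1, n2⟩
      exact ⟨hb.1, by rw [hl', ((of_gr hb.1 hc hb.2).resolve_left n1).resolve_left n2, Int.cast_zero]⟩
    exact h5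

/-- a conjugating element carries the root `SL₂` along -/
theorem conj_range (h2 : p ≠ 2) (hc : Rt tE8 c) {c' : Lat 8} (hc' : Rt tE8 c') {n : Y8 p}
    (hn : n * sl p hc (hS (-1)) * n⁻¹ = sl p hc' (hS (-1))) (s : SL (kb p)) :
    n * sl p hc s * n⁻¹ ∈ (sl p hc').range := by
  obtain ⟨m, hm, w, k, hk, e, rfl⟩ := form_one (hp := tE8) (chi_z hc).1 (chi_z hc').1 hn
  rw [(chi_z hc').psiS (prim2 h2)] at hm
  have h1 := (chi_z (p := p) hc).of_conj (prim2 h2) (chi_z hc') (w := w) fun a ha => by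
    rw [← e]
    exact ch_rp hk (chi_z hc).1 ha
  have h3 : wa tE8 w c = c' ∨ wa tE8 w c = -c' :=
    pm_of hc hc' (f := BpExc.Fr.repAut _ tE8.isCartan w) (hc.wa' w) (fun a => cp_wa w a hc) h1
  have h4 : ∀ a, a = c' ∨ a = -c' → XR chevE8 8 p a ≤ (sl p hc').range := by
    rintro _ (rfl | rfl)
    exacts [X_le_sl hc', X_neg_le_sl hc']
  obtain ⟨B, hB⟩ := range_le (f := (MulAut.conj k).toMonoidHom.comp (sl p hc)) (K := (sl p hc').range) (fun t => by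
    obtain ⟨μ, -, h5⟩ := rp_xc hk hc
    show k * sl p hc (up t) * k⁻¹ ∈ _
    rw [sl_up, h5]
    exact h4 _ h3 (xc_mem_XR (hc.wa' w) _)) (fun t => by
    obtain ⟨μ, -, h5⟩ := rp_xc hk hc.neg'
    show k * sl p hc (lo t) * k⁻¹ ∈ _
    rw [sl_lo, h5]
    refine h4 _ ?_ (xc_mem_XR (hc.neg'.wa' w) _)
    rw [wa_neg]
    rcases h3 with h | h
    · exact Or.inr (by rw [h])
    · exact Or.inl (by rw [h, neg_neg])) s
  obtain ⟨j, hj⟩ := (spl_psi hc' (a1c hc')).inn _ hm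
  refine ⟨j * B * j⁻¹, ?_⟩
  rw [← hj, hB]
  show m * (k * sl p hc s * k⁻¹) * m⁻¹ = _
  group

theorem far_z (h2 : p ≠ 2) (hc : Rt tE8 c) {t : Y8 p} (hne : t * sl p hc (hS (-1)) * t⁻¹ ≠ sl p hc (hS (-1)))
    (hz : Cz (sl p hc) (t * sl p hc (hS (-1)) * t⁻¹)) (s : SL (kb p)) : Cz (sl p hc) (t * sl p hc s * t⁻¹) := by
  have hz2 := sq_conj t ((chi_z (p := p) hc).pow_eq_one (prim2 h2))
  obtain ⟨g, h1, ⟨j, hj⟩, h3⟩ := move_z h2 hc hz2 (hz _)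
  obtain ⟨c', hc', e⟩ := exists_z h2 h3 (sq_conj g hz2) (by rw [DS.Nt.dd_conj, DS.Nt.dd_conj, dd_z h2])
  have h4 := cz_conj hj hz
  rw [e, cz_chi h2 (chi_z hc') hc] at h4
  have h5 : gr c' ≠ gr c := fun e' =>
    hne (conj_inj' ((e.trans (Chi.eq_of (prim2 h2) boxChi (e' ▸ chi_z hc') (chi_z hc))).trans h1.symm))
  have h6 : cp tE8 c c' = 0 := by
    rcases of_gr hc hc' h4 with h | h | h
    · exact absurd (by rw [h]) h5
    · exact absurd (by rw [h, gr_neg tE8 hc']) h5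
    · exact h
  obtain ⟨B, hB⟩ := conj_range h2 hc hc' (n := g * t) (by rw [← e]; group) s
  rw [← cz_conj_iff hj, show g * (t * sl p hc s * t⁻¹) * g⁻¹ = g * t * sl p hc s * (g * t)⁻¹ by group, ← hB]
  exact fun A => (P.sl_comm hc hc' (far_of p hc hc' h6) A B).symm

/-- **The centre of a root `SL₂`.** -/
theorem ja_std (h2 : p ≠ 2) (hc : Rt tE8 c) : JA p (sl p hc (hS (-1))) (sl p hc) :=
  ⟨sl_ck hc, rfl, fun y hy => inn_z h2 hc hy, fun x ho hne hx => q8_z h2 hc ho hne hx, vec_z h2 hc,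
    fun t hne hz => far_z h2 hc hne hz⟩

/-- the conjugate homomorphism -/
abbrev cjh {G Y : Type*} [Group G] [Group Y] (g : Y) (ψ : G →* Y) : G →* Y := (MulAut.conj g).toMonoidHom.comp ψ

theorem cjh_apply {G Y : Type*} [Group G] [Group Y] (g : Y) (ψ : G →* Y) (s : G) : cjh g ψ s = g * ψ s * g⁻¹ := rfl

theorem cz_cjh {k Y : Type*} [Field k] [Group Y] {ψ : SL k →* Y} {g y : Y} : Cz (cjh g ψ) (g * y * g⁻¹) ↔ Cz ψ y := by
  refine forall_congr' fun s => ?_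
  rw [cjh_apply, conj_mul, conj_mul]
  exact ⟨conj_inj', fun h => by rw [h]⟩

theorem exists_cj {Y : Type*} [Group Y] (g y : Y) : ∃ y', y = g * y' * g⁻¹ := ⟨g⁻¹ * y * g, by group⟩

theorem ja_conj {z : Y8 p} {ψ : SL (kb p) →* Y8 p} (h : JA p z ψ) (g : Y8 p) : JA p (g * z * g⁻¹) (cjh g ψ) := by
  refine ⟨fun s hs => h.ck s (conj_eq_one_iff.1 hs), by rw [cjh_apply, h.ctr], fun y hy => ?_, fun x ho hne hx => ?_, ?_,
    fun t hne hz s => ?_⟩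
  · obtain ⟨y, rfl⟩ := exists_cj g y
    rw [conj_mul, conj_mul] at hy
    obtain ⟨j, hj⟩ := h.inn y (conj_inj' hy)
    refine ⟨j, fun s => ?_⟩
    rw [cjh_apply, cjh_apply, ← hj s]
    group
  · obtain ⟨x, rfl⟩ := exists_cj g x
    rw [conj_mul, conj_mul] at hx
    rw [cz_cjh, conj_mul, DS.Nt.dd_conj, DS.Nt.dd_conj]
    exact h.q8 x (((MulAut.conj g).orderOf_eq x).symm.trans ho) (fun e => hne (by rw [e])) (conj_inj' hx)
  · obtain ⟨v, hv, h1⟩ := h.vec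
    refine ⟨ad chevE8 p g v, fun e => hv ?_, fun y hy => ?_⟩
    · rw [← DS.Nt.ad_one (p := p) v, ← inv_mul_cancel g, DS.Nt.ad_mul, e, map_zero]
    · obtain ⟨y, rfl⟩ := exists_cj g y
      rw [← DS.Nt.ad_mul, inv_mul_cancel_right, DS.Nt.ad_mul, h1 y (cz_cjh.1 hy)]
  · obtain ⟨t, rfl⟩ := exists_cj g t
    have e : ∀ y : Y8 p, g * t * g⁻¹ * (g * y * g⁻¹) * (g * t * g⁻¹)⁻¹ = g * (t * y * t⁻¹) * g⁻¹ := fun y => by group
    rw [e] at hne hz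
    rw [cjh_apply, e, cz_cjh]
    exact h.far t (fun e' => hne (by rw [e'])) (cz_cjh.1 hz) s

end Cfsg.Agent.Cam.E8O.J
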