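import Cfsg.Agent.Cam.E8.OBasic
import Cfsg.Agent.DS.Nt.P8Comb
import Cfsg.Agent.Cam.Ex.PFr

/-!
# S3690, the row `E₈`, odd characteristic, `BoxJ`: the lattice modulo two (helper91)

The functionals modulo two that kill `128` roots are the functionals `gr c` of the roots.
-/

set_option autoImplicit false
set_option linter.unusedVariables false

namespace Cfsg.Agent.Cam.E8O.J

open CoxeterSystem Cfsg Cfsg.Lie Subgroup Module
open Cfsg.Agent.ChevalleyStructure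
open Cfsg.Agent.Tits.Roots Cfsg.Agent.Nodes.BNOf Cfsg.Agent.Nodes.RGDChev Cfsg.Agent.KFacts.RgdChevCoord
open Cfsg.Agent.ChevalleyStructure.CoxeterGeom Cfsg.Agent.ChevalleyStructure.CoxeterGeomTypes
open Cfsg.Agent.Cam.Spor Cfsg.Agent.Cam.Ex Cfsg.Agent.Cam.Ex.S2 Cfsg.Agent.Cam.Odd
open Cfsg.Agent.DS.Nt.P8 (mr cr ix SB NB bt Fn HasM gr exists_hasM hasM_gr gr_apply gr_neg eq_of_gr tab2 tab3 bt_inj)

theorem tabA : ∀ F < 256, RootVecTab.sumLT (fun r => cond (DS.Nt.P8.PT.testBit (F &&& mr r)) 0 1) 240 =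
    cond (F == 0) 240 (cond (NB.testBit F) 128 112) := by
  decide +kernel

theorem tabB : ∀ F < 256, F ≠ 0 → ∀ r < 240,
    (F == cr r || (DS.Nt.P8.PT.testBit (F &&& mr r) == (NB.testBit (F ^^^ cr r) == NB.testBit F))) = true := by
  decide +kernel

theorem nk_filter (φ : Fn) :
    nk tE8 φ = (Finset.univ.filter fun s : Fin chevE8.nroots => φ (vec chevE8 8 s) = 0).card := by
  classical
  have h1 : Psi tE8 φ = (fun s : Fin chevE8.nroots => vec chevE8 8 s) ''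
      ((Finset.univ.filter fun s : Fin chevE8.nroots => φ (vec chevE8 8 s) = 0 : Finset _) : Set _) := by
    ext a
    constructor
    · rintro ⟨ha, h⟩
      obtain ⟨r, hr, rfl⟩ := (isRoot_iff tE8 _ a).1 ha
      exact ⟨⟨r, hr⟩, Finset.mem_coe.2 (Finset.mem_filter.2 ⟨Finset.mem_univ _, h⟩), rfl⟩
    · rintro ⟨s, hs, rfl⟩
      exact ⟨(isRoot_iff tE8 _ _).2 ⟨s, s.2, rfl⟩, (Finset.mem_filter.1 (Finset.mem_coe.1 hs)).2⟩
  rw [nk, h1, Set.ncard_image_of_injective _ fun a b hab => Fin.ext (vec_inj tE8 a.2 b.2 hab), Set.ncard_coe_finset]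

theorem nk_mask {φ : Fn} {F : ℕ} (hF : HasM φ F) : nk tE8 φ = cond (F == 0) 240 (cond (NB.testBit F) 128 112) := by
  rw [← tabA F hF.1, nk_filter, RootVec.sumLT_eq,
    ← Fin.sum_univ_eq_sum_range (fun r => cond (DS.Nt.P8.PT.testBit (F &&& mr r)) 0 1) 240, Finset.card_filter]
  refine Finset.sum_congr rfl fun s _ => ?_
  rw [hF.vec s.2]
  cases DS.Nt.P8.PT.testBit (F &&& mr s) <;> rfl

theorem hasM_zero : HasM 0 0 := ⟨by norm_num, fun i => by rw [Nat.zero_testBit]; rfl⟩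

theorem mask_ne {φ : Fn} {F : ℕ} (hF : HasM φ F) (h : φ ≠ 0) : F ≠ 0 := by
  rintro rfl
  exact h (hF.ext hasM_zero)

theorem nk_mask' {φ : Fn} {F : ℕ} (hF : HasM φ F) (h : φ ≠ 0) : nk tE8 φ = cond (NB.testBit F) 128 112 := by
  rw [nk_mask hF, beq_false_of_ne (mask_ne hF h)]
  rfl

/-- the functionals killing `128` roots -/
theorem exists_root {φ : Fn} (h : nk tE8 φ = 128) : ∃ c, Rt tE8 c ∧ φ = gr c := by
  obtain ⟨F, hF⟩ := exists_hasM φ
  have h1 : NB.testBit F = true := by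
    rw [nk_mask hF] at h
    revert h
    cases (F == 0) <;> cases NB.testBit F <;> simp
  obtain ⟨h2, h3⟩ := tab2 F hF.1 h1
  refine ⟨_, isRoot_vec tE8 _ h2, hF.ext ?_⟩
  have h4 := hasM_gr tE8 h2
  rwa [h3] at h4

theorem gr_cp {c : Lat 8} (hc : Rt tE8 c) (a : Lat 8) : gr c a = (cp tE8 a c : ZMod 2) := gr_apply tE8 a hc

theorem nk_gr {c : Lat 8} (hc : Rt tE8 c) : nk tE8 (gr c) = 128 := by
  obtain ⟨r, hr, rfl⟩ := (isRoot_iff tE8 _ c).1 hc
  have h1 := hasM_gr tE8 hr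
  have h2 := (tab3 r hr).1
  have h3 : cr r ≠ 0 := fun e => by
    rw [e] at h2
    exact absurd h2 (by decide +kernel)
  rw [nk_mask h1, beq_false_of_ne h3, h2]
  rfl

/-- the class changes exactly for the functionals killing `c` -/
theorem kill_iff {φ : Fn} {c : Lat 8} (hc : Rt tE8 c) (h0 : φ ≠ 0) (h1 : φ ≠ gr c) :
    φ c = 0 ↔ nk tE8 (φ + gr c) ≠ nk tE8 φ := by
  obtain ⟨r, hr, rfl⟩ := (isRoot_iff tE8 _ c).1 hc
  obtain ⟨F, hF⟩ := exists_hasM φ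
  have h2 := hasM_gr tE8 hr
  have h3 : F ≠ cr r := fun e => h1 (hF.ext (e ▸ h2))
  have h4 : φ + gr (vec chevE8 8 r) ≠ 0 := fun e => h1 (AddMonoidHom.ext fun a => by
    have h5 := DFunLike.congr_fun e a
    rw [AddMonoidHom.add_apply, AddMonoidHom.zero_apply] at h5
    exact (by decide : ∀ x y : ZMod 2, x + y = 0 → x = y) _ _ h5)
  have h5 := tabB F hF.1 (mask_ne hF h0) r hr
  rw [beq_false_of_ne h3, Bool.false_or, beq_iff_eq] at h5
  rw [nk_mask' hF h0, nk_mask' (hF.add h2) h4, hF.vec hr, h5]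
  cases NB.testBit (F ^^^ cr r) <;> cases NB.testBit F <;> decide

theorem n8 : (∀ i j, CoxeterMatrix.E₈ i j ≠ 4) ∧ ∀ i j, CoxeterMatrix.E₈ i j ≠ 6 := by
  refine ⟨fun i j => ?_, fun i j => ?_⟩ <;> fin_cases i <;> fin_cases j <;> decide

theorem abs_cp {a c : Lat 8} (ha : Rt tE8 a) (hc : Rt tE8 c) (h1 : a ≠ c) (h2 : a ≠ -c) : |cp tE8 a c| ≤ 1 := by
  have := finite_WW tE8
  exact Nodes.SimplyLaced.abs_cpr_le_one _ _ n8.1 n8.2 ha hc h1 h2

theorem cp_symm {a b : Lat 8} (ha : Rt tE8 a) (hb : Rt tE8 b) : cp tE8 a b = cp tE8 b a := by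
  have := finite_WW tE8
  exact Nodes.SimplyLaced.cpr_symm _ _ n8.1 n8.2 ha hb

theorem of_gr {a c : Lat 8} (ha : Rt tE8 a) (hc : Rt tE8 c) (h : gr c a = 0) : a = c ∨ a = -c ∨ cp tE8 a c = 0 := by
  by_cases h1 : a = c
  · exact Or.inl h1
  by_cases h2 : a = -c
  · exact Or.inr (Or.inl h2)
  have h3 := abs_le.1 (abs_cp ha hc h1 h2)
  rw [gr_cp hc, ZMod.intCast_zmod_eq_zero_iff_dvd] at h
  exact Or.inr (Or.inr (by omega))

theorem a1c {c : Lat 8} (hc : Rt tE8 c) : A1c tE8 (Psi tE8 (gr c)) c :=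
  ⟨⟨hc, by rw [gr_cp hc, cp_self hc]; rfl⟩, fun a ha => of_gr ha.1 hc ha.2⟩

theorem far_of {a c : Lat 8} (p : ℕ) (ha : Rt tE8 a) (hc : Rt tE8 c) (h : cp tE8 a c = 0) : Far tE8 p a c := by
  refine ⟨h, Or.inr fun h1 => ?_⟩
  have h2 : cp tE8 (a + c) c = 2 := by rw [cp_add _ _ hc, h, cp_self hc, zero_add]
  have h3 := abs_cp h1 hc (fun e => ha.ne_zero' (add_eq_right.1 e)) (P.ne_neg_of_cp hc (by omega))
  rw [h2] at h3
  exact absurd h3 (by decide)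

/-- an automorphism of the root system carrying `gr c` to `gr c'` -/
theorem pm_of {c c' : Lat 8} (hc : Rt tE8 c) (hc' : Rt tE8 c') {f : Lat 8 ≃+ Lat 8} (hr : Rt tE8 (f c))
    (h1 : ∀ a, cp tE8 (f a) (f c) = cp tE8 a c) (h2 : ∀ a, gr c' (f a) = gr c a) : f c = c' ∨ f c = -c' := by
  refine eq_of_gr tE8 hc' hr (AddMonoidHom.ext fun a => ?_)
  obtain ⟨a, rfl⟩ := f.surjective a
  rw [h2, gr_cp hr, h1, gr_cp hc]

theorem exists_odd {c : Lat 8} (hc : Rt tE8 c) : ∃ a, Rt tE8 a ∧ Odd (cp tE8 a c) := by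
  by_contra h
  have h1 : gr c = 0 := ext_rt (hp := tE8) fun a ha => by
    rw [gr_cp hc, AddMonoidHom.zero_apply, ZMod.intCast_zmod_eq_zero_iff_dvd]
    exact even_iff_two_dvd.1 (Int.not_odd_iff_even.1 fun e => h ⟨a, ha, e⟩)
  have h2 := nk_gr hc
  rw [h1, nk_mask hasM_zero] at h2
  exact absurd h2 (by decide)

end Cfsg.Agent.Cam.E8O.J
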