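import Cfsg.Agent.Cam.Ex.ConnTor
import Cfsg.Agent.DS.Nt.Kac

/-!
# S3690, the row `E₈`, the box Vec: the lattice (helper10)

* `conn8` : the stabilizer in `W(E₈)` of a family of characters of prime order `r ≥ 7` is a reflection group;
* `sub_mem_span` : the reflection group of `S` acts trivially modulo the span of `S`;
* `exists_fun` : the roots killed by a non-trivial character of prime order `r ≥ 7` have rank at most seven;
* `short` : the shortest vector argument.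
-/

set_option autoImplicit false
set_option linter.unusedVariables false
set_option linter.unusedSectionVars false

namespace Cfsg.Agent.Cam.E8O.Vec

open CoxeterSystem Cfsg Cfsg.Lie Subgroup
open Cfsg.Agent.ChevalleyStructure.CoxeterGeom Cfsg.Agent.ChevalleyStructure.CoxeterGeomTypes
open Cfsg.Agent.Tits.Roots Cfsg.Agent.Nodes.BNOf Cfsg.Agent.Nodes.RGDChev Cfsg.Agent.Nodes.Coroot
open Cfsg.Agent.KFacts.RgdChevCoord Cfsg.Agent.BpExc.TorCent Cfsg.Agent.BpExc.LangFr Cfsg.Agent.BpExc.SubBN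
open Cfsg.Agent.H129.TorusChar Cfsg.Agent.H795.SetTor Cfsg.Agent.H795.SetCent Cfsg.Agent.H795
open Cfsg.Agent.Cam.Ex

/-- the stabilizer in `W` of a set of `r`-elements of the torus is generated by reflections -/
theorem mem_WW8 {p : ℕ} [Fact p.Prime] {r : ℕ} (hr : r.Prime) (h7 : 7 ≤ r) {Z : Set (YY chevE8 p)}
    (hZ : ∀ t ∈ Z, t ∈ TT chevE8 (kb p) ∧ ∃ n : ℕ, t ^ r ^ n = 1) {w : CoxeterMatrix.E₈.Group}
    (hw : ∀ a, Rt tE8 a → ∀ t ∈ Z, ch tE8 (wa tE8 w a) t = ch tE8 a t) : w ∈ WW tE8 (PsiS tE8 Z) := by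
  have := finite_WW tE8
  obtain ⟨h1, h2⟩ := RowsA.torsE8 tE8 hr (by omega) (by omega)
  obtain ⟨m, hm, hmw⟩ := CW_le_VV (DS.Nt.tw tE8 p) (DS.Nt.coW tE8 p) (DS.Nt.chW tE8 p)
    (DS.Nt.sub_TL fun t ht => (hZ t ht).1) hr (fun t ht => (hZ t ht).2) h1 h2 (mem_CW.2 hw)
  rw [DS.Nt.XLe tE8 p] at hm
  exact DS.Ex.Tor.mem_WS (cs_psiS fun t ht => (hZ t ht).1) (mem_sup_left hm) hmw

/-- the stabilizer of a family of characters of prime order `r ≥ 7` -/
theorem conn8 {r : ℕ} (hr : r.Prime) (h7 : 7 ≤ r) (Φ : Set (Lat 8 →+ ZMod r)) (w : CoxeterMatrix.E₈.Group)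
    (hw : ∀ φ ∈ Φ, Fixs tE8 w φ) : w ∈ WW tE8 {a | Rt tE8 a ∧ ∀ φ ∈ Φ, φ a = 0} := by
  have : Fact (Nat.Prime 2) := ⟨Nat.prime_two⟩
  have : NeZero r := ⟨hr.ne_zero⟩
  obtain ⟨ζ, hζ⟩ := exists_zeta 2 (m := r) ((Nat.coprime_primes hr Nat.prime_two).2 (by omega))
  have h1 := mem_WW8 (p := 2) hr h7 (Z := {t | ∃ φ ∈ Φ, Chi tE8 ζ t φ}) (w := w)
    (by
      rintro t ⟨φ, -, h⟩
      exact ⟨h.1, 1, by rw [pow_one]; exact h.pow_eq_one hζ⟩)
    (by
      rintro a ha t ⟨φ, hφ, h⟩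
      rw [h.2 _ (ha.wa' w), h.2 a ha, hw φ hφ a])
  have h2 : PsiS tE8 {t : YY chevE8 2 | ∃ φ ∈ Φ, Chi tE8 ζ t φ} = {a | Rt tE8 a ∧ ∀ φ ∈ Φ, φ a = 0} := by
    ext a
    constructor
    · rintro ⟨ha, h3⟩
      refine ⟨ha, fun φ hφ => ?_⟩
      obtain ⟨t, ht⟩ := chi_sur tE8 hζ φ
      refine (zeta_eq_one hζ).1 ?_
      rw [← ht.2 a ha]
      exact h3 t ⟨φ, hφ, ht⟩
    · rintro ⟨ha, h3⟩
      refine ⟨ha, ?_⟩
      rintro t ⟨φ, hφ, h⟩
      rw [h.2 a ha, h3 φ hφ, ZMod.val_zero, pow_zero]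
  rwa [h2] at h1

/-- the reflection group of `S` acts trivially modulo the span of `S` -/
theorem sub_mem_span {S : Set (Lat 8)} {w : CoxeterMatrix.E₈.Group} (hw : w ∈ WW tE8 S) (a : Lat 8) :
    wa tE8 w a - a ∈ Submodule.span ℤ S := by
  have := finite_WW tE8
  unfold WW WS at hw
  induction hw using Subgroup.closure_induction generalizing a with
  | mem x hx =>
    obtain ⟨v, j, h1, rfl⟩ := hx
    have e := rep_rfl'_eq CoxeterMatrix.E₈.toCoxeterSystem tE8.isCartan v j a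
    unfold wa
    rw [e, sub_sub_cancel_left]
    exact neg_mem (Submodule.smul_mem _ _ (Submodule.subset_span h1))
  | one =>
    unfold wa
    rw [map_one, Module.End.one_apply, sub_self]
    exact zero_mem _
  | mul x y _ _ hx hy =>
    have e : wa tE8 (x * y) a - a = (wa tE8 x (wa tE8 y a) - wa tE8 y a) + (wa tE8 y a - a) := by
      unfold wa
      rw [map_mul, Module.End.mul_apply, sub_add_sub_cancel]
    rw [e]
    exact add_mem (hx _) (hy _)
  | inv x _ hx =>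
    have h1 := hx (wa tE8 x⁻¹ a)
    unfold wa at h1 ⊢
    rw [rep_apply_inv] at h1
    have h2 := neg_mem h1
    rwa [neg_sub] at h2

/-- the roots killed by a non-trivial character of prime order `r ≥ 7` do not span the space -/
theorem exists_fun {r : ℕ} (hr : r.Prime) (h7 : 7 ≤ r) {φ : Lat 8 →+ ZMod r} (h0 : ∃ x, φ x ≠ 0) :
    ∃ f : Lat 8 →+ ℤ, (∃ x, f x ≠ 0) ∧ ∀ a, Rt tE8 a → φ a = 0 → f a = 0 := by
  have : NeZero r := ⟨hr.ne_zero⟩
  let b : Lat 8 →+ ℤ := ofSr fun i => ((φ (sr i)).val : ℤ)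
  have hb : ∀ x, ((b x : ℤ) : ZMod r) = φ x := by
    intro x
    have h1 : (Int.castAddHom (ZMod r)).comp b = φ := by
      refine AddMonoidHom.ext fun a => ?_
      rw [IsMC.eq_sum_sr a, map_sum, map_sum]
      refine Finset.sum_congr rfl fun i _ => ?_
      rw [map_zsmul, map_zsmul]
      congr 1
      show ((ofSr (fun i => ((φ (sr i)).val : ℤ)) (sr i) : ℤ) : ZMod r) = _
      rw [ofSr_sr, Int.cast_natCast, ZMod.natCast_zmod_val]
    exact DFunLike.congr_fun h1 x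
  obtain ⟨w, c, c0, K, h⟩ := H931.KC.exists_alcove tE8 hr.pos b
  have hc : ∀ x, (r : ℤ) ∣ H931.KC.bb c x ↔ φ (wa tE8 w x) = 0 := by
    intro x
    rw [← hb, ZMod.intCast_zmod_eq_zero_iff_dvd]
    have h1 : (r : ℤ) ∣ H931.KC.bb c x - b (wa tE8 w x) := h x
    constructor
    · intro h2
      have h3 := dvd_sub h2 h1
      rwa [sub_sub_cancel] at h3
    · intro h2
      have h3 := dvd_add h1 h2
      rwa [sub_add_cancel] at h3
  have hne : ¬ ∀ x, (r : ℤ) ∣ H931.KC.bb c x := by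
    intro h1
    obtain ⟨x, hx⟩ := h0
    have h2 := (hc (wa tE8 w⁻¹ x)).1 (h1 _)
    unfold wa at h2
    rw [rep_apply_inv] at h2
    exact hx h2
  have hD : DS.Ex.Typ chevE8 := Or.inr (Or.inr (Or.inr rfl))
  rcases DS.Nt.exists_fun_of_kac tE8 hD hr K hne with ⟨i, h1, -⟩ | ⟨f, hf, x, hx, -⟩
  · have h2 := DS.Nt.hr_le tE8 hD i
    omega
  · refine ⟨f.comp (rep CoxeterMatrix.E₈.toCoxeterSystem tE8.isCartan w⁻¹).toAddMonoidHom, ⟨wa tE8 w x, ?_⟩,
      fun a ha h1 => ?_⟩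
    · show f (rep _ _ w⁻¹ (rep _ _ w x)) ≠ 0
      rw [rep_inv_apply]
      exact hx.ne'
    · refine hf _ (ha.act _) ((hc _).2 ?_)
      show φ (rep _ _ w (rep _ _ w⁻¹ a)) = 0
      rw [rep_apply_inv]
      exact h1

/-- additive maps to the prime field separate points -/
theorem exists_add {K : Type*} [Field K] (p : ℕ) [Fact p.Prime] [CharP K p] {x : K} (hx : x ≠ 0) :
    ∃ l : K →+ ZMod p, l x ≠ 0 := by
  letI : Algebra (ZMod p) K := ZMod.algebra K p
  by_contra h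
  push Not at h
  exact hx ((Module.forall_dual_apply_eq_zero_iff (ZMod p) x).1 fun l => h l.toAddMonoidHom)

/-- the shortest vector -/
theorem short {Q : Type*} [AddCommGroup Q] {w : Module.End ℤ Q} {N : ℕ} (hN : N ≠ 0) (hw : w ^ N = 1) {S : Set Q}
    (hS : ∀ a ∈ S, w a ∈ S) {f : Q →+ ℤ} (h0 : ∃ x, f x ≠ 0) (hf : ∀ a ∈ S, f a = 0) {q : ℕ} (hq : 7 ≤ q)
    (h : ∀ x, ∃ y, (5 : ℤ) • x - (w - (q : ℤ) • (1 : Module.End ℤ Q)) y ∈ Submodule.span ℤ S) : False := by
  classical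
  let ν : Q → ℕ := fun x => ∑ i ∈ Finset.range N, (f ((w ^ i) x)).natAbs
  have h1 : ∀ i : ℕ, ∀ a ∈ S, (w ^ i) a ∈ S := by
    intro i a ha
    induction i with
    | zero => rwa [pow_zero, Module.End.one_apply]
    | succ i ih => rw [pow_succ', Module.End.mul_apply]; exact hS _ ih
  have h2 : ∀ i : ℕ, ∀ a ∈ Submodule.span ℤ S, f ((w ^ i) a) = 0 := by
    intro i a ha
    induction ha using Submodule.span_induction with
    | mem a ha => exact hf _ (h1 i a ha)
    | zero => rw [map_zero, map_zero]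
    | add a b _ _ ha hb => rw [map_add, map_add, ha, hb, add_zero]
    | smul c a _ ha => rw [map_smul, map_zsmul, ha, smul_zero]
  have h3 : ∀ x, ν (w x) = ν x := by
    intro x
    obtain ⟨n, rfl⟩ := Nat.exists_eq_succ_of_ne_zero hN
    show ∑ i ∈ Finset.range (n + 1), (f ((w ^ i) (w x))).natAbs = ∑ i ∈ Finset.range (n + 1), (f ((w ^ i) x)).natAbs
    rw [Finset.sum_range_succ, Finset.sum_range_succ', ← Module.End.mul_apply, ← pow_succ, hw, pow_zero]
    congr 1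
  have h4 : ∀ x y, (5 : ℤ) • x - (w - (q : ℤ) • (1 : Module.End ℤ Q)) y ∈ Submodule.span ℤ S →
      q * ν y ≤ 5 * ν x + ν y ∧ 5 * ν x ≤ q * ν y + ν y := by
    intro x y hxy
    have h5 : ∀ i : ℕ, 5 * f ((w ^ i) x) = f ((w ^ i) (w y)) - q * f ((w ^ i) y) := by
      intro i
      have h6 := h2 i _ hxy
      simp only [LinearMap.sub_apply, LinearMap.smul_apply, Module.End.one_apply, map_sub, map_zsmul,
        smul_eq_mul] at h6
      linear_combination h6
    constructor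
    · conv_rhs => rw [← h3 y]
      show q * ∑ i ∈ Finset.range N, _ ≤ 5 * ∑ i ∈ Finset.range N, _ + ∑ i ∈ Finset.range N, _
      rw [Finset.mul_sum, Finset.mul_sum, ← Finset.sum_add_distrib]
      refine Finset.sum_le_sum fun i _ => ?_
      have h6 := h5 i
      have h7 : (q : ℤ) * f ((w ^ i) y) = f ((w ^ i) (w y)) - 5 * f ((w ^ i) x) := by linear_combination h6
      have h8 := Int.natAbs_sub_le (f ((w ^ i) (w y))) (5 * f ((w ^ i) x))
      rw [← h7, Int.natAbs_mul, Int.natAbs_mul, Int.natAbs_natCast] at h8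
      rw [add_comm]
      exact h8
    · have e : q * ν y + ν y = q * ν y + ν (w y) := by rw [h3]
      rw [e]
      show 5 * ∑ i ∈ Finset.range N, _ ≤ q * ∑ i ∈ Finset.range N, _ + ∑ i ∈ Finset.range N, _
      rw [Finset.mul_sum, Finset.mul_sum, ← Finset.sum_add_distrib]
      refine Finset.sum_le_sum fun i _ => ?_
      have h8 := Int.natAbs_sub_le (f ((w ^ i) (w y))) (q * f ((w ^ i) y))
      rw [← h5, Int.natAbs_mul, Int.natAbs_mul, Int.natAbs_natCast] at h8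
      rw [add_comm]
      exact h8
  have h5 : ∀ n x, ν x = n → n = 0 := by
    intro n
    induction n using Nat.strong_induction_on with
    | _ n ih =>
      intro x hx
      obtain ⟨y, hy⟩ := h x
      obtain ⟨h6, h7⟩ := h4 x y hy
      by_contra hn
      have h8 : 7 * ν y ≤ q * ν y := Nat.mul_le_mul_right _ hq
      have h9 := ih (ν y) (by omega) y rfl
      rw [h9] at h7
      omega
  obtain ⟨x, hx⟩ := h0
  have h6 := h5 _ x rfl
  have h7 := (Finset.sum_eq_zero_iff.1 h6) 0 (Finset.mem_range.2 (Nat.pos_of_ne_zero hN))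
  rw [pow_zero, Module.End.one_apply, Int.natAbs_eq_zero] at h7
  exact hx h7

end Cfsg.Agent.Cam.E8O.Vec
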